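import Cfsg.Agent.Lib.KnownB.PSpAut.Core
import Cfsg.Agent.Lib.Geometry.FieldCriterion
import Cfsg.Agent.Lib.FT.OddOrderTheorem

/-!
Group theory used for the local balance criteria: normal `p'`-subgroups of a centraliser, given as
subgroups of the ambient group.
-/

set_option autoImplicit false

namespace CfsgLib.FgsC.LocalBalance

variable {X : Type*} [Group X]

theorem core_eq_bot {p : ℕ} (H : Subgroup X)
    (h : ∀ N ≤ H, (∀ a ∈ H, ∀ n ∈ N, a * n * a⁻¹ ∈ N) → (Nat.card N).Coprime p → N = ⊥) :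
    Cfsg.pPrimeCore p ↥H = ⊥ := by
  by_contra hne
  obtain ⟨M, hM, hMp, hM1⟩ := (CfsgLib.KnownB.PSpAut.pPrimeCore_ne_bot_iff p).1 hne
  refine hM1 ((Subgroup.map_eq_bot_iff_of_injective M H.subtype_injective).1
    (h _ (Subgroup.map_subtype_le M) ?_ ?_))
  · rintro a ha _ ⟨m, hm, rfl⟩
    exact ⟨⟨a, ha⟩ * m * ⟨a, ha⟩⁻¹, hM.conj_mem m hm _, rfl⟩
  · rwa [Subgroup.card_map_of_injective H.subtype_injective]

theorem core_ne_bot {p : ℕ} (H J : Subgroup X) (hle : J ≤ H) (hn : ∀ a ∈ H, ∀ j ∈ J, a * j * a⁻¹ ∈ J)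
    (hc : (Nat.card J).Coprime p) (hne : J ≠ ⊥) : Cfsg.pPrimeCore p ↥H ≠ ⊥ := by
  refine (CfsgLib.KnownB.PSpAut.pPrimeCore_ne_bot_iff p).2 ⟨J.subgroupOf H, ⟨fun j hj a => hn a.1 a.2 _ hj⟩, ?_, ?_⟩
  · rwa [Nat.card_congr (Subgroup.subgroupOfEquivOfLe hle).toEquiv]
  · intro h
    rw [Subgroup.subgroupOf_eq_bot, disjoint_iff, inf_eq_left.2 hle] at h
    exact hne h

/-- The bottom of the centraliser criterion does not see conjugation. -/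
theorem core_centralizer_conj {G : Type*} [Group G] (α x : MulAut G) (A : Subgroup (MulAut G)) (p : ℕ)
    (hinn : ∀ k, MulAut.conj k ∈ A)
    (h : ∀ A' : Subgroup (MulAut G), (∀ k, MulAut.conj k ∈ A') →
      Cfsg.pPrimeCore p ↥(A' ⊓ Subgroup.centralizer {α * x * α⁻¹}) = ⊥) :
    Cfsg.pPrimeCore p ↥(A ⊓ Subgroup.centralizer {x}) = ⊥ := by
  set φ := MulAut.conj α
  have hmap : (A ⊓ Subgroup.centralizer {x}).map φ.toMonoidHom =
      A.map φ.toMonoidHom ⊓ Subgroup.centralizer {α * x * α⁻¹} := by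
    rw [Subgroup.map_inf _ _ _ φ.injective]
    congr 1
    ext y
    rw [Subgroup.mem_map, Subgroup.mem_centralizer_singleton_iff, show α * x * α⁻¹ = φ x from rfl]
    constructor
    · rintro ⟨z, hz, rfl⟩
      rw [Subgroup.mem_centralizer_singleton_iff] at hz
      show φ z * φ x = φ x * φ z
      rw [← map_mul, hz, map_mul]
    · intro hy
      refine ⟨φ.symm y, Subgroup.mem_centralizer_singleton_iff.2 (φ.injective ?_), φ.apply_symm_apply y⟩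
      rw [map_mul φ (φ.symm y), map_mul φ x, φ.apply_symm_apply]
      exact hy
  have hinn' : ∀ k, MulAut.conj k ∈ A.map φ.toMonoidHom := fun k =>
    ⟨MulAut.conj (α⁻¹ k), hinn _, MulEquiv.ext fun y => by
      show α (α⁻¹ k * α⁻¹ y * (α⁻¹ k)⁻¹) = k * y * k⁻¹
      simp⟩
  by_contra hne
  exact (CfsgLib.KnownB.PSpAut.pPrimeCore_ne_bot_congr
    (((A ⊓ Subgroup.centralizer {x}).equivMapOfInjective φ.toMonoidHom φ.injective).trans
      (MulEquiv.subgroupCongr hmap)) p).1 hne (h _ hinn')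

theorem inn_inf_normalized {G : Type*} [Group G] (A : Subgroup (MulAut G)) (x : MulAut G) :
    ∀ a ∈ A ⊓ Subgroup.centralizer {x}, ∀ j ∈ Cfsg.Inn G ⊓ Subgroup.centralizer {x},
      a * j * a⁻¹ ∈ Cfsg.Inn G ⊓ Subgroup.centralizer {x} := fun a ha _ hj =>
  ⟨(Cfsg.innNormal G).conj_mem _ hj.1 a,
    Subgroup.mul_mem _ (Subgroup.mul_mem _ ha.2 hj.2) (Subgroup.inv_mem _ ha.2)⟩

theorem inn_inf_le {G : Type*} [Group G] (A : Subgroup (MulAut G)) (hinn : ∀ k, MulAut.conj k ∈ A) (x : MulAut G) :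
    Cfsg.Inn G ⊓ Subgroup.centralizer {x} ≤ A ⊓ Subgroup.centralizer {x} :=
  inf_le_inf_right _ (fun _ ⟨k, hk⟩ => hk ▸ hinn k)

theorem card_fixed {G : Type*} [Group G] (hinj : Function.Injective (MulAut.conj : G →* MulAut G)) (x : MulAut G) :
    Nat.card ↥(MonoidHom.eqLocus x.toMonoidHom (MonoidHom.id G)) =
      Nat.card ↥(Cfsg.Inn G ⊓ Subgroup.centralizer {x}) := by
  have hfix : ∀ k, x k = k ↔ MulAut.conj k ∈ Subgroup.centralizer ({x} : Set (MulAut G)) := fun k => by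
    rw [Subgroup.mem_centralizer_singleton_iff, eq_comm (a := MulAut.conj k * x), ← mul_inv_eq_iff_eq_mul,
      show x * MulAut.conj k * x⁻¹ = MulAut.conj (x k) from MulEquiv.ext fun y => by simp, hinj.eq_iff]
  rw [Nat.card_congr ((MonoidHom.eqLocus x.toMonoidHom (MonoidHom.id G)).equivMapOfInjective _ hinj).toEquiv]
  congr 2
  ext β
  constructor
  · rintro ⟨k, hk, rfl⟩
    exact ⟨⟨k, rfl⟩, (hfix k).1 hk⟩
  · rintro ⟨⟨k, rfl⟩, hk⟩
    exact ⟨k, (hfix k).2 hk, rfl⟩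

/-- A normalised subgroup meeting `L` trivially with nothing centralising `L` is trivial. -/
theorem eq_bot_two_step (H J L N : Subgroup X) (hNH : N ≤ H) (hN : ∀ a ∈ H, ∀ n ∈ N, a * n * a⁻¹ ∈ N)
    (hJH : J ≤ H) (hJ : ∀ a ∈ H, ∀ j ∈ J, a * j * a⁻¹ ∈ J) (hLJ : L ≤ J) (hL : ∀ y ∈ J, ∀ l ∈ L, y * l * y⁻¹ ∈ L)
    (hNL : N ⊓ L = ⊥) (hC : ∀ n ∈ N, (∀ l ∈ L, n * l = l * n) → n = 1) : N = ⊥ := by
  have hcomm : ∀ n ∈ N, ∀ a ∈ H, n * a * n⁻¹ * a⁻¹ ∈ N := fun n hn a ha => by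
    rw [show n * a * n⁻¹ * a⁻¹ = n * (a * n⁻¹ * a⁻¹) by group]
    exact N.mul_mem hn (hN a ha _ (N.inv_mem hn))
  have hNJ : ∀ y ∈ N, y ∈ J → y = 1 := by
    intro y hy hyJ
    refine hC y hy fun l hl => ?_
    have h1 : y * l * y⁻¹ * l⁻¹ ∈ N ⊓ L :=
      ⟨hcomm y hy l (hJH (hLJ hl)), L.mul_mem (hL y hyJ l hl) (L.inv_mem hl)⟩
    rw [hNL, Subgroup.mem_bot, mul_inv_eq_one, mul_inv_eq_iff_eq_mul] at h1
    exact h1
  refine (Subgroup.eq_bot_iff_forall _).2 fun n hn => hC n hn fun l hl => ?_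
  have h1 := hNJ _ (hcomm n hn l (hJH (hLJ hl)))
    (J.mul_mem (hJ n (hNH hn) l (hLJ hl)) (J.inv_mem (hLJ hl)))
  rwa [mul_inv_eq_one, mul_inv_eq_iff_eq_mul] at h1

/-- A nontrivial normalised subgroup of odd order contains a nontrivial abelian one. -/
theorem exists_abelian [Finite X] (J Q : Subgroup X) (hQ : ∀ a ∈ J, ∀ y ∈ Q, a * y * a⁻¹ ∈ Q)
    (hodd : Odd (Nat.card Q)) (hne : Q ≠ ⊥) :
    ∃ Y ≤ Q, (∀ a ∈ J, ∀ y ∈ Y, a * y * a⁻¹ ∈ Y) ∧ (∀ y ∈ Y, ∀ z ∈ Y, y * z = z * y) ∧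
      Odd (Nat.card Y) ∧ Y ≠ ⊥ := by
  classical
  obtain ⟨Y, hYmin⟩ := (Set.toFinite
    {Y : Subgroup X | Y ≤ Q ∧ (∀ a ∈ J, ∀ y ∈ Y, a * y * a⁻¹ ∈ Y) ∧ Y ≠ ⊥}).exists_minimal ⟨Q, le_rfl, hQ, hne⟩
  obtain ⟨hYQ, hYn, hY1⟩ := hYmin.prop
  have hYodd : Odd (Nat.card Y) := hodd.of_dvd_nat (Subgroup.card_dvd_of_le hYQ)
  refine ⟨Y, hYQ, hYn, fun y hy z hz => ?_, hYodd, hY1⟩
  have hbot : ⁅Y, Y⁆ = ⊥ := by
    by_contra hc
    have hYY : ⁅Y, Y⁆ ≤ Y := Subgroup.commutator_le.2 fun a ha b hb =>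
      Y.mul_mem (Y.mul_mem (Y.mul_mem ha hb) (Y.inv_mem ha)) (Y.inv_mem hb)
    have hnorm : ∀ a ∈ J, ∀ w ∈ ⁅Y, Y⁆, a * w * a⁻¹ ∈ ⁅Y, Y⁆ := by
      intro a ha w hw
      have hle : (⁅Y, Y⁆).map (MulAut.conj a).toMonoidHom ≤ ⁅Y, Y⁆ := by
        rw [Subgroup.map_commutator]
        exact Subgroup.commutator_mono (by rintro _ ⟨y, hy, rfl⟩; exact hYn a ha y hy)
          (by rintro _ ⟨y, hy, rfl⟩; exact hYn a ha y hy)
      exact hle ⟨w, hw, rfl⟩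
    have heq : Y ≤ ⁅Y, Y⁆ := hYmin.le_of_le ⟨hYY.trans hYQ, hnorm, hc⟩ hYY
    haveI : Group.IsSolvable ↥Y := CfsgLib.FT.isSolvable_of_odd hYodd
    have hlt := Group.IsSolvable.commutator_lt_of_ne_bot (G := ↥Y) (H := (⊤ : Subgroup ↥Y)) (fun h => hY1 (by
      rw [← Subgroup.range_subtype Y, MonoidHom.range_eq_map, h, Subgroup.map_bot]))
    refine hlt.ne (Subgroup.map_injective Y.subtype_injective ?_)
    rw [Subgroup.map_commutator, ← MonoidHom.range_eq_map, Subgroup.range_subtype]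
    exact le_antisymm hYY heq
  exact Subgroup.commutator_eq_bot_iff_le_centralizer.1 hbot hz y hy

theorem eq_one_of_pow_eq_one {p : ℕ} {N : Subgroup X} (hNp : (Nat.card N).Coprime p) {n : X} (hn : n ∈ N)
    (h : n ^ p = 1) : n = 1 :=
  orderOf_eq_one_iff.1 (Nat.eq_one_of_dvd_coprimes hNp
    ((Subgroup.orderOf_mk n hn).symm.dvd.trans (orderOf_dvd_natCard _)) (orderOf_dvd_of_pow_eq_one h))

theorem eq_one_of_sq {N : Subgroup X} (hodd : Odd (Nat.card N)) {n : X} (hn : n ∈ N) (h : n * n = 1) : n = 1 :=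
  eq_one_of_pow_eq_one (Nat.coprime_two_right.2 hodd) hn (by rw [sq, h])

end CfsgLib.FgsC.LocalBalance
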