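import Cfsg.Agent.Lib.FgsC.LocalBalance.Abstract
import Cfsg.Agent.Lib.KnownB.PSLAut.FieldAut

/-!
An abelian group of odd order of projective similitudes of a diagonal (symmetric or hermitian) form in
dimension at least three, normalised by the special isometries, is trivial (odd characteristic).
-/

set_option autoImplicit false

namespace CfsgLib.FgsC.LocalBalance

open Matrix CfsgLib.KnownB.PSLAut

variable {n : ℕ} {F : Type*} [Field F]

local notation "Mn" => Matrix (Fin n) (Fin n) F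

/-- `g` is a similitude with multiplier `c` of the `σ`-sesquilinear form `diag d`. -/
def TIso (σ : F ≃+* F) (d : Fin n → F) (g : Mn) (c : F) : Prop :=
  (g.map σ)ᵀ * Matrix.diagonal d * g = c • Matrix.diagonal d

theorem TIso.mul {σ : F ≃+* F} {d : Fin n → F} {g h : Mn} {c c' : F} (hg : TIso σ d g c) (hh : TIso σ d h c') :
    TIso σ d (g * h) (c * c') := by
  unfold TIso at *
  rw [Matrix.map_mul, transpose_mul,
    show ((h.map σ)ᵀ * (g.map σ)ᵀ) * diagonal d * (g * h) = (h.map σ)ᵀ * ((g.map σ)ᵀ * diagonal d * g) * h by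
      simp only [mul_assoc], hg, Matrix.mul_smul, Matrix.smul_mul, hh, smul_smul]

theorem TIso.entry {σ : F ≃+* F} {d : Fin n → F} {g : Mn} {c : F} (hg : TIso σ d g c) (i j : Fin n) :
    ∑ k, σ (g k i) * d k * g k j = c * (if i = j then d i else 0) := by
  have h := congrFun (congrFun hg i) j
  rw [Matrix.mul_apply] at h
  simpa [Matrix.mul_diagonal, Matrix.diagonal_apply] using h

theorem tiso_diagonal {σ : F ≃+* F} {d t : Fin n → F} {c : F} (h : ∀ i, σ (t i) * t i = c) :
    TIso σ d (Matrix.diagonal t) c := by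
  rw [TIso, diagonal_map (map_zero σ), diagonal_transpose, diagonal_mul_diagonal, diagonal_mul_diagonal,
    ← diagonal_smul]
  congr 1
  funext i
  simp only [Function.comp_apply, Pi.smul_apply, smul_eq_mul, ← h i]
  ring

/-- The sign change at `a` and `b`. -/
def sgnGL (a b : Fin n) : GL (Fin n) F := diagGL fun i => if i = a ∨ i = b then -1 else 1

theorem sgnGL_val (a b : Fin n) :
    ((sgnGL a b : GL (Fin n) F) : Mn) = diagonal fun i => if i = a ∨ i = b then -1 else 1 := by
  simp [sgnGL, diagGL, apply_ite Units.val]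

theorem sgnGL_comm (a b : Fin n) : (sgnGL a b : GL (Fin n) F) = sgnGL b a := by
  refine Units.ext ?_
  simp only [sgnGL_val, or_comm]

theorem sgnGL_sq (a b : Fin n) : (sgnGL a b : GL (Fin n) F) * sgnGL a b = 1 := by
  refine Units.ext ?_
  rw [Units.val_mul, sgnGL_val, diagonal_mul_diagonal, Units.val_one, ← diagonal_one]
  congr 1
  funext i
  split_ifs <;> simp

theorem sgnGL_mul_comm (a b c e : Fin n) :
    (sgnGL a b : GL (Fin n) F) * sgnGL c e = sgnGL c e * sgnGL a b := by
  refine Units.ext ?_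
  simp only [Units.val_mul, sgnGL_val, diagonal_mul_diagonal]
  congr 1
  funext i
  exact mul_comm _ _

theorem sgnGL_chain {a b c : Fin n} (hab : a ≠ b) (hbc : b ≠ c) (hac : a ≠ c) :
    (sgnGL a b : GL (Fin n) F) * sgnGL b c = sgnGL a c := by
  refine Units.ext ?_
  simp only [Units.val_mul, sgnGL_val, diagonal_mul_diagonal]
  congr 1
  funext i
  by_cases h1 : i = a <;> by_cases h2 : i = b <;> by_cases h3 : i = c <;> simp_all

theorem sgnGL_det {a b : Fin n} (hab : a ≠ b) : ((sgnGL a b : GL (Fin n) F) : Mn).det = 1 := by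
  rw [sgnGL_val, det_diagonal, ← Finset.prod_subset (Finset.subset_univ {a, b}) (fun i _ hi => by
    simp only [Finset.mem_insert, Finset.mem_singleton] at hi
    rw [if_neg hi]), Finset.prod_pair hab]
  simp [hab]

theorem sgnGL_iso {σ : F ≃+* F} {d : Fin n → F} (a b : Fin n) :
    TIso σ d ((sgnGL a b : GL (Fin n) F) : Mn) 1 := by
  rw [sgnGL_val]
  exact tiso_diagonal fun i => by split_ifs <;> simp

theorem diagGL_conj_apply (u : Fin n → Fˣ) (g : GL (Fin n) F) (r s : Fin n) :
    ((diagGL u * g * (diagGL u)⁻¹ : GL (Fin n) F) : Mn) r s = (u r : F) * (g : Mn) r s * ((u s)⁻¹ : Fˣ) := by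
  simp [diagGL, Matrix.mul_diagonal, Matrix.diagonal_mul]

theorem sgn_conj_apply (a b : Fin n) (g : GL (Fin n) F) (r s : Fin n) :
    ((sgnGL a b * g * sgnGL a b : GL (Fin n) F) : Mn) r s =
      (if r = a ∨ r = b then (-1 : F) else 1) * (g : Mn) r s * (if s = a ∨ s = b then (-1 : F) else 1) := by
  simp [sgnGL_val, Matrix.mul_diagonal, Matrix.diagonal_mul]

theorem permGL_val (π : Equiv.Perm (Fin n)) :
    ((permGL π : GL (Fin n) F) : Mn) = Matrix.of fun r s => if r = π s then 1 else 0 := rfl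

theorem permGL_inv_val (π : Equiv.Perm (Fin n)) :
    (((permGL π)⁻¹ : GL (Fin n) F) : Mn) = Matrix.of fun r s => if r = π.symm s then 1 else 0 := rfl

theorem permGL_conj_apply (π : Equiv.Perm (Fin n)) (g : GL (Fin n) F) (r s : Fin n) :
    ((permGL π * g * (permGL π)⁻¹ : GL (Fin n) F) : Mn) r s = (g : Mn) (π.symm r) (π.symm s) := by
  rw [Units.val_mul, Units.val_mul, permGL_val, permGL_inv_val, Matrix.mul_apply,
    Finset.sum_eq_single (π.symm s) (fun k _ hk => by rw [Matrix.of_apply, if_neg hk, mul_zero]) (by simp),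
    Matrix.mul_apply,
    Finset.sum_eq_single (π.symm r) (fun k _ hk => by
      rw [Matrix.of_apply, if_neg (fun h => hk (by rw [h, Equiv.symm_apply_apply])), zero_mul]) (by simp)]
  simp

theorem permGL_det (π : Equiv.Perm (Fin n)) (hπ : Equiv.Perm.sign π = 1) :
    ((permGL π : GL (Fin n) F) : Mn).det = 1 := by
  have h : ((permGL π : GL (Fin n) F) : Mn) = (1 : Mn).submatrix π.symm id := by
    ext r s
    simp [permGL_val, Matrix.one_apply, Equiv.symm_apply_eq]
  rw [h, det_permute, det_one, mul_one, Equiv.Perm.sign_symm, hπ]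
  simp

theorem permGL_iso {σ : F ≃+* F} {d : Fin n → F} (π : Equiv.Perm (Fin n)) (hd : ∀ i, d (π i) = d i) :
    TIso σ d ((permGL π : GL (Fin n) F) : Mn) 1 := by
  rw [TIso, one_smul]
  ext i j
  rw [Matrix.mul_apply, Finset.sum_eq_single (π j) (fun k _ hk => by simp [permGL_val, hk]) (by simp)]
  simp only [Matrix.mul_diagonal, transpose_apply, map_apply, permGL_val, Matrix.of_apply, Matrix.diagonal_apply,
    EmbeddingLike.apply_eq_iff_eq, if_true, mul_one]
  rcases eq_or_ne i j with rfl | hij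
  · simp [hd]
  · simp [hij, hij.symm]

/-- The inclusion of the coordinates `i, j`. -/
def incl (F : Type*) [Field F] (i j : Fin n) : Matrix (Fin n) (Fin 2) F := Matrix.of fun r k => if r = ![i, j] k then 1 else 0

theorem incl_mul_apply (i j : Fin n) (hij : i ≠ j) (A : Matrix (Fin 2) (Fin 2) F) (r s : Fin n) :
    (incl F i j * A * (incl F i j)ᵀ) r s =
      if r = i then (if s = i then A 0 0 else if s = j then A 0 1 else 0)
      else if r = j then (if s = i then A 1 0 else if s = j then A 1 1 else 0) else 0 := by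
  simp only [Matrix.mul_apply, Fin.sum_univ_two, incl, transpose_apply, of_apply, Matrix.cons_val_zero,
    Matrix.cons_val_one]
  by_cases h1 : r = i <;> by_cases h2 : r = j <;> by_cases h3 : s = i <;> by_cases h4 : s = j <;>
    simp_all

theorem incl_t_incl (i j : Fin n) (hij : i ≠ j) : (incl F i j : Matrix (Fin n) (Fin 2) F)ᵀ * incl F i j = 1 := by
  ext k l
  have h : ∀ a b : Fin n, (∑ q : Fin n, (if q = a then (1 : F) else 0) * (if q = b then (1 : F) else 0)) =
      if a = b then 1 else 0 := fun a b => by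
    rw [Finset.sum_eq_single a (fun q _ hq => by rw [if_neg hq, zero_mul]) (by simp), if_pos rfl, one_mul]
  rw [Matrix.mul_apply]
  simp only [transpose_apply, incl, of_apply, h]
  fin_cases k <;> fin_cases l <;> simp [hij, hij.symm]

/-- A `2 × 2` matrix placed at the coordinates `i, j`. -/
def emb (i j : Fin n) (A : Matrix (Fin 2) (Fin 2) F) : Mn := 1 + incl F i j * (A - 1) * (incl F i j)ᵀ

theorem emb_one (i j : Fin n) : emb i j (1 : Matrix (Fin 2) (Fin 2) F) = (1 : Mn) := by simp [emb]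

theorem emb_mul (i j : Fin n) (hij : i ≠ j) (A B : Matrix (Fin 2) (Fin 2) F) :
    (emb i j A : Mn) * emb i j B = emb i j (A * B) := by
  have e : incl F i j * (A - 1) * (incl F i j)ᵀ * (incl F i j * (B - 1) * (incl F i j)ᵀ) =
      (incl F i j * ((A - 1) * (B - 1)) * (incl F i j)ᵀ : Mn) := by
    calc _ = incl F i j * (A - 1) * ((incl F i j)ᵀ * incl F i j) * (B - 1) * (incl F i j)ᵀ := by simp only [Matrix.mul_assoc]
      _ = _ := by rw [incl_t_incl i j hij, Matrix.mul_one]; simp only [Matrix.mul_assoc]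
  unfold emb
  rw [add_mul, mul_add, mul_add, e, one_mul, mul_one, one_mul, add_assoc, ← Matrix.add_mul, ← Matrix.mul_add,
    ← Matrix.add_mul, ← Matrix.mul_add]
  congr 3
  noncomm_ring

theorem emb_apply (i j : Fin n) (hij : i ≠ j) (A : Matrix (Fin 2) (Fin 2) F) (r s : Fin n) :
    (emb i j A : Mn) r s =
      if r = i then (if s = i then A 0 0 else if s = j then A 0 1 else 0)
      else if r = j then (if s = i then A 1 0 else if s = j then A 1 1 else 0) else (if r = s then 1 else 0) := by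
  rw [emb, Matrix.add_apply, incl_mul_apply i j hij, Matrix.one_apply]
  split_ifs <;> simp_all

theorem emb_det (i j : Fin n) (hij : i ≠ j) (A : Matrix (Fin 2) (Fin 2) F) : (emb i j A : Mn).det = A.det := by
  rw [emb, Matrix.mul_assoc, det_one_add_mul_comm, Matrix.mul_assoc, incl_t_incl i j hij, Matrix.mul_one,
    add_sub_cancel]

theorem emb_map (σ : F ≃+* F) (i j : Fin n) (hij : i ≠ j) (A : Matrix (Fin 2) (Fin 2) F) :
    (emb i j A : Mn).map σ = emb i j (A.map σ) := by
  ext r s
  simp only [map_apply, emb_apply i j hij]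
  split_ifs <;> simp

theorem emb_transpose (i j : Fin n) (A : Matrix (Fin 2) (Fin 2) F) : (emb i j A : Mn)ᵀ = emb i j Aᵀ := by
  simp [emb, transpose_add, transpose_sub, Matrix.mul_assoc]

theorem emb_diag_comm {d : Fin n → F} (i j : Fin n) (hij : i ≠ j) (hi : d i = 1) (hj : d j = 1)
    (A : Matrix (Fin 2) (Fin 2) F) : diagonal d * emb i j A = emb i j A * diagonal d := by
  ext r s
  rw [diagonal_mul, mul_diagonal, emb_apply i j hij]
  split_ifs <;> simp_all

theorem emb_iso {σ : F ≃+* F} {d : Fin n → F} (i j : Fin n) (hij : i ≠ j) (hi : d i = 1) (hj : d j = 1)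
    {A : Matrix (Fin 2) (Fin 2) F} (hA : (A.map σ)ᵀ * A = 1) : TIso σ d (emb i j A) 1 := by
  rw [TIso, one_smul, emb_map σ i j hij, emb_transpose, Matrix.mul_assoc, emb_diag_comm i j hij hi hj,
    ← Matrix.mul_assoc, emb_mul i j hij, hA, emb_one, one_mul]

theorem rot_unitary {σ : F ≃+* F} (hσ2 : ∀ a, σ (σ a) = a) {a b : F} (h : a * σ a + b * σ b = 1) :
    ((!![a, b; -σ b, σ a] : Matrix (Fin 2) (Fin 2) F).map σ)ᵀ * !![a, b; -σ b, σ a] = 1 := by
  ext k l
  fin_cases k <;> fin_cases l <;> simp [Matrix.mul_apply, Fin.sum_univ_two, hσ2]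
  all_goals first | linear_combination h | (ring_nf; done) | linear_combination

theorem rot_det {σ : F ≃+* F} {a b : F} (h : a * σ a + b * σ b = 1) :
    (!![a, b; -σ b, σ a] : Matrix (Fin 2) (Fin 2) F).det = 1 := by
  rw [det_fin_two_of]
  linear_combination h

theorem exists_norm_one_pair [Finite F] (h2 : (2 : F) ≠ 0) {σ : F ≃+* F} (hσ2 : ∀ a, σ (σ a) = a) (hσ : σ ≠ 1) :
    ∃ a b : F, a ≠ 0 ∧ b ≠ 0 ∧ a * σ a + b * σ b = 1 := by
  have ho : orderOf σ = 2 := orderOf_eq_prime (RingEquiv.ext fun a => hσ2 a) hσ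
  have hnorm : ∀ u : Fˣ, σ (u : F) = u → ∃ a : F, a ≠ 0 ∧ a * σ a = u := by
    intro u hu
    obtain ⟨a, ha⟩ : u ∈ (CfsgLib.KnownB.Descent.normHom σ 2).range := by
      rw [CfsgLib.KnownB.Descent.range_normHom two_pos ho]; exact hu
    refine ⟨a, a.ne_zero, ?_⟩
    rw [← ha, CfsgLib.KnownB.Descent.normHom_apply, Finset.prod_range_succ, Finset.prod_range_one, pow_zero,
      pow_one]
    rfl
  obtain ⟨a, ha0, ha⟩ := hnorm (Units.mk0 2 h2) (map_ofNat σ 2)
  obtain ⟨b, hb0, hb⟩ := hnorm (-1) (by simp)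
  refine ⟨a, b, ha0, hb0, ?_⟩
  rw [ha, hb]
  norm_num

theorem exists_norm_one (h2 : (2 : F) ≠ 0) {σ : F ≃+* F} (hσ2 : ∀ a, σ (σ a) = a) (hσ : σ ≠ 1) :
    ∃ ζ : F, σ ζ * ζ = 1 ∧ ζ * ζ ≠ 1 := by
  obtain ⟨u, hu⟩ : ∃ u, σ u ≠ u := by
    by_contra h
    push Not at h
    exact hσ (RingEquiv.ext h)
  set t := u - σ u
  have ht : σ t = -t := by simp [t, hσ2]
  have ht0 : t ≠ 0 := sub_ne_zero.2 (Ne.symm hu)
  have hσt : σ (1 + t) = 1 - t := by rw [map_add, map_one, ht, ← sub_eq_add_neg]
  have hσt' : σ (1 - t) = 1 + t := by rw [map_sub, map_one, ht, sub_neg_eq_add]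
  have ht1 : 1 - t ≠ 0 := fun h => by
    have h' : 1 + t = 0 := by rw [← hσt', h, map_zero]
    exact h2 (by linear_combination h + h')
  have ht2 : 1 + t ≠ 0 := fun h => ht1 (by rw [← hσt, h, map_zero])
  refine ⟨(1 + t) / (1 - t), ?_, fun h => ?_⟩
  · rw [map_div₀, hσt, hσt']
    field_simp
  · field_simp at h
    exact mul_ne_zero (mul_ne_zero h2 h2) ht0 (by linear_combination h)

variable {X : Type*} [Group X] [Finite X]

/-- The hypotheses on an abelian group `Y` of projective similitudes. -/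
structure Setup (σ : F ≃+* F) (d : Fin n → F) (ψ : GL (Fin n) F →* X) (Y : Subgroup X) : Prop where
  three : 3 ≤ n
  two : (2 : F) ≠ 0
  inv : ∀ a, σ (σ a) = a
  ker : ∀ g h, ψ g = ψ h ↔ ∃ c : F, c ≠ 0 ∧ (h : Mn) = c • (g : Mn)
  iso : ∀ y ∈ Y, ∃ (g : GL (Fin n) F) (c : F), ψ g = y ∧ TIso σ d (g : Mn) c
  odd : Odd (Nat.card Y)
  comm : ∀ y ∈ Y, ∀ z ∈ Y, y * z = z * y
  norm : ∀ h : GL (Fin n) F, (h : Mn).det = 1 → TIso σ d (h : Mn) 1 → ∀ y ∈ Y, ψ h * y * (ψ h)⁻¹ ∈ Y
  cases : (σ = 1 ∨ d = 1)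
  three_one : n = 3 → d = 1
  one_except : ∃ o, ∀ i, i ≠ o → d i = 1
  ne_zero : ∀ i, d i ≠ 0

namespace Setup

variable {σ : F ≃+* F} {d : Fin n → F} {ψ : GL (Fin n) F →* X} {Y : Subgroup X}

theorem scalar_comm (S : Setup σ d ψ Y) {g h : GL (Fin n) F} (hg : ψ g ∈ Y) (hh : ψ h ∈ Y) :
    ∃ l : F, l ^ Nat.card Y = 1 ∧ l ^ n = 1 ∧ (g : Mn) * h = l • ((h : Mn) * g) := by
  obtain ⟨l, -, hl⟩ := (S.ker (h * g) (g * h)).1 (by rw [map_mul, map_mul, S.comm _ hh _ hg])
  rw [Units.val_mul, Units.val_mul] at hl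
  refine ⟨l, ?_, ?_, hl⟩
  · have hm : ψ 1 = ψ (g ^ Nat.card Y) := by
      rw [map_one, map_pow]
      exact (congrArg Subtype.val (pow_card_eq_one' (G := Y) (x := ⟨_, hg⟩))).symm
    obtain ⟨μ, hμ0, hμ⟩ := (S.ker _ _).1 hm
    rw [Units.val_one, Units.val_pow_eq_pow_val] at hμ
    have hk : ∀ k : ℕ, (g : Mn) ^ k * h = l ^ k • ((h : Mn) * (g : Mn) ^ k) := fun k => by
      induction k with
      | zero => simp
      | succ k ih =>
        rw [pow_succ', mul_assoc, ih, Matrix.mul_smul, ← mul_assoc, hl, Matrix.smul_mul, smul_smul, mul_assoc,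
          pow_succ l]
    have h1 := hk (Nat.card Y)
    rw [hμ, Matrix.smul_mul, one_mul, Matrix.mul_smul, mul_one, smul_smul] at h1
    by_contra hne
    have h2 : (l ^ Nat.card Y * μ - μ) • (h : Mn) = 0 := by rw [sub_smul, ← h1, sub_self]
    have : NeZero n := ⟨by have := S.three; omega⟩
    refine hne ?_
    have h3 := sub_eq_zero.1 ((smul_eq_zero.1 h2).resolve_right h.isUnit.ne_zero)
    exact mul_right_cancel₀ hμ0 (h3.trans (one_mul μ).symm)
  · have h1 := congrArg Matrix.det hl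
    rw [det_mul, det_smul, det_mul, Fintype.card_fin, mul_comm (h : Mn).det] at h1
    exact (mul_eq_right₀ (mul_ne_zero (GeneralLinearGroup.det g).ne_zero (GeneralLinearGroup.det h).ne_zero)).1
      h1.symm

theorem eq_one_of_sq (S : Setup σ d ψ Y) {y : X} (hy : y ∈ Y) (h : y * y = 1) : y = 1 :=
  LocalBalance.eq_one_of_sq S.odd hy h

theorem diagonal_trivial [Finite F] (S : Setup σ d ψ Y) {y : X} (hy : y ∈ Y) {g : GL (Fin n) F} {c : F}
    (hg : ψ g = y) (hiso : TIso σ d (g : Mn) c) (hdiag : ∀ r s, r ≠ s → (g : Mn) r s = 0) : y = 1 := by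
  classical
  set t := fun i => (g : Mn) i i with ht
  have hgd : (g : Mn) = diagonal t := by
    ext r s
    rcases eq_or_ne r s with rfl | h
    · simp [t]
    · simp [h, hdiag r s h]
  have ht0 : ∀ i, t i ≠ 0 := fun i h0 => (GeneralLinearGroup.det g).ne_zero (by
    rw [GeneralLinearGroup.val_det_apply, hgd, det_diagonal]
    exact Finset.prod_eq_zero (Finset.mem_univ i) h0)
  have hc : ∀ i, σ (t i) * t i = c := fun i => by
    have h := hiso.entry i i
    rw [if_pos rfl, Finset.sum_eq_single i (fun k _ hk => by rw [hdiag k i hk, mul_zero]) (by simp)] at h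
    exact mul_right_cancel₀ (S.ne_zero i) (by rw [← h]; ring)
  have : NeZero n := ⟨by have := S.three; omega⟩
  by_cases hσ : σ = 1
  · refine S.eq_one_of_sq hy ?_
    rw [← hg, ← map_mul, ← map_one ψ, eq_comm, S.ker]
    refine ⟨c, ?_, ?_⟩
    · rw [← hc 0, hσ]; exact mul_ne_zero (ht0 0) (ht0 0)
    · rw [Units.val_mul, hgd, diagonal_mul_diagonal, Units.val_one, Matrix.smul_one_eq_diagonal]
      congr 1
      funext i
      rw [← hc i, hσ]
      rfl
  have hd1 : d = 1 := S.cases.resolve_left hσ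
  obtain ⟨a, b, ha, hb, hab⟩ := exists_norm_one_pair S.two S.inv hσ
  rw [← hg, ← map_one ψ, eq_comm, S.ker]
  refine ⟨t 0, ht0 0, ?_⟩
  rw [hgd, Units.val_one, Matrix.smul_one_eq_diagonal]
  congr 1
  funext j
  rcases eq_or_ne (0 : Fin n) j with rfl | hij
  · rfl
  obtain ⟨k, hk0, hkj⟩ := third S.three (0 : Fin n) j
  set R : Matrix (Fin 2) (Fin 2) F := !![a, b; -σ b, σ a] with hR
  have hdet : (emb 0 j R : Mn).det = 1 := by rw [emb_det 0 j hij, rot_det hab]
  set h := GeneralLinearGroup.mkOfDetNeZero (emb 0 j R : Mn) (by rw [hdet]; exact one_ne_zero) with hh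
  have hhval : (h : Mn) = emb 0 j R := rfl
  have hhi : ((h⁻¹ : GL (Fin n) F) : Mn) = emb 0 j (R.map σ)ᵀ := by
    have e : (emb 0 j (R.map σ)ᵀ : Mn) * (h : Mn) = 1 := by
      rw [hhval, emb_mul 0 j hij, rot_unitary S.inv hab, emb_one]
    calc ((h⁻¹ : GL (Fin n) F) : Mn) = (emb 0 j (R.map σ)ᵀ * (h : Mn)) * ((h⁻¹ : GL (Fin n) F) : Mn) := by
          rw [e, one_mul]
      _ = _ := by rw [mul_assoc, Units.mul_inv, mul_one]
  have hmem := S.norm h (hhval ▸ hdet)
    (hhval ▸ emb_iso 0 j hij (by rw [hd1]; rfl) (by rw [hd1]; rfl) (rot_unitary S.inv hab)) y hy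
  rw [← hg, ← map_inv, ← map_mul, ← map_mul] at hmem
  obtain ⟨l, -, -, hl⟩ := S.scalar_comm (hg ▸ hy) hmem
  set z := ((h * g * h⁻¹ : GL (Fin n) F) : Mn) with hz
  have hzrs : ∀ r s, z r s = ∑ q, (emb 0 j R : Mn) r q * t q * (emb 0 j (R.map σ)ᵀ : Mn) q s := fun r s => by
    rw [hz, Units.val_mul, Units.val_mul, hhval, hhi, hgd, Matrix.mul_apply]
    simp only [Matrix.mul_diagonal]
  have hzk : z k k = t k := by
    rw [hzrs, Finset.sum_eq_single k (fun q _ hq => by
      rw [emb_apply 0 j hij, if_neg hk0, if_neg hkj, if_neg hq.symm, zero_mul, zero_mul]) (by simp)]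
    simp [emb_apply 0 j hij, hk0, hkj]
  have hz0j : z 0 j = a * b * (t j - t 0) := by
    rw [hzrs, ← Finset.sum_subset (Finset.subset_univ {(0 : Fin n), j}) (fun q _ hq => by
      simp only [Finset.mem_insert, Finset.mem_singleton, not_or] at hq
      simp [emb_apply 0 j hij, hq.1, hq.2]), Finset.sum_pair hij]
    simp [emb_apply 0 j hij, hij.symm, R, S.inv]
    ring
  have hent : ∀ r s, t r * z r s = l * (z r s * t s) := fun r s => by
    have := congrFun (congrFun hl r) s
    rw [hgd, diagonal_mul, Matrix.smul_apply, mul_diagonal, smul_eq_mul] at this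
    exact this
  have hl1 : l = 1 := by
    have := hent k k
    rw [hzk] at this
    exact mul_right_cancel₀ (mul_ne_zero (ht0 k) (ht0 k)) (this.symm.trans (one_mul _).symm)
  have := hent 0 j
  rw [hl1, one_mul, hz0j] at this
  have h3 : a * b * ((t j - t 0) * (t j - t 0)) = 0 := by linear_combination -this
  have h4 := mul_self_eq_zero.1 ((mul_eq_zero.1 h3).resolve_left (mul_ne_zero ha hb))
  exact (sub_eq_zero.1 h4).trans rfl

theorem monomial_trivial [Finite F] (S : Setup σ d ψ Y) {y : X} (hy : y ∈ Y) {g : GL (Fin n) F} {c : F}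
    (hg : ψ g = y) (hiso : TIso σ d (g : Mn) c)
    (hmono : ∀ r q s, (g : Mn) r q ≠ 0 → (g : Mn) q s ≠ 0 → r = s) : y = 1 := by
  refine S.eq_one_of_sq hy (S.diagonal_trivial (Y.mul_mem hy hy) (g := g * g) (c := c * c) (by rw [map_mul, hg])
    (by rw [Units.val_mul]; exact hiso.mul hiso) fun r s hrs => ?_)
  rw [Units.val_mul, Matrix.mul_apply]
  refine Finset.sum_eq_zero fun q _ => ?_
  by_contra hne
  exact hrs (hmono r q s (left_ne_zero_of_mul hne) (right_ne_zero_of_mul hne))

omit [Finite X] in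
theorem exists_perm (S : Setup σ d ψ Y) {i j : Fin n} (hij : i ≠ j) :
    ∃ (π : Equiv.Perm (Fin n)) (a b k : Fin n), Equiv.Perm.sign π = 1 ∧ (∀ x, d (π x) = d x) ∧
      ((a = i ∧ b = j) ∨ (a = j ∧ b = i)) ∧ k ≠ i ∧ k ≠ j ∧
      ((π i = b ∧ π j = k) ∨ (π i = k ∧ π j = b)) := by
  classical
  have hsign : ∀ {p q r : Fin n}, p ≠ q → q ≠ r → Equiv.Perm.sign (Equiv.swap p q * Equiv.swap q r) = 1 := by
    intro p q r h1 h2
    rw [map_mul, Equiv.Perm.sign_swap h1, Equiv.Perm.sign_swap h2]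
    norm_num
  have hdp : ∀ {p q r : Fin n}, d p = d q → d q = d r → ∀ x, d ((Equiv.swap p q * Equiv.swap q r) x) = d x := by
    intro p q r h1 h2 x
    have hs : ∀ {u v : Fin n}, d u = d v → ∀ x, d (Equiv.swap u v x) = d x := fun {u v} h x => by
      rw [Equiv.swap_apply_def]
      split_ifs with e1 e2 <;> simp_all
    rw [Equiv.Perm.mul_apply, hs h1, hs h2]
  have hcyc1 : ∀ {p q r : Fin n}, q ≠ p → r ≠ p → (Equiv.swap p q * Equiv.swap q r) p = q := fun h1 h2 => by
    rw [Equiv.Perm.mul_apply, Equiv.swap_apply_of_ne_of_ne h1.symm h2.symm, Equiv.swap_apply_left]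
  have hcyc2 : ∀ {p q r : Fin n}, r ≠ p → r ≠ q → (Equiv.swap p q * Equiv.swap q r) q = r := fun h1 h2 => by
    rw [Equiv.Perm.mul_apply, Equiv.swap_apply_left, Equiv.swap_apply_of_ne_of_ne h1 h2]
  by_cases hd1 : d = 1
  · obtain ⟨k, hki, hkj⟩ := third S.three i j
    exact ⟨Equiv.swap i j * Equiv.swap j k, i, j, k, hsign hij hkj.symm, hdp (by simp [hd1]) (by simp [hd1]),
      Or.inl ⟨rfl, rfl⟩, hki, hkj, Or.inl ⟨hcyc1 hij.symm hki, hcyc2 hki hkj⟩⟩
  have h4 : 4 ≤ n := by
    rcases S.three.eq_or_lt with h | h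
    · exact absurd (S.three_one h.symm) hd1
    · exact h
  obtain ⟨o, ho⟩ := S.one_except
  have third' : ∀ p q r : Fin n, ∃ k, k ≠ p ∧ k ≠ q ∧ k ≠ r := by
    intro p q r
    have h : ({p, q, r} : Finset (Fin n)).card < Fintype.card (Fin n) := by
      refine lt_of_le_of_lt (Finset.card_insert_le _ _) ?_
      refine lt_of_le_of_lt (Nat.add_le_add_right (Finset.card_insert_le _ _) 1) ?_
      simp only [Finset.card_singleton, Fintype.card_fin]
      omega
    obtain ⟨k, hk⟩ : ∃ k, k ∉ ({p, q, r} : Finset (Fin n)) := by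
      by_contra hall
      push Not at hall
      exact absurd h (by rw [Finset.eq_univ_of_forall hall, Finset.card_univ]; exact lt_irrefl _)
    exact ⟨k, by simpa using hk⟩
  have hfix : ∀ {p q r x : Fin n}, x ≠ p → x ≠ q → x ≠ r → (Equiv.swap p q * Equiv.swap q r) x = x :=
    fun h1 h2 h3 => by
      rw [Equiv.Perm.mul_apply, Equiv.swap_apply_of_ne_of_ne h2 h3, Equiv.swap_apply_of_ne_of_ne h1 h2]
  by_cases hjo : j = o
  · subst hjo
    obtain ⟨k, hki, -, hkj⟩ := third' i i j
    obtain ⟨l, hli, hlk, hlj⟩ := third' i k j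
    exact ⟨Equiv.swap i k * Equiv.swap k l, i, j, k, hsign hki.symm hlk.symm,
      hdp (by rw [ho i hij, ho k hkj]) (by rw [ho k hkj, ho l hlj]), Or.inl ⟨rfl, rfl⟩, hki, hkj,
      Or.inr ⟨hcyc1 hki hli, hfix hij.symm hkj.symm hlj.symm⟩⟩
  by_cases hio : i = o
  · subst hio
    obtain ⟨k, hkj, -, hki⟩ := third' j j i
    obtain ⟨l, hlj, hlk, hli⟩ := third' j k i
    exact ⟨Equiv.swap j k * Equiv.swap k l, j, i, k, hsign hkj.symm hlk.symm,
      hdp (by rw [ho j hjo, ho k hki]) (by rw [ho k hki, ho l hli]), Or.inr ⟨rfl, rfl⟩, hki, hkj,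
      Or.inl ⟨hfix hij hki.symm hli.symm, hcyc1 hkj hlj⟩⟩
  obtain ⟨k, hki, hkj, hko⟩ := third' i j o
  exact ⟨Equiv.swap i j * Equiv.swap j k, i, j, k, hsign hij hkj.symm,
    hdp (by rw [ho i hio, ho j hjo]) (by rw [ho j hjo, ho k hko]), Or.inl ⟨rfl, rfl⟩, hki, hkj,
    Or.inl ⟨hcyc1 hij.symm hki, hcyc2 hki hkj⟩⟩

theorem four_trivial [Finite F] (S : Setup σ d ψ Y) {y : X} (hy : y ∈ Y) {g : GL (Fin n) F} {c : F}
    (hg : ψ g = y) (hiso : TIso σ d (g : Mn) c) {i j k o : Fin n} (hij : i ≠ j) (hik : i ≠ k) (hio : i ≠ o)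
    (hjk : j ≠ k) (hjo : j ≠ o) (hko : k ≠ o) (hall : ∀ x, x = i ∨ x = j ∨ x = k ∨ x = o)
    (hdi : d i = 1) (hdj : d j = 1) (hdk : d k = 1)
    (z1 : (g : Mn) i k = 0) (z2 : (g : Mn) i o = 0) (z3 : (g : Mn) j k = 0) (z4 : (g : Mn) j o = 0)
    (z5 : (g : Mn) k i = 0) (z6 : (g : Mn) k j = 0) (z7 : (g : Mn) o i = 0) (z8 : (g : Mn) o j = 0)
    (n1 : (g : Mn) i j ≠ 0) (n2 : (g : Mn) k o ≠ 0) (n3 : (g : Mn) o k ≠ 0) : y = 1 := by
  classical
  have hsum : ∀ f : Fin n → F, ∑ x, f x = f i + f j + f k + f o := fun f => by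
    rw [show (Finset.univ : Finset (Fin n)) = {i, j, k, o} from (Finset.eq_univ_of_forall fun x => by
      simpa using hall x).symm, Finset.sum_insert (by simp [hij, hik, hio]), Finset.sum_insert (by simp [hjk, hjo]),
      Finset.sum_pair hko]
    ring
  have h4 : n = 4 := by
    have h : (Finset.univ : Finset (Fin n)) = {i, j, k, o} := (Finset.eq_univ_of_forall fun x => by
      simpa using hall x).symm
    have := congrArg Finset.card h
    simpa [Finset.card_insert_of_notMem, hij, hik, hio, hjk, hjo, hko] using this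
  have hcomm1 : ∀ {h : GL (Fin n) F}, ψ h ∈ Y → (g : Mn) * h = (h : Mn) * g := by
    intro h hh
    obtain ⟨l, hlm, hln, hl⟩ := S.scalar_comm (hg ▸ hy) hh
    have h1 : orderOf l ∣ Nat.gcd (Nat.card Y) n :=
      Nat.dvd_gcd (orderOf_dvd_of_pow_eq_one hlm) (orderOf_dvd_of_pow_eq_one hln)
    have h2 : (Nat.card Y).Coprime n := by
      rw [h4, show 4 = 2 ^ 2 from rfl]
      exact Nat.Coprime.pow_right 2 (Nat.coprime_two_right.2 S.odd)
    rw [h2, Nat.dvd_one, orderOf_eq_one_iff] at h1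
    rw [hl, h1, one_smul]
  set π : Equiv.Perm (Fin n) := Equiv.swap i j * Equiv.swap j k with hπ
  have hsign : Equiv.Perm.sign π = 1 := by
    rw [hπ, map_mul, Equiv.Perm.sign_swap hij, Equiv.Perm.sign_swap hjk]; norm_num
  have pk : π.symm i = k := π.symm_apply_eq.2 (by
    simp [hπ, Equiv.swap_apply_right, Equiv.swap_apply_of_ne_of_ne, hik.symm, hjk.symm])
  have pi' : π.symm j = i := π.symm_apply_eq.2 (by
    simp [hπ, Equiv.swap_apply_of_ne_of_ne, hij, hik])
  have pj : π.symm k = j := π.symm_apply_eq.2 (by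
    simp [hπ, Equiv.swap_apply_left, Equiv.swap_apply_of_ne_of_ne, hik.symm, hjk.symm])
  have po : π.symm o = o := π.symm_apply_eq.2 (by
    simp [hπ, Equiv.swap_apply_of_ne_of_ne, hio.symm, hjo.symm, hko.symm])
  have hdπ : ∀ x, d (π x) = d x := by
    intro x
    rcases hall x with rfl | rfl | rfl | rfl
    · rw [show π x = j from (π.symm_apply_eq.1 pi').symm, hdi, hdj]
    · rw [show π x = k from (π.symm_apply_eq.1 pj).symm, hdj, hdk]
    · rw [show π x = i from (π.symm_apply_eq.1 pk).symm, hdk, hdi]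
    · rw [show π x = x from (π.symm_apply_eq.1 po).symm]
  have hzY := S.norm _ (permGL_det π hsign) (permGL_iso π hdπ) y hy
  rw [← hg, ← map_inv, ← map_mul, ← map_mul] at hzY
  have hc := hcomm1 hzY
  set zz := permGL π * g * (permGL π)⁻¹ with hzz
  have ze : ∀ r s, (zz : Mn) r s = (g : Mn) (π.symm r) (π.symm s) := fun r s => permGL_conj_apply π g r s
  have ent : ∀ r s, ∑ q, (g : Mn) r q * (zz : Mn) q s = ∑ q, (zz : Mn) r q * (g : Mn) q s := fun r s => by
    have := congrFun (congrFun hc r) s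
    rwa [Matrix.mul_apply, Matrix.mul_apply] at this
  by_cases hσ : σ = 1
  · have e1 := ent i j
    have e2 := ent j k
    have e3 := ent j o
    simp only [hsum, ze, pi', pj, pk, po, z1, z2, z3, z4, z5, z6, z7, z8, zero_mul, mul_zero, add_zero, zero_add]
      at e1 e2 e3
    have hik' : (g : Mn) i i = (g : Mn) k k := mul_right_cancel₀ n1 (by linear_combination e1)
    have hjk' : (g : Mn) j j = (g : Mn) k k := mul_right_cancel₀ n1 (by linear_combination e2)
    have hji : (g : Mn) j i = (g : Mn) i j := mul_right_cancel₀ n2 (by linear_combination e3)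
    have o1 := hiso.entry i j
    have o2 := hiso.entry k o
    simp only [hσ, RingAut.one_apply, hsum, if_neg hij, if_neg hko, z1, z2, z3, z4, z5, z6, z7, z8, hdi, hdj, hdk,
      zero_mul, mul_zero, add_zero, zero_add, mul_one] at o1 o2
    have hii : (g : Mn) i i = 0 := by
      have h3 : 2 * ((g : Mn) i i * (g : Mn) i j) = 0 := by
        rw [hji, hjk', ← hik'] at o1
        linear_combination o1
      exact (mul_eq_zero.1 ((mul_eq_zero.1 h3).resolve_left S.two)).resolve_right n1
    have hkk : (g : Mn) k k = 0 := hik' ▸ hii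
    have hjj : (g : Mn) j j = 0 := hjk'.trans hkk
    have hoo : (g : Mn) o o = 0 := by
      rw [hkk, zero_mul, zero_add] at o2
      exact (mul_eq_zero.1 o2).resolve_left (mul_ne_zero n3 (S.ne_zero o))
    refine S.monomial_trivial hy hg hiso fun r q s h1 h2 => ?_
    rcases hall r with rfl | rfl | rfl | rfl <;> rcases hall q with rfl | rfl | rfl | rfl <;>
      first | contradiction | (rcases hall s with rfl | rfl | rfl | rfl <;> first | rfl | contradiction)
  · exfalso
    obtain ⟨ζ, hζ1, hζ2⟩ := exists_norm_one S.two S.inv hσ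
    have hζ0 : ζ ≠ 0 := fun h => by simp [h] at hζ1
    set u : Fin n → Fˣ := fun x => if x = i then Units.mk0 ζ hζ0 else if x = o then (Units.mk0 ζ hζ0)⁻¹ else 1
      with hu
    have hd1 : d = 1 := S.cases.resolve_left hσ
    have hudet : ((diagGL u : GL (Fin n) F) : Mn).det = 1 := by
      simp only [diagGL, det_diagonal]
      rw [← Finset.prod_subset (Finset.subset_univ {i, o}) (fun x _ hx => by
        simp only [Finset.mem_insert, Finset.mem_singleton, not_or] at hx
        simp [u, hx.1, hx.2]), Finset.prod_pair hio]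
      simp [u, hio.symm, hζ0]
    have huiso : TIso σ d ((diagGL u : GL (Fin n) F) : Mn) 1 := by
      refine tiso_diagonal fun x => ?_
      simp only [u]
      split_ifs
      · simpa using hζ1
      · simp only [Units.val_inv_eq_inv_val, Units.val_mk0, map_inv₀, ← mul_inv, hζ1, inv_one]
      · simp
    have hwY := S.norm _ hudet huiso _ hzY
    rw [← map_inv, ← map_mul, ← map_mul] at hwY
    have hc' := hcomm1 hwY
    have e1 := ent i k
    have e2 := congrFun (congrFun hc' i) k
    simp only [Matrix.mul_apply, hsum, diagGL_conj_apply, ze, pi', pj, pk, po, z1, z2, z3, z4, z5, z6, z7, z8,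
      zero_mul, mul_zero, add_zero, zero_add, u, hij.symm, hik.symm, hio.symm, hjo, hko, if_false, if_true,
      Units.val_one, inv_one, mul_one, one_mul, Units.val_mk0, inv_inv] at e1 e2
    have h3 : (ζ * ζ - 1) * ((g : Mn) k o * (g : Mn) o k) = 0 := by linear_combination e1 - e2
    exact hζ2 (sub_eq_zero.1 ((mul_eq_zero.1 h3).resolve_right (mul_ne_zero n2 n3)))

/-- An abelian group of odd order normalised by the special isometries is trivial. -/
theorem eq_bot [Finite F] (S : Setup σ d ψ Y) : Y = ⊥ := by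
  classical
  rw [Subgroup.eq_bot_iff_forall]
  by_contra hne
  push Not at hne
  let D : Fin n → Fin n → X := fun a b => ψ (sgnGL a b)
  have Dsq : ∀ a b, D a b * D a b = 1 := fun a b => by rw [← map_mul, sgnGL_sq, map_one]
  have Dinv : ∀ a b, (D a b)⁻¹ = D a b := fun a b => inv_eq_of_mul_eq_one_right (Dsq a b)
  let cj : Fin n → Fin n → X → X := fun a b y => D a b * y * D a b
  have cmul : ∀ a b y z, cj a b (y * z) = cj a b y * cj a b z := fun a b y z => by
    calc D a b * (y * z) * D a b = D a b * y * (D a b * D a b) * z * D a b := by rw [Dsq]; group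
      _ = _ := by simp only [cj, mul_assoc]
  have cinv : ∀ a b y, cj a b y⁻¹ = (cj a b y)⁻¹ := fun a b y => by
    simp only [cj, _root_.mul_inv_rev, Dinv, mul_assoc]
  have cself : ∀ a b y, cj a b (cj a b y) = y := fun a b y => by
    simp only [cj]
    calc D a b * (D a b * y * D a b) * D a b = (D a b * D a b) * y * (D a b * D a b) := by group
      _ = y := by rw [Dsq, one_mul, mul_one]
  have ccomm : ∀ a b c' e y, cj a b (cj c' e y) = cj c' e (cj a b y) := fun a b c' e y => by
    simp only [cj]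
    have h : D a b * D c' e = D c' e * D a b := by rw [← map_mul, ← map_mul, sgnGL_mul_comm]
    calc D a b * (D c' e * y * D c' e) * D a b = (D a b * D c' e) * y * (D c' e * D a b) := by group
      _ = (D c' e * D a b) * y * (D a b * D c' e) := by rw [h]
      _ = _ := by group
  have cY : ∀ a b, a ≠ b → ∀ y ∈ Y, cj a b y ∈ Y := fun a b hab y hy => by
    have := S.norm _ (sgnGL_det hab) (sgnGL_iso a b) y hy
    rwa [show (ψ (sgnGL a b))⁻¹ = D a b from Dinv a b] at this
  let good : X → Finset (Fin n × Fin n) := fun y =>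
    Finset.univ.filter fun p => p.1 ≠ p.2 ∧ (cj p.1 p.2 y = y ∨ cj p.1 p.2 y = y⁻¹)
  obtain ⟨y, ⟨hy, hy1⟩, hmax⟩ := Set.exists_max_image {y | y ∈ Y ∧ y ≠ 1} (fun y => (good y).card)
    (Set.toFinite _) hne
  have hgood : ∀ a b, a ≠ b → cj a b y = y ∨ cj a b y = y⁻¹ := by
    intro a b hab
    by_contra hn
    push Not at hn
    set z := y⁻¹ * cj a b y with hz
    have hzY : z ∈ Y := Y.mul_mem (Y.inv_mem hy) (cY a b hab y hy)
    have hz1 : z ≠ 1 := fun h => hn.1 (inv_mul_eq_one.1 h).symm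
    have hlt : (good y).card < (good z).card := by
      refine Finset.card_lt_card (Finset.ssubset_iff_of_subset ?_ |>.2 ⟨(a, b), ?_, ?_⟩)
      · rintro ⟨c', e⟩ hce
        simp only [good, Finset.mem_filter, Finset.mem_univ, true_and] at hce ⊢
        refine ⟨hce.1, ?_⟩
        rcases hce.2 with h | h
        · left; rw [hz, cmul, cinv, ccomm, h]
        · right
          rw [hz, cmul, cinv, ccomm, h, inv_inv, cinv]
          rw [_root_.mul_inv_rev (y⁻¹) (cj a b y), inv_inv]
          exact S.comm _ hy _ (Y.inv_mem (cY a b hab y hy))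
      · simp only [good, Finset.mem_filter, Finset.mem_univ, true_and]
        exact ⟨hab, Or.inr (by rw [hz, cmul, cinv, cself, _root_.mul_inv_rev (y⁻¹) (cj a b y), inv_inv])⟩
      · simp [good, hn.1, hn.2]
    exact absurd (hmax z ⟨hzY, hz1⟩) (not_le.2 hlt)
  have hy2 : y * y ≠ 1 := fun h => hy1 (S.eq_one_of_sq hy h)
  obtain ⟨g0, c0, hg0, hiso0⟩ := S.iso y hy
  set g := g0 * g0 with hgdef
  have hgy : ψ g = y * y := by rw [map_mul, hg0]
  have hiso : TIso σ d (g : Mn) (c0 * c0) := by rw [hgdef, Units.val_mul]; exact hiso0.mul hiso0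
  let fx : Fin n → Fin n → Prop := fun a b => a = b ∨ cj a b y = y
  have fsymm : ∀ {a b}, fx a b → fx b a := by
    rintro a b (h | h)
    · exact Or.inl h.symm
    · exact Or.inr (by simp only [cj, D] at h ⊢; rw [sgnGL_comm]; exact h)
  have chain : ∀ {a b c'}, ¬ fx a b → ¬ fx b c' → fx a c' := by
    intro a b c' h1 h2
    simp only [fx, not_or] at h1 h2
    rcases eq_or_ne a c' with h | h
    · exact Or.inl h
    right
    have e1 := (hgood a b h1.1).resolve_left h1.2
    have e2 := (hgood b c' h2.1).resolve_left h2.2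
    have : cj a c' y = cj a b (cj b c' y) := by
      simp only [cj, D]
      rw [← sgnGL_chain h1.1 h2.1 h, map_mul]
      have hc : ψ (sgnGL a b) * ψ (sgnGL b c') = ψ (sgnGL b c') * ψ (sgnGL a b) := by
        rw [← map_mul, ← map_mul, sgnGL_mul_comm]
      conv_lhs => arg 2; rw [hc]
      simp only [mul_assoc]
    rw [this, e2, cinv, e1, inv_inv]
  have hsupp : ∀ k l, k ≠ l → (g : Mn) k l ≠ 0 → ∀ a, a ≠ k → a ≠ l → ¬ fx k a ∧ ¬ fx l a := by
    intro k l hkl hgkl a hak hal
    have key : ∀ p, (p = k ∨ p = l) → fx p a → False := by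
      intro p hp hfx
      have hpa : p ≠ a := by rcases hp with rfl | rfl <;> [exact hak.symm; exact hal.symm]
      have hfx' := hfx.resolve_left hpa
      have h0 : ψ g0 = ψ (sgnGL p a * g0 * sgnGL p a) := by rw [map_mul, map_mul, hg0]; exact hfx'.symm
      obtain ⟨l', hl', hval⟩ := (S.ker _ _).1 h0
      have hl2 : l' * l' = 1 := by
        have h1 : (sgnGL p a * (sgnGL p a * g0 * sgnGL p a) * sgnGL p a : GL (Fin n) F) = g0 := by
          simp only [← mul_assoc, sgnGL_sq, one_mul]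
          rw [mul_assoc g0, sgnGL_sq, mul_one]
        have h2 := congrArg Units.val h1
        rw [Units.val_mul, Units.val_mul, hval, Matrix.mul_smul, Matrix.smul_mul, ← Units.val_mul,
          ← Units.val_mul, hval, smul_smul] at h2
        have h3 : (l' * l' - 1) • (g0 : Mn) = 0 := by rw [sub_smul, one_smul, h2, sub_self]
        have : NeZero n := ⟨by have := S.three; omega⟩
        exact sub_eq_zero.1 ((smul_eq_zero.1 h3).resolve_right g0.isUnit.ne_zero)
      have h4 : ((sgnGL p a * g * sgnGL p a : GL (Fin n) F) : Mn) = g := by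
        rw [show sgnGL p a * g * sgnGL p a =
          (sgnGL p a * g0 * sgnGL p a) * (sgnGL p a * g0 * sgnGL p a) by
            simp only [hgdef, mul_assoc]; rw [← mul_assoc (sgnGL p a) (sgnGL p a), sgnGL_sq, one_mul]]
        rw [Units.val_mul _ (sgnGL p a * g0 * sgnGL p a), hval, Matrix.smul_mul, Matrix.mul_smul, smul_smul, hl2,
          one_smul, hgdef, Units.val_mul]
      have h5 := congrFun (congrFun h4 k) l
      rw [sgn_conj_apply] at h5
      have h6 : (2 : F) * (g : Mn) k l = 0 := by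
        rcases hp with rfl | rfl
        · rw [if_pos (Or.inl rfl), if_neg (by rintro (h | h); exacts [hkl h.symm, hal h.symm])] at h5
          linear_combination -h5
        · rw [if_neg (by rintro (h | h); exacts [hkl h, hak h.symm]), if_pos (Or.inl rfl)] at h5
          linear_combination -h5
      exact hgkl ((mul_eq_zero.1 h6).resolve_left S.two)
    exact ⟨key k (Or.inl rfl), key l (Or.inr rfl)⟩
  by_cases hdiag : ∀ k l, k ≠ l → (g : Mn) k l = 0
  · exact hy2 (S.diagonal_trivial (Y.mul_mem hy hy) hgy hiso hdiag)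
  push Not at hdiag
  obtain ⟨i, j, hij, hgij⟩ := hdiag
  have hfij : fx i j := by
    obtain ⟨a, hai, haj⟩ := third S.three i j
    obtain ⟨h1, h2⟩ := hsupp i j hij hgij a hai haj
    exact chain h1 fun h => h2 (fsymm h)
  have hout : ∀ k l, k ≠ l → (g : Mn) k l ≠ 0 → (k = i ∧ l = j) ∨ (k = j ∧ l = i) ∨
      (k ≠ i ∧ k ≠ j ∧ l ≠ i ∧ l ≠ j ∧ ∀ a, a = i ∨ a = j ∨ a = k ∨ a = l) := by
    intro k l hkl hgkl
    have hs := hsupp k l hkl hgkl
    have hs' := hsupp i j hij hgij
    have hfkl : fx k l := by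
      obtain ⟨a, hak, hal⟩ := third S.three k l
      obtain ⟨h1, h2⟩ := hs a hak hal
      exact chain h1 fun h => h2 (fsymm h)
    by_cases hki : k = i
    · refine Or.inl ⟨hki, by_contra fun hlj => ?_⟩
      exact (hs' l (fun h => hkl (hki.trans h.symm)) hlj).1 (hki ▸ hfkl)
    by_cases hkj : k = j
    · refine Or.inr (Or.inl ⟨hkj, by_contra fun hli => ?_⟩)
      exact (hs' l hli (fun h => hkl (hkj.trans h.symm))).2 (hkj ▸ hfkl)
    have hli : l ≠ i := fun h => (hs' k hki hkj).1 (h ▸ fsymm hfkl)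
    have hlj : l ≠ j := fun h => (hs' k hki hkj).2 (h ▸ fsymm hfkl)
    refine Or.inr (Or.inr ⟨hki, hkj, hli, hlj, fun a => by_contra fun ha => ?_⟩)
    push Not at ha
    exact (hs a ha.2.2.1 ha.2.2.2).1 (chain (fun h => (hs' k hki hkj).1 (fsymm h)) (hs' a ha.1 ha.2.1).1)
  by_cases hB : ∃ k l, k ≠ l ∧ (g : Mn) k l ≠ 0 ∧ k ≠ i ∧ k ≠ j ∧ l ≠ i ∧ l ≠ j
  · obtain ⟨k, l, hkl, hgkl, hki, hkj, hli, hlj⟩ := hB
    obtain ⟨-, -, -, -, hall⟩ := ((hout k l hkl hgkl).resolve_left fun h => hki h.1).resolve_left fun h => hkj h.1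
    have zero : ∀ r s, r ≠ s → ¬ (r = i ∧ s = j) → ¬ (r = j ∧ s = i) → ¬ (r = k ∧ s = l) → ¬ (r = l ∧ s = k) →
        (g : Mn) r s = 0 := by
      intro r s hrs a1 a2 a3 a4
      by_contra h
      rcases hout r s hrs h with h' | h' | ⟨b1, b2, b3, b4, -⟩
      · exact a1 h'
      · exact a2 h'
      rcases hall r with e | e | e | e
      · exact b1 e
      · exact b2 e
      · rcases hall s with e' | e' | e' | e'
        · exact b3 e'
        · exact b4 e'
        · exact hrs (e.trans e'.symm)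
        · exact a3 ⟨e, e'⟩
      · rcases hall s with e' | e' | e' | e'
        · exact b3 e'
        · exact b4 e'
        · exact a4 ⟨e, e'⟩
        · exact hrs (e.trans e'.symm)
    have nz : ∀ r s, r ≠ s → (g : Mn) r s ≠ 0 → (∀ q, q ≠ r → q ≠ s → (g : Mn) q r = 0) → (g : Mn) s r ≠ 0 := by
      intro r s hrs hne' hcol h0
      have h1 := hiso.entry r s
      rw [if_neg hrs, mul_zero, Finset.sum_eq_single r (fun q _ hq => by
        rcases eq_or_ne q s with rfl | hqs
        · rw [h0]; simp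
        · rw [hcol q hq hqs]; simp) (by simp)] at h1
      have hrr : (g : Mn) r r = 0 := by
        rcases mul_eq_zero.1 h1 with h | h
        · exact (map_eq_zero σ).1 ((mul_eq_zero.1 h).resolve_right (S.ne_zero r))
        · exact absurd h hne'
      refine (GeneralLinearGroup.det g).ne_zero ?_
      rw [GeneralLinearGroup.val_det_apply]
      refine det_eq_zero_of_column_eq_zero r fun q => ?_
      rcases eq_or_ne q r with rfl | hq
      · exact hrr
      rcases eq_or_ne q s with rfl | hqs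
      · exact h0
      exact hcol q hq hqs
    have hgji : (g : Mn) j i ≠ 0 := nz i j hij hgij fun q hq hqj =>
      zero q i hq (fun h => hq h.1) (fun h => hqj h.1) (fun h => hli h.2.symm) (fun h => hki h.2.symm)
    have hglk : (g : Mn) l k ≠ 0 := nz k l hkl hgkl fun q hq hql =>
      zero q k hq (fun h => hkj h.2) (fun h => hki h.2) (fun h => hq h.1) (fun h => hql h.1)
    obtain ⟨o, ho⟩ := S.one_except
    rcases hall o with rfl | rfl | rfl | rfl
    · refine hy2 (S.four_trivial (Y.mul_mem hy hy) hgy hiso (i := k) (j := l) (k := j) (o := o) hkl hkj hki hlj hli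
        hij.symm (fun x => by rcases hall x with h | h | h | h <;> simp [h]) (ho k hki) (ho l hli) (ho j hij.symm)
        ?_ ?_ ?_ ?_ ?_ ?_ ?_ ?_ hgkl hgji hgij) <;> refine zero _ _ ?_ ?_ ?_ ?_ ?_ <;> grind
    · refine hy2 (S.four_trivial (Y.mul_mem hy hy) hgy hiso (i := k) (j := l) (k := i) (o := o) hkl hki hkj hli hlj
        hij (fun x => by rcases hall x with h | h | h | h <;> simp [h]) (ho k hkj) (ho l hlj) (ho i hij)
        ?_ ?_ ?_ ?_ ?_ ?_ ?_ ?_ hgkl hgij hgji) <;> refine zero _ _ ?_ ?_ ?_ ?_ ?_ <;> grind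
    · refine hy2 (S.four_trivial (Y.mul_mem hy hy) hgy hiso (i := i) (j := j) (k := l) (o := o) hij hli.symm
        hki.symm hlj.symm hkj.symm hkl.symm (fun x => by rcases hall x with h | h | h | h <;> simp [h])
        (ho i hki.symm) (ho j hkj.symm) (ho l hkl.symm)
        ?_ ?_ ?_ ?_ ?_ ?_ ?_ ?_ hgij hglk hgkl) <;> refine zero _ _ ?_ ?_ ?_ ?_ ?_ <;> grind
    · refine hy2 (S.four_trivial (Y.mul_mem hy hy) hgy hiso (i := i) (j := j) (k := k) (o := o) hij hki.symm
        hli.symm hkj.symm hlj.symm hkl (fun x => hall x) (ho i hli.symm) (ho j hlj.symm) (ho k hkl)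
        ?_ ?_ ?_ ?_ ?_ ?_ ?_ ?_ hgij hgkl hglk) <;> refine zero _ _ ?_ ?_ ?_ ?_ ?_ <;> grind
  -- a single pair
  have honly : ∀ r s, r ≠ s → (g : Mn) r s ≠ 0 → (r = i ∧ s = j) ∨ (r = j ∧ s = i) := by
    intro r s hrs h
    rcases hout r s hrs h with h' | h' | ⟨b1, b2, b3, b4, -⟩
    · exact Or.inl h'
    · exact Or.inr h'
    · exact absurd ⟨r, s, hrs, h, b1, b2, b3, b4⟩ hB
  have hgji : (g : Mn) j i ≠ 0 := by
    intro h0
    have h1 := hiso.entry i j
    rw [if_neg hij, mul_zero, Finset.sum_eq_single i (fun q _ hq => by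
      rcases eq_or_ne ((g : Mn) q i) 0 with h | h
      · rw [h]; simp
      · rcases honly q i hq h with h' | h'
        · exact absurd h'.1 hq
        · rw [h'.1] at h; exact absurd h0 h) (by simp)] at h1
    have hii : (g : Mn) i i = 0 := by
      rcases mul_eq_zero.1 h1 with h | h
      · exact (map_eq_zero σ).1 ((mul_eq_zero.1 h).resolve_right (S.ne_zero i))
      · exact absurd h hgij
    refine (GeneralLinearGroup.det g).ne_zero ?_
    rw [GeneralLinearGroup.val_det_apply]
    refine det_eq_zero_of_column_eq_zero i fun q => ?_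
    rcases eq_or_ne q i with rfl | hq
    · exact hii
    by_contra h
    rcases honly q i hq h with h' | h'
    · exact hq h'.1
    · rw [h'.1] at h; exact h h0
  obtain ⟨π, a, b, k, hsign, hdπ, hab, hki, hkj, hπ⟩ := S.exists_perm hij
  have hgab : (g : Mn) a b ≠ 0 := by rcases hab with ⟨rfl, rfl⟩ | ⟨rfl, rfl⟩ <;> assumption
  have hkb : k ≠ b := by rcases hab with ⟨rfl, rfl⟩ | ⟨rfl, rfl⟩ <;> assumption
  have hka : k ≠ a := by rcases hab with ⟨rfl, rfl⟩ | ⟨rfl, rfl⟩ <;> assumption
  have hnb : a ≠ b := by rcases hab with ⟨rfl, rfl⟩ | ⟨rfl, rfl⟩ <;> [exact hij; exact hij.symm]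
  have hzY := S.norm _ (permGL_det π hsign) (permGL_iso π hdπ) (y * y) (Y.mul_mem hy hy)
  rw [← hgy, ← map_inv, ← map_mul, ← map_mul] at hzY
  obtain ⟨l', -, -, hl⟩ := S.scalar_comm (hgy ▸ Y.mul_mem hy hy) hzY
  set zz := permGL π * g * (permGL π)⁻¹ with hzz
  have zonly : ∀ r s, r ≠ s → (zz : Mn) r s ≠ 0 → (r = b ∧ s = k) ∨ (r = k ∧ s = b) := by
    intro r s hrs h
    rw [hzz, permGL_conj_apply] at h
    rcases honly _ _ (fun e => hrs (π.symm.injective e)) h with ⟨e1, e2⟩ | ⟨e1, e2⟩ <;>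
      rw [π.symm_apply_eq] at e1 e2 <;> rcases hπ with ⟨p1, p2⟩ | ⟨p1, p2⟩ <;>
      first
        | exact Or.inl ⟨e1.trans p1, e2.trans p2⟩
        | exact Or.inr ⟨e1.trans p1, e2.trans p2⟩
        | exact Or.inr ⟨e1.trans p2, e2.trans p1⟩
        | exact Or.inl ⟨e1.trans p2, e2.trans p1⟩
  have zbk : (zz : Mn) b k ≠ 0 := by
    rw [hzz, permGL_conj_apply]
    rcases hπ with ⟨p1, p2⟩ | ⟨p1, p2⟩
    · rw [← p1, ← p2, π.symm_apply_apply, π.symm_apply_apply]; exact hgij
    · rw [← p1, ← p2, π.symm_apply_apply, π.symm_apply_apply]; exact hgji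
  have e := congrFun (congrFun hl a) k
  rw [Matrix.smul_apply, Matrix.mul_apply, Matrix.mul_apply] at e
  rw [Finset.sum_eq_single b (fun q _ hq => by
      rcases eq_or_ne q a with rfl | hqa
      · have : (zz : Mn) q k = 0 := by
          by_contra h
          rcases zonly q k hka.symm h with h' | h'
          · exact hnb h'.1
          · exact hka h'.1.symm
        rw [this, mul_zero]
      · have : (g : Mn) a q = 0 := by
          by_contra h
          rcases honly a q hqa.symm h with h' | h' <;> rcases hab with h'' | h''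
          · exact hq (h'.2.trans h''.2.symm)
          · exact hij (h'.1.symm.trans h''.1)
          · exact hij (h''.1.symm.trans h'.1)
          · exact hq (h'.2.trans h''.2.symm)
        rw [this, zero_mul]) (by simp),
    Finset.sum_eq_single a (fun q _ hq => by
      have : (zz : Mn) a q = 0 := by
        by_contra h
        rcases zonly a q hq.symm h with h' | h'
        · exact hnb h'.1
        · exact hka h'.1.symm
      rw [this, zero_mul]) (by simp)] at e
  have hgak : (g : Mn) a k = 0 := by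
    by_contra h
    rcases honly a k hka.symm h with h' | h'
    · exact hkj h'.2
    · exact hki h'.2
  rw [hgak, mul_zero, smul_zero] at e
  exact mul_ne_zero hgab zbk e

end Setup

end CfsgLib.FgsC.LocalBalance
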