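import Cfsg.Agent.Lib.FgsC.LocalBalance.PSLBasic
import Cfsg.Agent.Lib.FgsC.LocalBalance.Monomial
import Cfsg.Agent.Lib.Classical.PSLSimple
import Cfsg.Agent.Lib.Classical.Order

/-!
The core of the centraliser of a standard field automorphism of `PSL_n(F)`.
-/

set_option autoImplicit false

namespace CfsgLib.FgsC.LocalBalance

open Matrix CfsgLib.KnownB.PSLAut

variable {n : ℕ} {F : Type*} [Field F]

local notation "PSLn" => Matrix.ProjectiveSpecialLinearGroup (Fin n) F
local notation "Mn" => Matrix (Fin n) (Fin n) F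

/-- In a normalised subgroup of prime order `r` an element of order dividing `r` acts trivially. -/
theorem comm_of_small {X : Type*} [Group X] {r : ℕ} (hr : r ≤ 3) (hrp : r.Prime) (Q : Subgroup X)
    [Finite X] (hQ : Nat.card Q ∣ r) {u y : X} (hu : u ^ r = 1) (hy : y ∈ Q) (huy : ∀ z ∈ Q, u * z * u⁻¹ ∈ Q) :
    u * y = y * u := by
  by_cases hy1 : y = 1
  · rw [hy1, mul_one, one_mul]
  have hyr : y ^ r = 1 := by
    have h : (⟨y, hy⟩ : Q) ^ r = 1 := by
      obtain ⟨k, hk⟩ := hQ
      rw [hk, pow_mul, pow_card_eq_one', one_pow]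
    exact congrArg Subtype.val h
  haveI : Fact r.Prime := ⟨hrp⟩
  have ho : orderOf y = r := orderOf_eq_prime hyr hy1
  have hQy : Q = Subgroup.zpowers y := by
    refine (Subgroup.eq_of_le_of_card_ge ((Subgroup.zpowers_le).2 hy) ?_).symm
    rw [Nat.card_zpowers, ho]
    exact Nat.le_of_dvd hrp.pos hQ
  have him : u * y * u⁻¹ ∈ Subgroup.zpowers y := hQy ▸ huy y hy
  obtain ⟨k, hk⟩ := Subgroup.mem_zpowers_iff.1 him
  rw [← zpow_mod_orderOf, ho] at hk
  have h0 : (0 : ℤ) ≤ k % r := Int.emod_nonneg _ (by exact_mod_cast hrp.ne_zero)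
  have h1 : k % (r : ℤ) < r := Int.emod_lt_of_pos _ (by exact_mod_cast hrp.pos)
  obtain ⟨l, hl⟩ := Int.eq_ofNat_of_zero_le h0
  rw [hl, zpow_natCast] at hk
  have hl' : l < r := by omega
  have hpow : ∀ m : ℕ, u ^ m * y * (u ^ m)⁻¹ = y ^ (l ^ m) := fun m => by
    induction m with
    | zero => simp
    | succ m ih =>
      calc u ^ (m + 1) * y * (u ^ (m + 1))⁻¹ = u * (u ^ m * y * (u ^ m)⁻¹) * u⁻¹ := by rw [pow_succ']; group
        _ = (u * y * u⁻¹) ^ (l ^ m) := by rw [ih, conj_pow]
        _ = _ := by rw [← hk, ← pow_mul, pow_succ']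
  have h2 := hpow r
  rw [hu, one_mul, inv_one, mul_one] at h2
  have hl1 : l = 1 := by
    have h3 : y ^ (l ^ r) = y ^ 1 := by rw [pow_one, ← h2]
    rw [pow_inj_mod, ho] at h3
    have : l = 0 ∨ l = 1 ∨ l = 2 := by omega
    have hr2 := hrp.two_le
    rcases this with rfl | rfl | rfl
    · exfalso
      rw [zero_pow hrp.ne_zero, Nat.zero_mod, Nat.one_mod_eq_one.2 hrp.ne_one] at h3
      exact zero_ne_one h3
    · rfl
    · obtain rfl : r = 3 := by omega
      norm_num at h3
  rw [hl1, pow_one] at hk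
  rw [eq_comm, mul_inv_eq_iff_eq_mul] at hk
  exact hk

/-- The criterion for the standard field automorphism. -/
theorem core_field [Fintype F] (hn : 2 ≤ n) {r : ℕ} [Fact r.Prime] [CharP F r] {p : ℕ} [Fact p.Prime] (hpr : p ≠ r)
    {σ : F ≃+* F} (hσ : orderOf σ = p) (A : Subgroup (MulAut PSLn)) (hinn : ∀ k : PSLn, MulAut.conj k ∈ A) :
    Cfsg.pPrimeCore p ↥(A ⊓ Subgroup.centralizer {(fld σ : MulAut PSLn)}) ≠ ⊥ ↔
      Nat.Coprime p (Nat.card ↥(MonoidHom.eqLocus (fld σ : MulAut PSLn).toMonoidHom (MonoidHom.id PSLn))) := by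
  classical
  have hp : p.Prime := Fact.out
  have hrp : r.Prime := Fact.out
  haveI : NeZero n := ⟨by omega⟩
  haveI : Nontrivial (Fin n) := Fin.nontrivial_iff_two_le.2 hn
  haveI : Finite (MulAut PSLn) := Finite.of_injective _ DFunLike.coe_injective
  set x : MulAut PSLn := fld σ with hx
  rw [card_fixed (conj_injective hn) x]
  set J : Subgroup (MulAut PSLn) := Cfsg.Inn PSLn ⊓ Subgroup.centralizer {x}
  have hJH := inn_inf_le A hinn x
  have hJn := inn_inf_normalized A x
  -- the fixed field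
  let K : Subfield F := RingHom.eqLocusField (σ : F →+* F) (RingHom.id F)
  let ι : K →+* F := K.subtype
  haveI : CharP K r := (RingHom.charP_iff_charP ι r).2 inferInstance
  haveI : Finite K := Finite.of_injective _ ι.injective
  have hKfix : ∀ a : K, σ (ι a) = ι a := fun a => a.2
  let mι : GL (Fin n) K →* GL (Fin n) F := GeneralLinearGroup.map ι
  let φ : Matrix.SpecialLinearGroup (Fin n) K →* MulAut PSLn :=
    ((δ : GL (Fin n) F →* MulAut PSLn).comp mι).comp Matrix.SpecialLinearGroup.toGL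
  have hφval : ∀ s, ((mι (Matrix.SpecialLinearGroup.toGL s) : GL (Fin n) F) : Mn) =
      (s : Matrix (Fin n) (Fin n) K).map ι := fun s => rfl
  have hφdet : ∀ s, ((mι (Matrix.SpecialLinearGroup.toGL s) : GL (Fin n) F) : Mn).det = 1 := fun s => by
    rw [hφval, ← RingHom.mapMatrix_apply, ← RingHom.map_det, s.2, map_one]
  have hcommK : ∀ h : GL (Fin n) K, δ (mι h) ∈ Subgroup.centralizer ({x} : Set (MulAut PSLn)) := fun h => by
    rw [Subgroup.mem_centralizer_singleton_iff, hx]
    refine (comm_fld_iff hn σ _).2 ⟨1, one_ne_zero, ?_⟩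
    rw [one_smul]
    ext i j
    exact hKfix _
  have hLJ : φ.range ≤ J := by
    rintro _ ⟨s, rfl⟩
    exact ⟨δ_mem_inn_of_det_one (hφdet s), hcommK _⟩
  have hJrep : ∀ y ∈ J, ∃ h : GL (Fin n) K, y = δ (mι h) := by
    rintro y ⟨hy, hyc⟩
    obtain ⟨g, -, rfl⟩ := exists_of_mem_inn hy
    replace hyc : δ g * fld σ = fld σ * δ g := Subgroup.mem_centralizer_singleton_iff.1 hyc
    obtain ⟨c, -, hc⟩ := (comm_fld_iff hn σ g).1 hyc
    obtain ⟨a, ha0, ha⟩ := CfsgLib.KnownB.Descent.fixed_up_to_scalar hp.pos hσ g.isUnit.ne_zero hc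
    let M : Matrix (Fin n) (Fin n) K := Matrix.of fun i j => ⟨(a • (g : Mn)) i j, congrFun (congrFun ha i) j⟩
    have hM : M.map ι = a • (g : Mn) := by ext i j; rfl
    have hdet : M.det ≠ 0 := fun h0 => by
      have := congrArg ι h0
      rw [RingHom.map_det, map_zero, RingHom.mapMatrix_apply, hM, Matrix.det_smul] at this
      exact (mul_ne_zero (pow_ne_zero _ ha0) (GeneralLinearGroup.det g).ne_zero) this
    refine ⟨GeneralLinearGroup.mkOfDetNeZero M hdet, ?_⟩
    rw [δ_eq_iff hn]
    exact ⟨a, ha0, hM⟩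
  have hLn : ∀ y ∈ J, ∀ l ∈ φ.range, y * l * y⁻¹ ∈ φ.range := by
    rintro y hy _ ⟨s, rfl⟩
    obtain ⟨h, rfl⟩ := hJrep y hy
    refine ⟨conjSL h s, ?_⟩
    show δ (mι (Matrix.SpecialLinearGroup.toGL (conjSL h s))) = δ (mι h) * δ (mι (Matrix.SpecialLinearGroup.toGL s)) * _
    rw [← map_inv, ← map_mul, ← map_mul, ← map_inv mι, ← map_mul mι, ← map_mul mι]
    refine congrArg (fun z => δ (mι z)) (Units.ext ?_)
    rw [Units.val_mul, Units.val_mul]
    rfl
  have hφ1 : ∀ s, φ s = 1 → ∀ i j, i ≠ j → (s : Matrix (Fin n) (Fin n) K) i j = 0 ∧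
      (s : Matrix (Fin n) (Fin n) K) i i = (s : Matrix (Fin n) (Fin n) K) j j := by
    intro s hs i j hij
    obtain ⟨c, -, hc⟩ := (δ_eq_one_iff hn _).1 hs
    rw [hφval] at hc
    refine ⟨ι.injective ?_, ι.injective ?_⟩
    · have := congrFun (congrFun hc i) j
      simpa [hij] using this
    · have h1 := congrFun (congrFun hc i) i
      have h2 := congrFun (congrFun hc j) j
      simp only [Matrix.map_apply, Matrix.smul_apply, Matrix.one_apply_eq] at h1 h2
      rw [h1, h2]
  have hfix : ∀ α : MulAut PSLn, (∀ l ∈ φ.range, α * l = l * α) → α ^ p = 1 := by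
    intro α hα
    obtain ⟨τ, hτ, rfl⟩ := fix_roots hn (r := r) (fun a => σ a = a) (map_one σ) (α := α) fun i j h a ha => by
      refine hα _ ⟨trSL h (⟨a, ha⟩ : K), congrArg δ (Units.ext ?_)⟩
      show ((trSL h (⟨a, ha⟩ : K)) : Matrix (Fin n) (Fin n) K).map ι = Matrix.transvection i j a
      show (Matrix.transvection i j (⟨a, ha⟩ : K)).map ι = _
      rw [Matrix.transvection, Matrix.transvection, Matrix.map_add ι (map_add ι),
        Matrix.map_one ι ι.map_zero ι.map_one, Matrix.map_single]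
      rfl
    obtain ⟨i, rfl⟩ := Subgroup.mem_zpowers_iff.1 (CfsgLib.KnownB.PSpAut.mem_zpowers_of_fix σ τ hτ)
    rw [← map_pow, ← zpow_natCast, ← _root_.zpow_mul, mul_comm, _root_.zpow_mul, zpow_natCast, ← hσ,
      pow_orderOf_eq_one, _root_.one_zpow, map_one]
  constructor
  swap
  · intro hcop
    refine core_ne_bot _ J hJH hJn hcop.symm fun hJ => ?_
    have hij : (⟨0, by omega⟩ : Fin n) ≠ ⟨1, by omega⟩ := by simp [Fin.ext_iff]
    have h1 : φ (trSL hij 1) ∈ J := hLJ ⟨_, rfl⟩
    rw [hJ, Subgroup.mem_bot] at h1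
    have := (hφ1 _ h1 _ _ hij).1
    simp [trSL, Matrix.transvection, Matrix.single, hij] at this
  intro hne
  by_contra hcop
  have hpJ : p ∣ Nat.card J := by
    by_contra hd
    exact hcop (hp.coprime_iff_not_dvd.2 hd)
  refine hne (core_eq_bot _ fun N hNH hN hNp => eq_bot_two_step _ J φ.range N hNH hN hJH hJn hLJ hLn ?_
    fun m hm hmc => eq_one_of_pow_eq_one hNp hm (hfix m hmc))
  -- `p` divides the order of the image
  have hpL : p ∣ Nat.card φ.range := by
    by_cases hpu : p ∣ Nat.card Kˣ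
    · obtain ⟨ζ, hζ⟩ := exists_prime_orderOf_dvd_card' p hpu
      obtain ⟨a0, a1, hij⟩ : ∃ a b : Fin n, a ≠ b := ⟨⟨0, by omega⟩, ⟨1, by omega⟩, by simp [Fin.ext_iff]⟩
      rcases hp.eq_two_or_odd' with rfl | hodd
      · let A : Matrix (Fin 2) (Fin 2) K := !![0, 1; -1, 0]
        let d : Matrix.SpecialLinearGroup (Fin n) K :=
          ⟨emb a0 a1 A, by rw [emb_det a0 a1 hij, det_fin_two_of]; ring⟩
        have hd : (d : Matrix (Fin n) (Fin n) K) a0 a1 ≠ 0 := by
          show (emb a0 a1 A : Matrix (Fin n) (Fin n) K) a0 a1 ≠ 0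
          rw [emb_apply a0 a1 hij]
          simp [A, hij.symm]
        have h4 : φ d ^ 4 = 1 := by
          rw [← map_pow]
          have : d ^ 4 = 1 := by
            refine Subtype.ext ?_
            show ((d ^ 4 : Matrix.SpecialLinearGroup (Fin n) K) : Matrix (Fin n) (Fin n) K) = 1
            rw [Matrix.SpecialLinearGroup.coe_pow, show (d : Matrix (Fin n) (Fin n) K) = emb a0 a1 A from rfl,
              show (4 : ℕ) = 2 + 2 from rfl, pow_add, sq, emb_mul a0 a1 hij, emb_mul a0 a1 hij]
            have hA : A * A * (A * A) = 1 := by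
              ext i j
              fin_cases i <;> fin_cases j <;> simp [A, Matrix.mul_apply, Fin.sum_univ_two]
            rw [hA, emb_one]
          rw [this, map_one]
        have hdne : φ d ≠ 1 := fun h => hd (hφ1 d h _ _ hij).1
        have : orderOf (φ d) ∣ 2 ^ 2 := orderOf_dvd_of_pow_eq_one h4
        obtain ⟨k, -, hk⟩ := (Nat.dvd_prime_pow Nat.prime_two).1 this
        rcases k with _ | k
        · exact absurd (orderOf_eq_one_iff.1 hk) hdne
        · have h2 : 2 ∣ orderOf (φ d) := by rw [hk, pow_succ]; exact dvd_mul_left 2 _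
          rw [← Subgroup.orderOf_mk _ (show φ d ∈ φ.range from ⟨d, rfl⟩)] at h2
          exact h2.trans (orderOf_dvd_natCard _)
      · let t : Fin n → Kˣ := fun i => if i = a0 then ζ else if i = a1 then ζ⁻¹ else 1
        have htd : (Matrix.diagonal fun i => (t i : K)).det = 1 := by
          rw [det_diagonal, ← Finset.prod_subset (Finset.subset_univ {a0, a1}) (fun i _ hi => by
            simp only [Finset.mem_insert, Finset.mem_singleton, not_or] at hi
            simp [t, hi.1, hi.2]), Finset.prod_pair hij]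
          simp [t, hij.symm]
        let d : Matrix.SpecialLinearGroup (Fin n) K := ⟨_, htd⟩
        have hdp : φ d ^ p = 1 := by
          rw [← map_pow, show d ^ p = 1 from ?_, map_one]
          refine Subtype.ext ?_
          rw [Matrix.SpecialLinearGroup.coe_pow, diagonal_pow, Matrix.SpecialLinearGroup.coe_one, ← diagonal_one]
          congr 1
          funext i
          simp only [Pi.pow_apply, t]
          rw [← Units.val_pow_eq_pow_val]
          split_ifs <;> simp [← hζ, pow_orderOf_eq_one]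
        have hdne : φ d ≠ 1 := by
          intro h
          have h2 := (hφ1 d h _ _ hij).2
          simp only [d, Matrix.diagonal_apply_eq, t, if_pos, if_neg hij.symm] at h2
          have h3 : ζ * ζ = 1 := by
            refine Units.ext ?_
            rw [Units.val_mul, Units.val_one]
            nth_rewrite 2 [h2]
            exact Units.mul_inv ζ
          have h4 : orderOf ζ ∣ 2 := orderOf_dvd_of_pow_eq_one (by rw [sq, h3])
          rw [hζ, Nat.prime_dvd_prime_iff_eq hp Nat.prime_two] at h4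
          exact absurd (h4 ▸ hodd) (by decide)
        have ho : orderOf (φ d) = p := orderOf_eq_prime hdp hdne
        rw [← ho, ← Subgroup.orderOf_mk _ (show φ d ∈ φ.range from ⟨d, rfl⟩)]
        exact orderOf_dvd_natCard _
    · obtain ⟨y, hy⟩ := exists_prime_orderOf_dvd_card' p hpJ
      obtain ⟨h, hh⟩ := hJrep y y.2
      have hyp : orderOf (y : MulAut PSLn) = p := by rw [Subgroup.orderOf_coe, hy]
      set M := Nat.card Kˣ
      have hpow : (y : MulAut PSLn) ^ M ∈ φ.range := by
        have hd : ((h ^ M : GL (Fin n) K) : Matrix (Fin n) (Fin n) K).det = 1 := by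
          rw [← GeneralLinearGroup.val_det_apply, map_pow, pow_card_eq_one', Units.val_one]
        refine ⟨⟨_, hd⟩, ?_⟩
        rw [hh, ← map_pow, ← map_pow mι]
        exact congrArg (fun z => δ (mι z)) (Units.ext rfl)
      have hymem : (y : MulAut PSLn) ∈ φ.range := by
        obtain ⟨a, ha⟩ := exists_pow_eq_self_of_coprime (x := (y : MulAut PSLn)) (n := M)
          (by rw [hyp]; exact (hp.coprime_iff_not_dvd.2 hpu).symm)
        rw [← ha]
        exact pow_mem hpow a
      rw [← hyp, ← Subgroup.orderOf_mk _ hymem]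
      exact orderOf_dvd_natCard _
  -- `N` meets the image trivially
  set M : Subgroup (Matrix.SpecialLinearGroup (Fin n) K) := N.comap φ with hM
  haveI : M.Normal := ⟨fun a ha b => by
    rw [hM, Subgroup.mem_comap, map_mul, map_mul, map_inv]
    exact hN _ (hJH (hLJ ⟨b, rfl⟩)) _ ha⟩
  have hdvd : ¬ φ.range ≤ N := fun hle =>
    hp.coprime_iff_not_dvd.1 hNp.symm (hpL.trans (Subgroup.card_dvd_of_le hle))
  rw [Subgroup.eq_bot_iff_forall]
  rintro _ ⟨hy, s, rfl⟩
  by_cases hbig : n = 2 → 4 ≤ Nat.card K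
  · rcases Classical.normal_SL_le_center_or_eq_top (Classical.SL_fin_commutator_eq_top n hn hbig) M with h | h
    · obtain ⟨c, -, hc⟩ := Matrix.SpecialLinearGroup.mem_center_iff.1 (h (show s ∈ M from hy))
      refine (δ_eq_one_iff hn _).2 ⟨ι c, ?_, ?_⟩
      · intro h0
        have hd := hφdet s
        rw [hφval, ← hc, Matrix.scalar_apply, diagonal_map (map_zero ι), det_diagonal] at hd
        simp [h0, NeZero.ne n] at hd
      · rw [hφval, ← hc, Matrix.scalar_apply, diagonal_map (map_zero ι), Matrix.smul_one_eq_diagonal]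
    · exact absurd (by rintro _ ⟨t, rfl⟩; exact (h ▸ Subgroup.mem_top t : t ∈ M)) hdvd
  · simp only [Classical.not_imp, not_le] at hbig
    obtain ⟨rfl, hK4⟩ := hbig
    have hK2 : 2 ≤ Nat.card K := Finite.one_lt_card
    have hKr : Nat.card K = r ∧ r ≤ 3 := by
      haveI := Fintype.ofFinite K
      obtain ⟨f, -, hf⟩ := FiniteField.card K r
      rw [← Nat.card_eq_fintype_card] at hf
      have hf1 : (f : ℕ) = 1 := by
        by_contra h
        have : r ^ 2 ≤ r ^ (f : ℕ) := Nat.pow_le_pow_right hrp.pos (by have := f.pos; omega)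
        have h4 : 4 ≤ r ^ 2 := by have := hrp.two_le; nlinarith
        omega
      rw [hf1, pow_one] at hf
      exact ⟨hf, by omega⟩
    have hQr : Nat.card ↥(N ⊓ φ.range : Subgroup _) ∣ r := by
      have h1 : Nat.card ↥(N ⊓ φ.range : Subgroup _) ∣ r * (r ^ 2 - 1) := by
        refine (Subgroup.card_dvd_of_le inf_le_right).trans ((Subgroup.card_range_dvd φ).trans ?_)
        rw [Classical.card_SL_two, hKr.1]
      have h2 : Nat.Coprime (Nat.card ↥(N ⊓ φ.range : Subgroup _)) p :=
        hNp.coprime_dvd_left (Subgroup.card_dvd_of_le inf_le_left)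
      have h3 : p ∣ r * (r ^ 2 - 1) := by
        refine (hpL.trans (Subgroup.card_range_dvd φ)).trans ?_
        rw [Classical.card_SL_two, hKr.1]
      have h4 : p ∣ r ^ 2 - 1 := ((Nat.coprime_primes hp hrp).2 hpr).dvd_of_dvd_mul_left h3
      have hr2 := hrp.two_le
      rcases (by omega : r = 2 ∨ r = 3) with rfl | rfl
      · norm_num at h1 h4
        obtain rfl := (Nat.prime_dvd_prime_iff_eq hp Nat.prime_three).1 h4
        exact Nat.Coprime.dvd_of_dvd_mul_right h2 (show _ ∣ 2 * 3 from h1)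
      · norm_num at h1 h4
        obtain rfl : p = 2 := (Nat.prime_dvd_prime_iff_eq hp Nat.prime_two).1
          (hp.dvd_of_dvd_pow (show p ∣ 2 ^ 3 from h4))
        exact (h2.pow_right 3).dvd_of_dvd_mul_right (show _ ∣ 3 * 2 ^ 3 from h1)
    refine eq_one_of_pow_eq_one hNp hy ?_
    obtain ⟨τ, hτ, hyτ⟩ := fix_roots hn (r := r) (fun a => σ a = a) (map_one σ) (α := φ s) fun i j h a ha => by
      set u := (δ (Matrix.SpecialLinearGroup.toGL (trSL h a)) : MulAut _) with hu
      have hur : u ^ r = 1 := by rw [hu, ← map_pow, trSL_toGL_pow, map_one]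
      have humem : u ∈ φ.range := by
        refine ⟨trSL h (⟨a, ha⟩ : K), congrArg δ (Units.ext ?_)⟩
        show (Matrix.transvection i j (⟨a, ha⟩ : K)).map ι = Matrix.transvection i j a
        rw [Matrix.transvection, Matrix.transvection, Matrix.map_add ι (map_add ι),
          Matrix.map_one ι ι.map_zero ι.map_one, Matrix.map_single]
        rfl
      exact (comm_of_small hKr.2 hrp (N ⊓ φ.range) hQr hur ⟨hy, s, rfl⟩ fun z hz =>
        ⟨hN _ (hJH (hLJ humem)) z hz.1, hLn _ (hLJ humem) z hz.2⟩).symm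
    obtain ⟨i, rfl⟩ := Subgroup.mem_zpowers_iff.1 (CfsgLib.KnownB.PSpAut.mem_zpowers_of_fix σ τ hτ)
    rw [hyτ, ← map_pow, ← zpow_natCast, ← _root_.zpow_mul, mul_comm, _root_.zpow_mul, zpow_natCast, ← hσ,
      pow_orderOf_eq_one, _root_.one_zpow, map_one]

end CfsgLib.FgsC.LocalBalance
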