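import Cfsg.Agent.Lib.FgsC.LocalBalance.PSLBasic
import Cfsg.Agent.Lib.FgsC.LocalBalance.Monomial

/-!
The centraliser of a graph or graph-field involution of `PSL_n` given by a diagonal form has no nontrivial
normal subgroup of odd order.
-/

set_option autoImplicit false

namespace CfsgLib.FgsC.LocalBalance

open Matrix CfsgLib.KnownB.PSLAut

variable {n : ℕ} {F : Type*} [Field F]

local notation "PSLn" => Matrix.ProjectiveSpecialLinearGroup (Fin n) F
local notation "Mn" => Matrix (Fin n) (Fin n) F

/-- The standard graph(-field) involution attached to `σ` and a diagonal form. -/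
noncomputable def stdGraph (σ : F ≃+* F) (u : Fin n → Fˣ) : MulAut PSLn := δ (diagGL u)⁻¹ * it * fld σ

theorem stdGraph_mul (σ : F ≃+* F) (u : Fin n → Fˣ) (g : GL (Fin n) F) (τ : F ≃+* F) :
    stdGraph σ u * (δ g * fld τ) =
      δ ((diagGL u)⁻¹ * itGL (Matrix.GeneralLinearGroup.map (σ : F →+* F) g)) * (it * fld (σ * τ)) := by
  calc stdGraph σ u * (δ g * fld τ) = δ (diagGL u)⁻¹ * it * (fld σ * δ g) * fld τ := by
        simp only [stdGraph, mul_assoc]
    _ = δ (diagGL u)⁻¹ * (it * δ (Matrix.GeneralLinearGroup.map (σ : F →+* F) g)) * (fld σ * fld τ) := by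
        rw [fld_δ]; simp only [mul_assoc]
    _ = _ := by
        rw [it_δ, map_mul (fld (n := n) (F := F)), map_mul δ]; simp only [mul_assoc]

theorem mul_stdGraph (σ : F ≃+* F) (u : Fin n → Fˣ) (g : GL (Fin n) F) (τ : F ≃+* F) :
    (δ g * fld τ) * stdGraph σ u =
      δ (g * Matrix.GeneralLinearGroup.map (τ : F →+* F) (diagGL u)⁻¹) * (it * fld (τ * σ)) := by
  rw [stdGraph, mul_assoc (δ g), ← mul_assoc (fld τ), ← mul_assoc (fld τ), fld_δ,
    mul_assoc (δ (Matrix.GeneralLinearGroup.map _ _)), ← it_fld, map_mul δ, map_mul (fld (n := n) (F := F))]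
  simp only [mul_assoc]

theorem diagGL_val (u : Fin n → Fˣ) : ((diagGL u : GL (Fin n) F) : Mn) = diagonal fun i => (u i : F) := rfl

theorem diagGL_inv_val (u : Fin n → Fˣ) :
    (((diagGL u)⁻¹ : GL (Fin n) F) : Mn) = diagonal fun i => ((u i)⁻¹ : Fˣ).val := rfl

theorem comm_stdGraph_iff (hn : 2 ≤ n) (σ : F ≃+* F) (u : Fin n → Fˣ) (g : GL (Fin n) F) :
    δ g * stdGraph σ u = stdGraph σ u * δ g ↔
      ∃ c : F, c ≠ 0 ∧ TIso σ (fun i => (u i : F)) (g : Mn) c := by
  have h1 : stdGraph σ u * δ g =
      δ ((diagGL u)⁻¹ * itGL (Matrix.GeneralLinearGroup.map (σ : F →+* F) g) * diagGL u) * stdGraph σ u := by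
    have h := stdGraph_mul σ u g 1
    rw [map_one, mul_one, mul_one] at h
    rw [h, stdGraph, ← mul_assoc, ← mul_assoc, ← mul_assoc, ← map_mul, mul_assoc _ (diagGL u) (diagGL u)⁻¹,
      mul_inv_cancel, mul_one]
  rw [h1, mul_left_inj, δ_eq_iff hn]
  have key : ((Matrix.GeneralLinearGroup.map (σ : F →+* F) g : GL (Fin n) F) : Mn) = (g : Mn).map σ := map_coe σ g
  set A := itGL (Matrix.GeneralLinearGroup.map (σ : F →+* F) g) with hA
  have hAT : ((g : Mn).map σ)ᵀ * (A : Mn) = 1 := by
    rw [hA, itGL_coe, ← key, ← transpose_mul, Units.inv_mul, transpose_one]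
  have hTA : (A : Mn) * ((g : Mn).map σ)ᵀ = 1 := mul_eq_one_comm.1 hAT
  constructor
  · rintro ⟨c, hc, h⟩
    refine ⟨c⁻¹, inv_ne_zero hc, ?_⟩
    have h2 : (A : Mn) * diagonal (fun i => (u i : F)) = c • (diagonal (fun i => (u i : F)) * (g : Mn)) := by
      rw [← Matrix.mul_smul, ← h, Units.val_mul, Units.val_mul, ← diagGL_val, ← Matrix.mul_assoc, ← Matrix.mul_assoc,
        ← Units.val_mul (diagGL u), mul_inv_cancel, Units.val_one, one_mul]
    show ((g : Mn).map σ)ᵀ * diagonal _ * (g : Mn) = _
    rw [Matrix.mul_assoc, eq_inv_smul_iff₀ hc, ← Matrix.mul_smul, ← h2, ← Matrix.mul_assoc, hAT, one_mul]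
  · rintro ⟨c, hc, h⟩
    refine ⟨c⁻¹, inv_ne_zero hc, ?_⟩
    have h2 : diagonal (fun i => (u i : F)) * (g : Mn) = c • ((A : Mn) * diagonal (fun i => (u i : F))) := by
      rw [← Matrix.mul_smul, ← h, ← Matrix.mul_assoc, ← Matrix.mul_assoc, hTA, one_mul]
    rw [eq_inv_smul_iff₀ hc, Units.val_mul, Units.val_mul, Matrix.mul_assoc, ← Matrix.mul_smul, diagGL_val u, ← h2, ← diagGL_val,
      ← Matrix.mul_assoc, Units.inv_mul, one_mul]

theorem emb_mk_det_ne {i j : Fin n} (hij : i ≠ j) {A : Matrix (Fin 2) (Fin 2) F} (hA : A.det = 1) :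
    (emb i j A : Mn).det ≠ 0 := by
  rw [emb_det i j hij, hA]
  exact one_ne_zero

theorem diag_entry_eq {t : Fin n → F} {h : Mn} {τ : F ≃+* F} {l : F}
    (he : h * diagonal t = l • (diagonal t * h.map τ)) (r s : Fin n) :
    h r s * t s = l * (t r * τ (h r s)) := by
  have := congrFun (congrFun he r) s
  simpa [Matrix.mul_diagonal, Matrix.diagonal_mul] using this

theorem nonzero_of_diag {g : GL (Fin n) F} {t : Fin n → F} (h : (g : Mn) = diagonal t) (i : Fin n) : t i ≠ 0 :=
  fun h0 => (GeneralLinearGroup.det g).ne_zero (by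
    rw [GeneralLinearGroup.val_det_apply, h, det_diagonal]
    exact Finset.prod_eq_zero (Finset.mem_univ i) h0)

set_option maxHeartbeats 800000 in
/-- No odd core in the centraliser of a standard graph(-field) involution. -/
theorem core_graph [Fintype F] (hn : 3 ≤ n) (h2 : (2 : F) ≠ 0) {σ : F ≃+* F} (hσ2 : ∀ a, σ (σ a) = a)
    {u : Fin n → Fˣ} (hcases : σ = 1 ∨ u = 1) (h31 : n = 3 → u = 1) {o : Fin n} (ho : ∀ i, i ≠ o → u i = 1)
    (A : Subgroup (MulAut PSLn)) (hinn : ∀ k : PSLn, MulAut.conj k ∈ A) :
    Cfsg.pPrimeCore 2 ↥(A ⊓ Subgroup.centralizer {stdGraph σ u}) = ⊥ := by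
  classical
  haveI : NeZero n := ⟨by omega⟩
  haveI : Finite (MulAut PSLn) := Finite.of_injective _ DFunLike.coe_injective
  set x := stdGraph σ u with hx
  set d : Fin n → F := fun i => (u i : F) with hd
  refine core_eq_bot _ fun N hNH hN hNp => ?_
  have hodd : Odd (Nat.card N) := Nat.coprime_two_right.1 hNp
  set J : Subgroup (MulAut PSLn) := Cfsg.Inn PSLn ⊓ Subgroup.centralizer {x}
  have hJmem : ∀ h : GL (Fin n) F, (h : Mn).det = 1 → TIso σ d (h : Mn) 1 → δ h ∈ J := fun h h1 h3 =>
    ⟨δ_mem_inn_of_det_one h1, Subgroup.mem_centralizer_singleton_iff.2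
      ((comm_stdGraph_iff (by omega) σ u h).2 ⟨1, one_ne_zero, h3⟩)⟩
  have hd1 : u = 1 → d = 1 := fun h => by funext i; simp [hd, h]
  have hNJ : N ⊓ J = ⊥ := by
    by_contra hne
    obtain ⟨Y, hYle, hYn, hYc, hYodd, hY1⟩ := exists_abelian J (N ⊓ J) (fun a ha y hy =>
      ⟨hN a (inn_inf_le A hinn x ha) y hy.1, J.mul_mem (J.mul_mem ha hy.2) (J.inv_mem ha)⟩)
      (hodd.of_dvd_nat (Subgroup.card_dvd_of_le inf_le_left)) hne
    refine hY1 (Setup.eq_bot (σ := σ) (d := d) (ψ := (δ : GL (Fin n) F →* MulAut PSLn)) ?_)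
    refine ⟨hn, h2, hσ2, fun g h => δ_eq_iff (by omega) g h, fun y hy => ?_, hYodd, hYc,
      fun h h1 h3 y hy => hYn _ (hJmem h h1 h3) y hy, hcases.imp id hd1, fun h => hd1 (h31 h),
      ⟨o, fun i hi => by simp [hd, ho i hi]⟩, fun i => (u i).ne_zero⟩
    obtain ⟨-, hyI, hyc⟩ := hYle hy
    obtain ⟨g, -, rfl⟩ := exists_of_mem_inn hyI
    obtain ⟨c, -, hc⟩ := (comm_stdGraph_iff (by omega) σ u g).1 (Subgroup.mem_centralizer_singleton_iff.1 hyc)
    exact ⟨g, c, rfl, hc⟩
  refine eq_bot_two_step _ J J N hNH hN (inn_inf_le A hinn x) (inn_inf_normalized A x) le_rfl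
    (fun y hy l hl => J.mul_mem (J.mul_mem hy hl) (J.inv_mem hy)) hNJ ?_
  -- elements of diagonal type
  have diagCase : ∀ (g : GL (Fin n) F) (τ : F ≃+* F) (t : Fin n → F), (g : Mn) = diagonal t →
      (δ g * fld τ : MulAut PSLn) ∈ N → (∀ l ∈ J, (δ g * fld τ) * l = l * (δ g * fld τ)) →
      (δ g * fld τ : MulAut PSLn) = 1 := by
    intro g τ t hgt hmN hmJ
    have ht0 := nonzero_of_diag hgt
    have hcx : x * (δ g * fld τ) = (δ g * fld τ) * x :=
      (Subgroup.mem_centralizer_singleton_iff.1 (hNH hmN).2).symm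
    rw [hx, stdGraph_mul, mul_stdGraph, gal_comm σ τ, mul_left_inj, δ_eq_iff (by omega)] at hcx
    obtain ⟨c, hc0, hc⟩ := hcx
    have hti : ∀ i, ((τ (d i))⁻¹ * t i) = c * ((d i)⁻¹ * (σ (t i))⁻¹) := by
      intro i
      have hg' : ((itGL (Matrix.GeneralLinearGroup.map (σ : F →+* F) g) : GL (Fin n) F) : Mn) =
          diagonal fun i => (σ (t i))⁻¹ := by
        have hv : (((Matrix.GeneralLinearGroup.map (σ : F →+* F) g)⁻¹ : GL (Fin n) F) : Mn) =
            diagonal fun i => (σ (t i))⁻¹ := by
          have e : (diagonal fun i => (σ (t i))⁻¹) * ((Matrix.GeneralLinearGroup.map (σ : F →+* F) g : GL (Fin n) F) : Mn)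
              = 1 := by
            rw [map_coe, hgt, diagonal_map (map_zero σ), diagonal_mul_diagonal, ← diagonal_one]
            congr 1
            funext k
            exact inv_mul_cancel₀ ((map_ne_zero σ).2 (ht0 k))
          rw [← mul_one (diagonal fun i => (σ (t i))⁻¹), ← Units.mul_inv (Matrix.GeneralLinearGroup.map (σ : F →+* F) g),
            ← mul_assoc, e, one_mul]
        rw [itGL_coe, hv, diagonal_transpose]
      rw [Units.val_mul, Units.val_mul, hg', hgt, diagGL_inv_val, map_coe, diagGL_inv_val, diagonal_map (map_zero τ),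
        diagonal_mul_diagonal, diagonal_mul_diagonal, ← diagonal_smul] at hc
      have := congrFun (diagonal_injective hc) i
      simp only [Function.comp_apply, Pi.smul_apply, smul_eq_mul, Units.val_inv_eq_inv_val, map_inv₀] at this
      rw [mul_comm _ (t i)]
      exact this
    -- `τ = 1`
    obtain ⟨i, j, k, hij, hki, hkj, hdi, hdj⟩ : ∃ i j k : Fin n, i ≠ j ∧ k ≠ i ∧ k ≠ j ∧ d i = 1 ∧ d j = 1 := by
      obtain ⟨i, hio, -⟩ := third hn o o
      obtain ⟨j, hji, hjo⟩ := third hn i o
      obtain ⟨k, hki, hkj⟩ := third hn i j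
      exact ⟨i, j, k, hji.symm, hki, hkj, by simp [hd, ho i hio], by simp [hd, ho j hjo]⟩
    have hrot : ∀ (h : GL (Fin n) F), (h : Mn).det = 1 → TIso σ d (h : Mn) 1 →
        ∀ (q : Fin n), (h : Mn) q q = 1 → ∀ r s, (h : Mn) r s * t s = t r * τ ((h : Mn) r s) := by
      intro h h1 h3 q hq r s
      obtain ⟨l, -, hl⟩ := mem_δ_centralizer_comm (by omega) (hmJ _ (hJmem h h1 h3))
      rw [hgt] at hl
      have hqq := diag_entry_eq hl q q
      rw [hq, map_one, one_mul, mul_one] at hqq
      have hl1 : l = 1 := mul_right_cancel₀ (ht0 q) (hqq.symm.trans (one_mul _).symm)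
      have := diag_entry_eq hl r s
      rwa [hl1, one_mul] at this
    have hτ : τ = 1 := by
      by_cases hσ : σ = 1
      · -- orthogonal: rotations
        have hrotτ : ∀ v : F, 1 + v * v ≠ 0 → τ (v * v) = v * v := by
          intro v hv
          set a := (1 - v * v) / (1 + v * v) with ha
          set b := 2 * v / (1 + v * v) with hb
          have hab : a * σ a + b * σ b = 1 := by
            rw [hσ, RingAut.one_apply, RingAut.one_apply, ha, hb, div_mul_div_comm, div_mul_div_comm, ← add_div,
              div_eq_one_iff_eq (mul_ne_zero hv hv)]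
            ring
          have hA := rot_unitary hσ2 hab
          have e := hrot (GeneralLinearGroup.mkOfDetNeZero _ (emb_mk_det_ne hij (rot_det hab)))
            (show (emb i j _ : Mn).det = 1 by rw [emb_det i j hij, rot_det hab])
            (emb_iso i j hij hdi hdj hA) k
            (show (emb i j _ : Mn) k k = 1 by simp [emb_apply i j hij, hki, hkj]) i i
          have e' : a * t i = t i * τ a := by
            change (emb i j _ : Mn) i i * t i = t i * τ ((emb i j _ : Mn) i i) at e
            simpa [emb_apply i j hij] using e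
          have hτa : τ a = a := mul_left_cancel₀ (ht0 i) (e'.symm.trans (mul_comm _ _))
          rw [ha, map_div₀, map_sub, map_add, map_one] at hτa
          have hτv : 1 + τ (v * v) ≠ 0 := fun h => hv (by
            have := congrArg τ.symm h
            simpa using this)
          rw [div_eq_div_iff hτv hv] at hτa
          have h4 : 2 * (τ (v * v) - v * v) = 0 := by linear_combination -hτa
          exact sub_eq_zero.1 ((mul_eq_zero.1 h4).resolve_left h2)
        have hsq : ∀ v : F, τ (v * v) = v * v := fun v => by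
          by_cases hv : 1 + v * v = 0
          · rw [show v * v = -1 by linear_combination hv, map_neg, map_one]
          · exact hrotτ v hv
        refine RingEquiv.ext fun a => ?_
        have h4 : (2 * 2 : F) * τ a = 2 * 2 * a := by
          calc (2 * 2 : F) * τ a = τ ((a + 1) * (a + 1)) - τ ((a - 1) * (a - 1)) := by
                rw [← map_sub, show (a + 1) * (a + 1) - (a - 1) * (a - 1) = 2 * 2 * a by ring, map_mul, map_mul,
                  map_ofNat]
            _ = _ := by rw [hsq, hsq]; ring
        exact mul_left_cancel₀ (mul_ne_zero h2 h2) h4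
      · -- unitary: the norm one elements
        have hu1 := hcases.resolve_left hσ
        have hzfix : ∀ v : F, v ≠ 0 → τ (v / σ v) = v / σ v := by
          intro v hv
          have hσv : σ v ≠ 0 := (map_ne_zero σ).2 hv
          set ζ := Units.mk0 (v / σ v) (div_ne_zero hv hσv) with hζ
          set w : Fin n → Fˣ := fun q => if q = i then ζ else if q = j then ζ⁻¹ else 1 with hw
          have hdet : ((diagGL w : GL (Fin n) F) : Mn).det = 1 := by
            rw [diagGL_val, det_diagonal, ← Finset.prod_subset (Finset.subset_univ {i, j}) (fun q _ hq => by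
              simp only [Finset.mem_insert, Finset.mem_singleton, not_or] at hq
              simp [w, hq.1, hq.2]), Finset.prod_pair hij]
            simp [w, hij.symm]
          have hiso : TIso σ d ((diagGL w : GL (Fin n) F) : Mn) 1 := by
            rw [diagGL_val]
            refine tiso_diagonal fun q => ?_
            have hN : σ (v / σ v) * (v / σ v) = 1 := by rw [map_div₀, hσ2]; field_simp
            simp only [w]
            split_ifs
            · exact hN
            · simp only [hζ, Units.val_inv_eq_inv_val, Units.val_mk0, map_inv₀, ← mul_inv, hN, inv_one]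
            · simp
          have e := hrot (diagGL w) hdet hiso k (by simp [diagGL_val, w, hki, hkj]) i i
          rw [diagGL_val] at e
          simp only [diagonal_apply_eq, w, if_pos rfl] at e
          exact (mul_left_cancel₀ (ht0 i) ((mul_comm _ _).trans e)).symm
        have hout : ∀ v : F, σ v ≠ v → τ v = v := by
          intro v hv
          have hv0 : v ≠ 0 := by rintro rfl; exact hv (map_zero σ)
          have hv1 : v + 1 ≠ 0 := fun h => hv (by rw [show v = -1 by linear_combination h]; simp)
          have h1 := hzfix v hv0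
          have h3 := hzfix (v + 1) hv1
          have hσv : σ v ≠ 0 := (map_ne_zero σ).2 hv0
          have hσv1 : σ v + 1 ≠ 0 := by
            have := (map_ne_zero σ).2 hv1
            rwa [map_add, map_one] at this
          rw [map_add, map_one] at h3
          have hne : v / σ v - (v + 1) / (σ v + 1) ≠ 0 := by
            intro h
            field_simp at h
            exact hv (by linear_combination -h)
          have hσv' : σ v = ((v + 1) / (σ v + 1) - 1) / (v / σ v - (v + 1) / (σ v + 1)) := by
            rw [eq_div_iff hne]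
            field_simp
            ring
          have hτσ : τ (σ v) = σ v := by
            conv_lhs => rw [hσv']
            rw [map_div₀, map_sub, map_sub, h1, h3, map_one, ← hσv']
          have hvv : v = v / σ v * σ v := by rw [div_mul_cancel₀ v hσv]
          rw [hvv, map_mul, h1, hτσ]
        obtain ⟨w₀, hw₀⟩ : ∃ w, σ w ≠ w := by
          by_contra h
          push Not at h
          exact hσ (RingEquiv.ext h)
        refine RingEquiv.ext fun a => ?_
        by_cases ha : σ a = a
        · have h1 := hout (a + w₀) (by rw [map_add, ha]; exact fun h => hw₀ (add_left_cancel h))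
          rw [map_add, hout w₀ hw₀] at h1
          exact add_right_cancel h1
        · exact hout a ha
    subst hτ
    rw [map_one, mul_one] at hmN hmJ ⊢
    have htc : ∀ q, σ (t q) * t q = c := fun q => by
      have h := hti q
      rw [RingAut.one_apply] at h
      have hdq : d q ≠ 0 := (u q).ne_zero
      have hσt : σ (t q) ≠ 0 := (map_ne_zero σ).2 (ht0 q)
      field_simp at h
      linear_combination h
    by_cases hσ : σ = 1
    · refine eq_one_of_sq hodd hmN ?_
      rw [← map_mul, δ_eq_one_iff (by omega)]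
      refine ⟨c, hc0, ?_⟩
      rw [Units.val_mul, hgt, diagonal_mul_diagonal, Matrix.smul_one_eq_diagonal]
      congr 1
      funext q
      rw [← htc q, hσ]
      rfl
    · have hu1 := hcases.resolve_left hσ
      obtain ⟨a, b, ha, hb, hab⟩ := exists_norm_one_pair h2 hσ2 hσ
      rw [δ_eq_one_iff (by omega)]
      refine ⟨t 0, ht0 0, ?_⟩
      rw [hgt, Matrix.smul_one_eq_diagonal]
      congr 1
      funext q
      rcases eq_or_ne (0 : Fin n) q with rfl | hq
      · rfl
      obtain ⟨k', hk0, hkq⟩ := third hn (0 : Fin n) q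
      have hd' : ∀ q, d q = 1 := fun q => by simp [hd, hu1]
      have e := hrot (GeneralLinearGroup.mkOfDetNeZero _ (emb_mk_det_ne hq (rot_det hab)))
        (show (emb 0 q _ : Mn).det = 1 by rw [emb_det 0 q hq, rot_det hab])
        (emb_iso 0 q hq (hd' 0) (hd' q) (rot_unitary hσ2 hab)) k'
        (show (emb 0 q _ : Mn) k' k' = 1 by simp [emb_apply 0 q hq, hk0, hkq]) 0 q
      change (emb 0 q _ : Mn) 0 q * t q = t 0 * _ at e
      simp [emb_apply 0 q hq, hq.symm] at e
      exact mul_left_cancel₀ hb (e.trans (mul_comm _ _))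
  -- reduction to diagonal type
  have plain : ∀ (g : GL (Fin n) F) (τ : F ≃+* F), (δ g * fld τ : MulAut PSLn) ∈ N →
      (∀ l ∈ J, (δ g * fld τ) * l = l * (δ g * fld τ)) → (δ g * fld τ : MulAut PSLn) = 1 := by
    intro g τ hmN hmJ
    refine eq_one_of_sq hodd hmN ?_
    have e : (δ g * fld τ : MulAut PSLn) * (δ g * fld τ) =
        δ (g * Matrix.GeneralLinearGroup.map (τ : F →+* F) g) * fld (τ * τ) := by
      rw [mul_assoc, ← mul_assoc (fld τ), fld_δ, mul_assoc, ← map_mul (fld (n := n) (F := F)), ← mul_assoc, ← map_mul]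
    set g' := g * Matrix.GeneralLinearGroup.map (τ : F →+* F) g with hg'
    have hcomm : ∀ a b : Fin n, a ≠ b → (sgnGL a b * g' * sgnGL a b : GL (Fin n) F) = g' := by
      intro a b hab
      obtain ⟨c, hc0, hc⟩ := mem_δ_centralizer_comm (by omega) (hmJ _ (hJmem _ (sgnGL_det hab) (sgnGL_iso a b)))
      set S : Mn := ((sgnGL a b : GL (Fin n) F) : Mn) with hS
      have hSτ : S.map τ = S := by
        rw [hS, sgnGL_val, diagonal_map (map_zero τ)]
        congr 1
        funext q
        split_ifs <;> simp
      have hSS : S * S = 1 := by rw [hS, ← Units.val_mul, sgnGL_sq, Units.val_one]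
      rw [hSτ] at hc
      have hc2 : c * c = 1 := by
        have h1 : (c * c) • (g : Mn) = g := by
          calc (c * c) • (g : Mn) = c • (c • ((g : Mn) * S * S)) := by
                rw [smul_smul, mul_assoc, hSS, mul_one]
            _ = c • (S * (g : Mn) * S) := by rw [hc, Matrix.smul_mul]
            _ = S * (c • ((g : Mn) * S)) := by rw [Matrix.mul_smul, mul_assoc]
            _ = S * (S * (g : Mn)) := by rw [hc]
            _ = g := by rw [← mul_assoc, hSS, one_mul]
        have h3 : (c * c - 1) • (g : Mn) = 0 := by rw [sub_smul, one_smul, h1, sub_self]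
        exact sub_eq_zero.1 ((smul_eq_zero.1 h3).resolve_right g.isUnit.ne_zero)
      have hcτ : τ c = c := by rcases mul_self_eq_one_iff.1 hc2 with h | h <;> simp [h]
      have hc' : S * (g : Mn).map τ = c • ((g : Mn).map τ * S) := by
        have := congrArg (fun X : Mn => X.map τ) hc
        simpa only [Matrix.map_mul, hSτ, CfsgLib.KnownB.Descent.map_smul_mat, hcτ] using this
      refine Units.ext ?_
      rw [hg', Units.val_mul, Units.val_mul, Units.val_mul, map_coe, ← hS]
      calc S * ((g : Mn) * (g : Mn).map τ) * S = (S * (g : Mn)) * (g : Mn).map τ * S := by simp only [mul_assoc]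
        _ = c • ((g : Mn) * (S * (g : Mn).map τ) * S) := by
            rw [hc, Matrix.smul_mul, Matrix.smul_mul]; simp only [Matrix.mul_assoc]
        _ = (c * c) • ((g : Mn) * (g : Mn).map τ * (S * S)) := by
            rw [hc', Matrix.mul_smul, Matrix.smul_mul, smul_smul]; simp only [Matrix.mul_assoc]
        _ = _ := by rw [hc2, hSS, one_smul, mul_one]
    have hdiag : ∀ r s, r ≠ s → (g' : Mn) r s = 0 := by
      intro r s hrs
      obtain ⟨k, hkr, hks⟩ := third hn r s
      have h : ((sgnGL r k * g' * sgnGL r k : GL (Fin n) F) : Mn) r s = (g' : Mn) r s := by rw [hcomm r k hkr.symm]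
      rw [sgn_conj_apply, if_pos (Or.inl rfl),
        if_neg (by rintro (h' | h'); exacts [hrs h'.symm, hks h'.symm])] at h
      have h4 : (2 : F) * (g' : Mn) r s = 0 := by linear_combination -h
      exact (mul_eq_zero.1 h4).resolve_left h2
    rw [e]
    refine diagCase g' (τ * τ) (fun q => (g' : Mn) q q) ?_ (by rw [← e]; exact N.mul_mem hmN hmN) fun l hl => ?_
    · ext r s
      rcases eq_or_ne r s with rfl | h
      · simp
      · simp [h, hdiag r s h]
    · rw [← e, mul_assoc, hmJ l hl, ← mul_assoc, hmJ l hl, mul_assoc]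
  intro m hmN hmJ
  obtain ⟨g, τ, e, he, rfl⟩ := decomp (by omega) m
  rcases he with rfl | ⟨rfl, -⟩
  · rw [mul_one] at hmN hmJ ⊢
    exact plain g τ hmN hmJ
  · refine eq_one_of_sq hodd hmN ?_
    have e : (δ g * fld τ * it : MulAut PSLn) * (δ g * fld τ * it) =
        δ (g * Matrix.GeneralLinearGroup.map (τ : F →+* F) (itGL g)) * fld (τ * τ) := by
      calc (δ g * fld τ * it : MulAut PSLn) * (δ g * fld τ * it)
          = δ g * fld τ * (it * δ g) * (fld τ * it) := by simp only [mul_assoc]
        _ = δ g * (fld τ * δ (itGL g)) * it * (fld τ * it) := by rw [it_δ]; simp only [mul_assoc]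
        _ = δ g * δ (Matrix.GeneralLinearGroup.map (τ : F →+* F) (itGL g)) * fld τ * (it * fld τ) * it := by
            rw [fld_δ]; simp only [mul_assoc]
        _ = _ := by
            rw [it_fld, map_mul, map_mul (fld (n := n) (F := F))]
            simp only [mul_assoc, it_mul_self, mul_one]
    rw [e]
    refine plain _ _ (by rw [← e]; exact N.mul_mem hmN hmN) fun l hl => ?_
    rw [← e, mul_assoc, hmJ l hl, ← mul_assoc, hmJ l hl, mul_assoc]

end CfsgLib.FgsC.LocalBalance
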