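import Cfsg.Agent.Lib.FgsC.LocalBalance.OrthCoord

/-!
Test elements of an orthogonal block: sign pairs, three-cycles and squared rotations.
-/

set_option autoImplicit false

namespace CfsgLib.FgsC.LocalBalance

open Matrix CfsgLib.KnownB.PSLAut

variable {n : ℕ} {F : Type*} [Field F]

theorem exists_sign_square {i j : Fin n} (hij : i ≠ j) :
    ∃ R : Matrix (Fin n) (Fin n) F, Rᵀ * R = 1 ∧
      R * R = diagonal (fun k => if k = i ∨ k = j then -1 else 1) := by
  refine ⟨emb i j !![0, 1; -1, 0], ?_, ?_⟩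
  · rw [emb_transpose, emb_mul i j hij, show (!![0, 1; -1, 0] : Matrix (Fin 2) (Fin 2) F)ᵀ * !![0, 1; -1, 0] = 1 by
      ext a b; fin_cases a <;> fin_cases b <;> simp [Matrix.mul_apply, Fin.sum_univ_two], emb_one]
  · rw [emb_mul i j hij, show (!![0, 1; -1, 0] : Matrix (Fin 2) (Fin 2) F) * !![0, 1; -1, 0] = -1 by
      ext a b; fin_cases a <;> fin_cases b <;> simp [Matrix.mul_apply, Fin.sum_univ_two]]
    ext r s
    rw [emb_apply i j hij, diagonal_apply]
    by_cases h1 : r = i <;> by_cases h2 : r = j <;> by_cases h3 : s = i <;> by_cases h4 : s = j <;>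
      by_cases h5 : r = s <;> simp_all [Matrix.neg_apply, Matrix.one_apply]

theorem exists_rot_square {i j : Fin n} (hij : i ≠ j) {a b : F} (hab : a * a + b * b = 1) :
    ∃ R : Matrix (Fin n) (Fin n) F, Rᵀ * R = 1 ∧ (R * R) i i = 2 * (a * a) - 1 ∧
      ∀ k, k ≠ i → k ≠ j → (R * R) k k = 1 := by
  refine ⟨emb i j !![a, b; -b, a], ?_, ?_, fun k hki hkj => ?_⟩
  · rw [emb_transpose, emb_mul i j hij, show (!![a, b; -b, a] : Matrix (Fin 2) (Fin 2) F)ᵀ * !![a, b; -b, a] = 1 by
      ext u v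
      fin_cases u <;> fin_cases v <;> simp [Matrix.mul_apply, Fin.sum_univ_two] <;>
        first | linear_combination hab | ring, emb_one]
  · rw [emb_mul i j hij, emb_apply i j hij]
    simp [Matrix.mul_apply, Fin.sum_univ_two]
    linear_combination -hab
  · rw [emb_mul i j hij, emb_apply i j hij]
    simp [hki, hkj]

theorem exists_cycle_square {i j : Fin n} (hij : i ≠ j) (hn : 3 ≤ n) :
    ∃ R : Matrix (Fin n) (Fin n) F, Rᵀ * R = 1 ∧ (R * R) i j = 1 ∧
      (4 ≤ n → ∃ q, (R * R) q q = 1) := by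
  classical
  obtain ⟨k, hki, hkj⟩ := third hn i j
  set σ : Equiv.Perm (Fin n) := Equiv.swap i j * Equiv.swap i k with hσ
  have s1 : σ i = k := by
    rw [hσ, Equiv.Perm.mul_apply, Equiv.swap_apply_left, Equiv.swap_apply_of_ne_of_ne hki hkj]
  have s2 : σ k = j := by
    rw [hσ, Equiv.Perm.mul_apply, Equiv.swap_apply_right, Equiv.swap_apply_left]
  refine ⟨σ.permMatrix F, ?_, ?_, fun h4 => ?_⟩
  · rw [Matrix.transpose_permMatrix, ← Matrix.permMatrix_mul, mul_inv_cancel, Matrix.permMatrix_one]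
  · rw [← Matrix.permMatrix_mul]
    simp [Equiv.Perm.permMatrix, PEquiv.toMatrix_apply, Equiv.toPEquiv_apply, s1, s2]
  · obtain ⟨q, hq⟩ : ∃ q : Fin n, q ∉ ({i, j, k} : Finset (Fin n)) := by
      by_contra hall
      push Not at hall
      have := Finset.card_le_card (fun x _ => hall x : (Finset.univ : Finset (Fin n)) ⊆ {i, j, k})
      have h3 : ({i, j, k} : Finset (Fin n)).card ≤ 3 := Finset.card_le_three
      simp at this
      omega
    simp only [Finset.mem_insert, Finset.mem_singleton, not_or] at hq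
    obtain ⟨hqi, hqj, hqk⟩ := hq
    refine ⟨q, ?_⟩
    rw [← Matrix.permMatrix_mul]
    have s3 : σ q = q := by
      rw [hσ, Equiv.Perm.mul_apply, Equiv.swap_apply_of_ne_of_ne hqi hqk, Equiv.swap_apply_of_ne_of_ne hqi hqj]
    simp [Equiv.Perm.permMatrix, PEquiv.toMatrix_apply, Equiv.toPEquiv_apply, s3]

/-- The consequences of commuting with the squares of the orthogonal matrices of a block. -/
theorem block_relation (hn : 3 ≤ n) (h2 : (2 : F) ≠ 0) {T : Type*} [AddCommGroup T] [Module F T]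
    (θ : F ≃+* F) (t : Fin n → T)
    (hrel : ∀ R : Matrix (Fin n) (Fin n) F, Rᵀ * R = 1 → (4 ≤ n → ∃ q, (R * R) q q = 1) →
      ∀ p q, θ ((R * R) p q) • t p = (R * R) p q • t q) :
    (∀ i j, t i = t j) ∧ ((∃ i, t i ≠ 0) → ∀ a b : F, a * a + b * b = 1 → θ (a * a) = a * a) := by
  have hconst : ∀ i j, t i = t j := by
    intro i j
    rcases eq_or_ne i j with rfl | hij
    · rfl
    obtain ⟨R, h1, h3, h4⟩ := exists_cycle_square (F := F) hij hn
    have := hrel R h1 h4 i j
    rwa [h3, map_one, one_smul, one_smul] at this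
  refine ⟨hconst, ?_⟩
  rintro ⟨i, hi⟩ a b hab
  obtain ⟨j, hji, -⟩ := third hn i i
  obtain ⟨k, hki, hkj⟩ := third hn i j
  obtain ⟨R, h1, h3, h4⟩ := exists_rot_square hji.symm hab
  have h := hrel R h1 (fun _ => ⟨k, h4 k hki hkj⟩) i i
  rw [h3] at h
  have h5 : θ (2 * (a * a) - 1) = 2 * (a * a) - 1 := by
    by_contra hne
    have h6 : (θ (2 * (a * a) - 1) - (2 * (a * a) - 1)) • t i = 0 := by rw [sub_smul, h, sub_self]
    exact hne (sub_eq_zero.1 ((smul_eq_zero.1 h6).resolve_right hi))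
  rw [map_sub, map_one, map_mul, map_ofNat] at h5
  exact mul_left_cancel₀ h2 (sub_left_injective h5)

end CfsgLib.FgsC.LocalBalance
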