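import Cfsg.Agent.Lib.FgsC.LocalBalance.PSLBasic
import Cfsg.Agent.Lib.FgsC.LocalBalance.Monomial
import Cfsg.Agent.Lib.Geometry.PGOQuot
import Cfsg.Agent.Lib.Geometry.GraphPSL.Congr
import Cfsg.Agent.Lib.Geometry.FieldSplit
import Cfsg.Agent.Lib.Base.Cores

/-!
Coordinates for the centraliser of an outer involution of an orthogonal group.
-/

set_option autoImplicit false

namespace CfsgLib.FgsC.LocalBalance

open Matrix QuadraticMap CfsgLib.Geometry

variable {ι : Type} [Fintype ι] [DecidableEq ι] {F : Type*} [Field F]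

theorem matQuad_eq_iff (h2 : (2 : F) ≠ 0) (A B : Matrix ι ι F) :
    (∀ v, matQuad A v = matQuad B v) ↔ A + Aᵀ = B + Bᵀ := by
  constructor
  · intro h
    have hfun : ⇑(matQuad A) = ⇑(matQuad B) := funext h
    ext i j
    have h1 := polar_matQuad A (Pi.single i 1) (Pi.single j 1)
    have h3 := polar_matQuad B (Pi.single i 1) (Pi.single j 1)
    rw [hfun, h3] at h1
    simpa using h1.symm
  · intro h v
    refine mul_left_cancel₀ h2 ?_
    have h1 := polar_matQuad A v v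
    have h3 := polar_matQuad B v v
    rw [polar_self', h] at h1
    rw [polar_self', ← h1] at h3
    exact h3.symm

theorem semisim_iff (h2 : (2 : F) ≠ 0) (M : Matrix ι ι F) (g : Matrix ι ι F) (τ : F ≃+* F) (μ : F) :
    (∀ v, matQuad M (g *ᵥ fun i => τ (v i)) = μ * τ (matQuad M v)) ↔
      gᵀ * (M + Mᵀ) * g = μ • (M + Mᵀ).map τ := by
  have h1 : ∀ u, matQuad M (g *ᵥ u) = matQuad (gᵀ * M * g) u := fun u => by
    rw [matQuad_apply, matQuad_apply, mul_assoc, ← mulVec_mulVec, ← mulVec_mulVec, dotProduct_mulVec u,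
      vecMul_transpose]
  have h3 : ∀ v, μ * τ (matQuad M v) = matQuad (μ • M.map τ) (fun i => τ (v i)) := fun v => by
    simp [matQuad_apply, dotProduct, mulVec, map_sum, map_mul, Finset.mul_sum, mul_assoc, mul_left_comm μ]
  have h4 := matQuad_eq_iff h2 (gᵀ * M * g) (μ • M.map τ)
  have hL : gᵀ * M * g + (gᵀ * M * g)ᵀ = gᵀ * (M + Mᵀ) * g := by
    rw [transpose_mul, transpose_mul, transpose_transpose, Matrix.mul_add, Matrix.add_mul, mul_assoc gᵀ Mᵀ]
  have hR : μ • M.map τ + (μ • M.map τ)ᵀ = μ • (M + Mᵀ).map τ := by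
    rw [Matrix.map_add τ (map_add τ), smul_add, transpose_smul, transpose_map]
  rw [hL, hR] at h4
  rw [← h4]
  constructor
  · intro h u
    obtain ⟨v, rfl⟩ : ∃ v : ι → F, (fun i => τ (v i)) = u := ⟨fun i => τ.symm (u i), by simp⟩
    rw [← h1, h, h3]
  · intro h v
    rw [h1, h, h3]

theorem mem_isometry_iff (h2 : (2 : F) ≠ 0) (M : Matrix ι ι F) (g : GL ι F) :
    g ∈ Cfsg.isometryGroup F ⇑(matQuad M) ↔
      (g : Matrix ι ι F)ᵀ * (M + Mᵀ) * (g : Matrix ι ι F) = M + Mᵀ := by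
  have h := semisim_iff h2 M (g : Matrix ι ι F) (RingEquiv.refl F) 1
  simp only [RingEquiv.refl_apply, one_mul, one_smul] at h
  rw [mem_isometryGroup_iff, h]
  rfl

/-- An odd-dimensional symmetric invertible matrix is congruent to a scalar. -/
theorem exists_congr_scalar [Finite F] (h2 : (2 : F) ≠ 0) {κ : Type} [Fintype κ] [DecidableEq κ]
    (hodd : Odd (Fintype.card κ)) {J : Matrix κ κ F} (hs : Jᵀ = J) (hd : J.det ≠ 0) :
    ∃ (P : GL κ F) (c : F), c ≠ 0 ∧ (P : Matrix κ κ F)ᵀ * J * (P : Matrix κ κ F) = c • 1 := by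
  obtain ⟨j, hj⟩ := hodd
  obtain ⟨P, hP⟩ := GraphPSL.congr_of_disc (J' := J.det • (1 : Matrix κ κ F)) h2 hs
    (by rw [transpose_smul, transpose_one]) hd (by rw [det_smul, det_one, mul_one]; exact pow_ne_zero _ hd)
    ⟨J.det ^ (j + 1), by rw [det_smul, det_one, mul_one, hj]; ring⟩
  exact ⟨P, J.det, hd, hP⟩

/-- A ring automorphism of odd order fixing the squares of the first coordinates of the rational points of
the circle is trivial. -/
theorem eq_one_of_circle (h2 : (2 : F) ≠ 0) (τ : F ≃+* F) {N : ℕ} (hN : Odd N) (hτN : τ ^ N = 1)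
    (h : ∀ a b : F, a * a + b * b = 1 → τ (a * a) = a * a) : τ = 1 := by
  set θ := τ * τ with hθ
  have hfix : ∀ v : F, 1 + v * v ≠ 0 → θ (v * v) = v * v := by
    intro v hv
    set a := (1 - v * v) / (1 + v * v) with ha
    set b := 2 * v / (1 + v * v) with hb
    have hab : a * a + b * b = 1 := by
      rw [ha, hb, div_mul_div_comm, div_mul_div_comm, ← add_div, div_eq_one_iff_eq (mul_ne_zero hv hv)]
      ring
    have hθa : θ a = a := by
      show τ (τ a) = a
      rcases mul_self_eq_mul_self_iff.1 ((map_mul τ a a).symm.trans (h a b hab)) with e | e <;> simp [e]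
    rw [ha, map_div₀, map_sub, map_add, map_one] at hθa
    have hθv : 1 + θ (v * v) ≠ 0 := fun h => hv (by
      have := congrArg θ.symm h
      simpa using this)
    rw [div_eq_div_iff hθv hv] at hθa
    have h4 : 2 * (θ (v * v) - v * v) = 0 := by linear_combination -hθa
    exact sub_eq_zero.1 ((mul_eq_zero.1 h4).resolve_left h2)
  have hsq : ∀ v : F, θ (v * v) = v * v := fun v => by
    by_cases hv : 1 + v * v = 0
    · rw [show v * v = -1 by linear_combination hv, map_neg, map_one]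
    · exact hfix v hv
  have hθ1 : θ = 1 := by
    refine RingEquiv.ext fun a => ?_
    have h4 : (2 * 2 : F) * θ a = 2 * 2 * a := by
      calc (2 * 2 : F) * θ a = θ ((a + 1) * (a + 1)) - θ ((a - 1) * (a - 1)) := by
            rw [← map_sub, show (a + 1) * (a + 1) - (a - 1) * (a - 1) = 2 * 2 * a by ring, map_mul, map_mul,
              map_ofNat]
        _ = _ := by rw [hsq, hsq]; ring
    exact mul_left_cancel₀ (mul_ne_zero h2 h2) h4
  obtain ⟨j, rfl⟩ := hN
  rw [pow_succ, pow_mul, _root_.sq, ← hθ, hθ1, one_pow, one_mul] at hτN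
  exact hτN

/-- No odd core in the centraliser of `x`, from the two basic properties. -/
theorem core_eq_bot_of {G : Type*} [Group G] [Finite (MulAut G)] (x : MulAut G)
    (A : Subgroup (MulAut G)) (hinn : ∀ k, MulAut.conj k ∈ A)
    (hY : ∀ Y ≤ Cfsg.Inn G ⊓ Subgroup.centralizer {x}, Odd (Nat.card Y) → (∀ y ∈ Y, ∀ z ∈ Y, y * z = z * y) →
      (∀ a ∈ Subgroup.centralizer ({x} : Set (MulAut G)), ∀ y ∈ Y, a * y * a⁻¹ ∈ Y) → Y = ⊥)
    (hC : ∀ n ∈ Subgroup.centralizer ({x} : Set (MulAut G)), Odd (orderOf n) →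
      (∀ l ∈ Cfsg.Inn G ⊓ Subgroup.centralizer {x}, n * l = l * n) → n = 1) :
    Cfsg.pPrimeCore 2 ↥(A ⊓ Subgroup.centralizer {x}) = ⊥ := by
  set J := Cfsg.Inn G ⊓ Subgroup.centralizer ({x} : Set (MulAut G)) with hJ
  set C := Subgroup.centralizer ({x} : Set (MulAut G)) with hCdef
  have hJn : ∀ a ∈ C, ∀ j ∈ J, a * j * a⁻¹ ∈ J := fun a ha _ hj =>
    ⟨(Cfsg.innNormal G).conj_mem _ hj.1 a, C.mul_mem (C.mul_mem ha hj.2) (C.inv_mem ha)⟩
  set O := (Cfsg.pPrimeCore 2 ↥J).map J.subtype with hO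
  have hOn : ∀ a ∈ C, ∀ y ∈ O, a * y * a⁻¹ ∈ O := by
    rintro a ha _ ⟨y, hy, rfl⟩
    let φ : ↥J ≃* ↥J :=
      { toFun := fun j => ⟨a * j * a⁻¹, hJn a ha _ j.2⟩
        invFun := fun j => ⟨a⁻¹ * j * a, by simpa using hJn a⁻¹ (C.inv_mem ha) _ j.2⟩
        left_inv := fun j => Subtype.ext (by simp [mul_assoc])
        right_inv := fun j => Subtype.ext (by simp [mul_assoc])
        map_mul' := fun i j => Subtype.ext (by simp [mul_assoc]) }
    refine ⟨φ y, ?_, rfl⟩
    rw [← Subgroup.characteristic_iff_map_eq.1 (inferInstance : (Cfsg.pPrimeCore 2 ↥J).Characteristic) φ]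
    exact ⟨y, hy, rfl⟩
  have hO1 : O = ⊥ := by
    by_contra hne
    have hodd : Odd (Nat.card O) := by
      rw [hO, Subgroup.card_map_of_injective J.subtype_injective]
      exact Nat.coprime_two_right.1 (CfsgLib.Base.pPrimeCore_coprime 2 _)
    obtain ⟨Y, hYle, hYn, hYc, hYodd, hY1⟩ := exists_abelian C O hOn hodd hne
    exact hY1 (hY Y (hYle.trans (Subgroup.map_subtype_le _)) hYodd hYc hYn)
  refine core_eq_bot _ fun N hNH hN hNp => ?_
  have hodd : Odd (Nat.card N) := Nat.coprime_two_right.1 hNp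
  refine eq_bot_two_step (A ⊓ C) J J N hNH hN (inn_inf_le A hinn x) (inn_inf_normalized A x) le_rfl
    (fun y hy l hl => J.mul_mem (J.mul_mem hy hl) (J.inv_mem hy)) ?_ fun n hn hc => ?_
  · refine eq_bot_iff.2 (le_trans ?_ hO1.le)
    intro y hy
    have hn : ((N ⊓ J).subgroupOf J).Normal := ⟨fun z hz j => by
      rw [Subgroup.mem_subgroupOf] at hz ⊢
      exact ⟨hN _ (inn_inf_le A hinn x j.2) _ hz.1, J.mul_mem (J.mul_mem j.2 hz.2) (J.inv_mem j.2)⟩⟩
    have hcard : (Nat.card ↥((N ⊓ J).subgroupOf J)).Coprime 2 := by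
      rw [Nat.card_congr (Subgroup.subgroupOfEquivOfLe inf_le_right).toEquiv]
      exact Nat.coprime_two_right.2 (hodd.of_dvd_nat (Subgroup.card_dvd_of_le inf_le_left))
    exact ⟨⟨y, hy.2⟩, le_sSup (s := {N : Subgroup ↥J | N.Normal ∧ (Nat.card N).Coprime 2})
      (a := (N ⊓ J).subgroupOf J) ⟨hn, hcard⟩ hy, rfl⟩
  · refine hC n (hNH hn).2 (hodd.of_dvd_nat ?_) hc
    rw [← Subgroup.orderOf_mk n hn]
    exact orderOf_dvd_natCard _

open CfsgLib.KnownB.PSLAut in
/-- An abelian group of odd order normalised by the special isometries of a block is scalar on the block. -/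
theorem block_scalar {L : Type*} [Field L] [Finite L] (h2 : (2 : L) ≠ 0) {n : ℕ} (hn : 3 ≤ n)
    {S X : Type*} [Group S] [Group X] [Finite X] (ψ₀ : S →* X) (π : S →* GL (Fin n) L) (Y : Subgroup X)
    (hodd : Odd (Nat.card Y)) (hcomm : ∀ y ∈ Y, ∀ z ∈ Y, y * z = z * y)
    (hker : ∀ s, ψ₀ s = 1 → ∃ c : L, c ≠ 0 ∧ (π s : Matrix (Fin n) (Fin n) L) = c • 1)
    (hiso : ∀ s, TIso (1 : L ≃+* L) (1 : Fin n → L) (π s : Matrix (Fin n) (Fin n) L) 1)
    (hlift : ∀ h : GL (Fin n) L, (h : Matrix (Fin n) (Fin n) L).det = 1 →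
      TIso (1 : L ≃+* L) (1 : Fin n → L) (h : Matrix (Fin n) (Fin n) L) 1 →
      ∃ s, π s = h ∧ ∀ y ∈ Y, ψ₀ s * y * (ψ₀ s)⁻¹ ∈ Y) :
    ∀ s, ψ₀ s ∈ Y → ∃ c : L, c ≠ 0 ∧ (π s : Matrix (Fin n) (Fin n) L) = c • 1 := by
  classical
  haveI : Finite (MulAut (Matrix.ProjectiveSpecialLinearGroup (Fin n) L)) :=
    Finite.of_injective _ DFunLike.coe_injective
  set δ' := (δ : GL (Fin n) L →* MulAut (Matrix.ProjectiveSpecialLinearGroup (Fin n) L))
  set Y' := (Y.comap ψ₀).map (δ'.comp π) with hY'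
  have hm : ∀ s, ψ₀ s = 1 → δ' (π s) = 1 := fun s hs => (δ_eq_one_iff (by omega) _).2 (hker s hs)
  have hodd' : Odd (Nat.card Y') := by
    by_contra hne
    obtain ⟨y', hy'⟩ := exists_prime_orderOf_dvd_card' (G := Y') 2
      ((Nat.not_odd_iff_even.1 hne).two_dvd)
    obtain ⟨_, s, hs, rfl⟩ := y'
    have h1 : δ' (π s) ^ Nat.card Y = 1 := by
      rw [← map_pow, ← map_pow]
      refine hm _ ?_
      rw [map_pow]
      exact congrArg Subtype.val (pow_card_eq_one' (G := Y) (x := ⟨_, hs⟩))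
    have h3 := orderOf_dvd_of_pow_eq_one h1
    rw [← Subgroup.orderOf_coe] at hy'
    exact Nat.not_odd_iff_even.2 (even_iff_two_dvd.2 ((dvd_of_eq hy'.symm).trans h3)) hodd
  have hS : Setup (1 : L ≃+* L) (1 : Fin n → L) δ' Y' :=
    { three := hn
      two := h2
      inv := fun a => rfl
      ker := fun g h => δ_eq_iff (by omega) g h
      iso := by
        rintro _ ⟨s, hs, rfl⟩
        exact ⟨π s, 1, rfl, hiso s⟩
      odd := hodd'
      comm := by
        rintro _ ⟨s, hs, rfl⟩ _ ⟨t, ht, rfl⟩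
        have h1 := hm (s * t * (t * s)⁻¹) (by
          rw [map_mul, map_inv, map_mul, map_mul, hcomm _ hs _ ht, mul_inv_cancel])
        rw [map_mul, map_inv, map_mul, map_inv, map_mul, map_mul, map_mul, map_mul, mul_inv_eq_one] at h1
        exact h1
      norm := by
        rintro h hd hh _ ⟨s, hs, rfl⟩
        obtain ⟨t, rfl, ht⟩ := hlift h hd hh
        exact ⟨t * s * t⁻¹, show ψ₀ (t * s * t⁻¹) ∈ Y by rw [map_mul, map_mul, map_inv]; exact ht _ hs,
          by simp [δ']⟩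
      cases := Or.inl rfl
      three_one := fun _ => rfl
      one_except := ⟨⟨0, by omega⟩, fun _ _ => rfl⟩
      ne_zero := fun _ => one_ne_zero }
  intro s hs
  have h1 : δ' (π s) ∈ Y' := ⟨s, hs, rfl⟩
  rw [hS.eq_bot, Subgroup.mem_bot] at h1
  exact (δ_eq_one_iff (by omega) _).1 h1

/-- Coordinates for a form. -/
structure Coord (M : Matrix ι ι F) (κ : Type) [Fintype κ] [DecidableEq κ] where
  /-- the base change -/
  P : Matrix ι κ F
  /-- its inverse -/
  P' : Matrix κ ι F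
  right_inv : P * P' = 1
  left_inv : P' * P = 1

namespace Coord

variable {κ : Type} [Fintype κ] [DecidableEq κ] {M : Matrix ι ι F} (C : Coord M κ)

/-- Change the coordinates further. -/
def comp (R : GL κ F) : Coord M κ where
  P := C.P * (R : Matrix κ κ F)
  P' := ((R⁻¹ : GL κ F) : Matrix κ κ F) * C.P'
  right_inv := by rw [Matrix.mul_assoc, ← Matrix.mul_assoc (R : Matrix κ κ F), Units.mul_inv, Matrix.one_mul, C.right_inv]
  left_inv := by rw [Matrix.mul_assoc, ← Matrix.mul_assoc C.P', C.left_inv, Matrix.one_mul, Units.inv_mul]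

/-- The Gram matrix in the coordinates. -/
def form : Matrix κ κ F := C.Pᵀ * (M + Mᵀ) * C.P

/-- A matrix in the coordinates. -/
def pull (X : Matrix ι ι F) : Matrix κ κ F := C.P' * X * C.P

theorem comp_form (R : GL κ F) :
    (C.comp R).form = (R : Matrix κ κ F)ᵀ * C.form * (R : Matrix κ κ F) := by
  show (C.P * (R : Matrix κ κ F))ᵀ * (M + Mᵀ) * (C.P * (R : Matrix κ κ F)) = _
  rw [transpose_mul, form]
  simp only [Matrix.mul_assoc]

theorem comp_pull (R : GL κ F) (X : Matrix ι ι F) :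
    (C.comp R).pull X = ((R⁻¹ : GL κ F) : Matrix κ κ F) * C.pull X * (R : Matrix κ κ F) := by
  show ((R⁻¹ : GL κ F) : Matrix κ κ F) * C.P' * X * (C.P * (R : Matrix κ κ F)) = _
  rw [pull]
  simp only [Matrix.mul_assoc]

theorem cancel {μ : Type} (X : Matrix κ μ F) : C.P' * (C.P * X) = X := by
  rw [← Matrix.mul_assoc, C.left_inv, Matrix.one_mul]

theorem cancel' {μ : Type} (X : Matrix ι μ F) : C.P * (C.P' * X) = X := by
  rw [← Matrix.mul_assoc, C.right_inv, Matrix.one_mul]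

theorem pull_mul (X Y : Matrix ι ι F) : C.pull X * C.pull Y = C.pull (X * Y) := by
  simp only [pull, Matrix.mul_assoc, C.cancel']

/-- Transport of a matrix out of the coordinates. -/
def pushHom : Matrix κ κ F →* Matrix ι ι F where
  toFun g := C.P * g * C.P'
  map_one' := by rw [Matrix.mul_one, C.right_inv]
  map_mul' g h := by simp only [Matrix.mul_assoc, C.cancel]

theorem pull_push (g : Matrix κ κ F) : C.pull (C.pushHom g) = g := by
  show C.P' * (C.P * g * C.P') * C.P = g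
  simp only [Matrix.mul_assoc, C.cancel, C.left_inv, Matrix.mul_one]

theorem push_pull (X : Matrix ι ι F) : C.pushHom (C.pull X) = X := by
  show C.P * (C.P' * X * C.P) * C.P' = X
  simp only [Matrix.mul_assoc, C.cancel', C.right_inv, Matrix.mul_one]

/-- Transport of invertible matrices out of the coordinates. -/
def toGL : GL κ F →* GL ι F := Units.map C.pushHom

theorem toGL_val (g : GL κ F) : (C.toGL g : Matrix ι ι F) = C.pushHom (g : Matrix κ κ F) := rfl

theorem toGL_iso (h2 : (2 : F) ≠ 0) {g : GL κ F}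
    (hg : (g : Matrix κ κ F)ᵀ * C.form * (g : Matrix κ κ F) = C.form) :
    C.toGL g ∈ Cfsg.isometryGroup F ⇑(matQuad M) := by
  rw [mem_isometry_iff h2, toGL_val]
  show (C.P * (g : Matrix κ κ F) * C.P')ᵀ * (M + Mᵀ) * (C.P * (g : Matrix κ κ F) * C.P') = _
  rw [transpose_mul, transpose_mul]
  calc C.P'ᵀ * ((g : Matrix κ κ F)ᵀ * C.Pᵀ) * (M + Mᵀ) * (C.P * (g : Matrix κ κ F) * C.P')
      = C.P'ᵀ * ((g : Matrix κ κ F)ᵀ * C.form * (g : Matrix κ κ F)) * C.P' := by
        rw [form]; simp only [Matrix.mul_assoc]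
    _ = (C.P * C.P')ᵀ * (M + Mᵀ) * (C.P * C.P') := by
        rw [hg, form, transpose_mul]; simp only [Matrix.mul_assoc]
    _ = _ := by rw [C.right_inv, transpose_one, Matrix.one_mul, Matrix.mul_one]

/-- The isometries in coordinates commuting with `X'`. -/
def cent (X' : Matrix κ κ F) : Subgroup (GL κ F) where
  carrier := {g | (g : Matrix κ κ F)ᵀ * C.form * (g : Matrix κ κ F) = C.form ∧
    (g : Matrix κ κ F) * X' = X' * (g : Matrix κ κ F)}
  one_mem' := by simp
  mul_mem' := by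
    rintro g h ⟨hg, hg'⟩ ⟨hh, hh'⟩
    refine ⟨?_, ?_⟩
    · rw [Units.val_mul, transpose_mul,
        show (h : Matrix κ κ F)ᵀ * (g : Matrix κ κ F)ᵀ * C.form * ((g : Matrix κ κ F) * (h : Matrix κ κ F)) =
          (h : Matrix κ κ F)ᵀ * ((g : Matrix κ κ F)ᵀ * C.form * (g : Matrix κ κ F)) * (h : Matrix κ κ F) by
        simp only [Matrix.mul_assoc], hg, hh]
    · rw [Units.val_mul, Matrix.mul_assoc, hh', ← Matrix.mul_assoc, hg', Matrix.mul_assoc]
  inv_mem' := by
    rintro g ⟨hg, hg'⟩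
    refine ⟨?_, ?_⟩
    · conv_lhs => rw [← hg]
      simp only [Matrix.mul_assoc, Units.mul_inv, Matrix.mul_one]
      rw [← Matrix.mul_assoc, ← transpose_mul, Units.mul_inv, transpose_one, Matrix.one_mul]
    · calc ((g⁻¹ : GL κ F) : Matrix κ κ F) * X'
          = ((g⁻¹ : GL κ F) : Matrix κ κ F) * (X' * (g : Matrix κ κ F)) * ((g⁻¹ : GL κ F) : Matrix κ κ F) := by
            simp only [Matrix.mul_assoc, Units.mul_inv, Matrix.mul_one]
        _ = _ := by rw [← hg', ← Matrix.mul_assoc, Units.inv_mul, Matrix.one_mul]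

variable {X' : Matrix κ κ F}

/-- The action of the coordinate isometries commuting with `X'`. -/
noncomputable def act (h2 : (2 : F) ≠ 0) (X' : Matrix κ κ F) :
    ↥(C.cent X') →* MulAut (Cfsg.POmega F ⇑(matQuad M)) :=
  ((simAut ⇑(matQuad M)).comp (simIso ⇑(matQuad M))).comp
    ((C.toGL.comp (C.cent X').subtype).codRestrict _ fun g => C.toGL_iso h2 g.2.1)

theorem act_eq_one [Finite F] (h2 : (2 : F) ≠ 0) (hd : (M + Mᵀ).det ≠ 0) (hn : 5 ≤ Fintype.card ι)
    {g : ↥(C.cent X')} (h : C.act h2 X' g = 1) :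
    ∃ c : F, c ≠ 0 ∧ ((g : GL κ F) : Matrix κ κ F) = c • 1 := by
  obtain ⟨c, hc⟩ := (Cfsg.Geo.mem_scalars_iff _).1
    ((simAut_eq_one_iff (nondegenerate_matQuad hd) hn _).1 h)
  change C.pushHom ((g : GL κ F) : Matrix κ κ F) = (c : F) • 1 at hc
  refine ⟨c, c.ne_zero, ?_⟩
  rw [← C.pull_push ((g : GL κ F) : Matrix κ κ F), hc, pull, Matrix.mul_smul, Matrix.smul_mul, Matrix.mul_one,
    C.left_inv]

theorem act_comm (h2 : (2 : F) ≠ 0) (x : Cfsg.Geo.quadSimilarityGroup ⇑(matQuad M))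
    (hX : C.pull ((x : GL ι F) : Matrix ι ι F) = X') (g : ↥(C.cent X')) :
    C.act h2 X' g ∈ Subgroup.centralizer ({simAut _ x} : Set (MulAut (Cfsg.POmega F ⇑(matQuad M)))) := by
  rw [Subgroup.mem_centralizer_singleton_iff]
  show simAut _ _ * simAut _ x = simAut _ x * simAut _ _
  rw [← map_mul, ← map_mul]
  refine congrArg _ (Subtype.ext (Units.ext ?_))
  show C.pushHom ((g : GL κ F) : Matrix κ κ F) * ((x : GL ι F) : Matrix ι ι F) =
    ((x : GL ι F) : Matrix ι ι F) * C.pushHom ((g : GL κ F) : Matrix κ κ F)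
  rw [← C.push_pull ((x : GL ι F) : Matrix ι ι F), hX, ← map_mul, ← map_mul, g.2.2]

theorem act_sq_inn [Finite F] (h2 : (2 : F) ≠ 0) (hd : (M + Mᵀ).det ≠ 0) (g : ↥(C.cent X')) :
    C.act h2 X' g * C.act h2 X' g ∈ Cfsg.Inn (Cfsg.POmega F ⇑(matQuad M)) := by
  rw [inn_eq_map]
  set u : Cfsg.isometryGroup F ⇑(matQuad M) := ⟨_, C.toGL_iso h2 g.2.1⟩ with hu
  have huu : u * u ∈ Cfsg.Omega F ⇑(matQuad M) := by
    refine (mem_Omega_iff_isoInv (nondegenerate_matQuad hd) h2 _).2 ?_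
    rw [map_mul]
    have hz : ∀ a : Multiplicative (ZMod 2), a * a = 1 := by decide
    exact Prod.ext (sqClass_mul_self _) (hz _)
  refine ⟨⟨u * u, huu⟩, ?_⟩
  show simAut _ (simIso _ (u * u)) = _
  rw [map_mul, map_mul]
  rfl

theorem exists_act_of_inn [Finite F] (h2 : (2 : F) ≠ 0) (hd : (M + Mᵀ).det ≠ 0) (hn : 5 ≤ Fintype.card ι)
    (x : Cfsg.Geo.quadSimilarityGroup ⇑(matQuad M)) (hX : C.pull ((x : GL ι F) : Matrix ι ι F) = X') {c : F}
    (hc : c ≠ 0) (hXX : X' * X' = c • 1) {y : MulAut (Cfsg.POmega F ⇑(matQuad M))}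
    (hy : y ∈ Cfsg.Inn _ ⊓ Subgroup.centralizer {simAut _ x}) :
    ∃ g : ↥(C.cent X'), C.act h2 X' g = y * y := by
  obtain ⟨hy1, hy2⟩ := hy
  rw [inn_eq_map] at hy1
  obtain ⟨w, rfl⟩ := hy1
  replace hy2 := Subgroup.mem_centralizer_singleton_iff.1 hy2
  set u : Cfsg.isometryGroup F ⇑(matQuad M) := (w : Cfsg.isometryGroup F ⇑(matQuad M)) with hu
  have h1 : simAut _ (simIso _ u * x * (x * simIso _ u)⁻¹) = 1 := by
    rw [map_mul, map_inv, map_mul, map_mul, mul_inv_eq_one]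
    exact hy2
  obtain ⟨t, ht⟩ := (simAut_eq_one_iff (nondegenerate_matQuad hd) hn _).1 h1
  have hW : ((u : GL ι F) : Matrix ι ι F) * ((x : GL ι F) : Matrix ι ι F) =
      (t : F) • (((x : GL ι F) : Matrix ι ι F) * ((u : GL ι F) : Matrix ι ι F)) := by
    have := congrArg (fun z : GL ι F => (z : Matrix ι ι F)) (eq_mul_inv_iff_mul_eq.1 ht)
    simpa [simIso, smul_mul_assoc, Matrix.smul_eq_diagonal_mul] using this.symm
  set U := C.pull ((u : GL ι F) : Matrix ι ι F) with hUdef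
  have hU : U * X' = (t : F) • (X' * U) := by
    rw [← hX, hUdef, C.pull_mul, C.pull_mul, hW]
    simp only [pull, Matrix.mul_smul, Matrix.smul_mul]
  have hUU : U * U = C.pull (((u * u : Cfsg.isometryGroup F ⇑(matQuad M)) : GL ι F) : Matrix ι ι F) :=
    C.pull_mul _ _
  have ht2 : (t : F) * t = 1 := by
    have h3 : U * (X' * X') = ((t : F) * t) • (X' * X' * U) := by
      rw [← Matrix.mul_assoc, hU, Matrix.smul_mul, Matrix.mul_assoc X' U, hU, Matrix.mul_smul, smul_smul,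
        ← Matrix.mul_assoc]
    rw [hXX, Matrix.mul_smul, Matrix.mul_one, Matrix.smul_mul, Matrix.one_mul, smul_comm] at h3
    have hU0 : U ≠ 0 := fun h0 => by
      have := congrArg C.pushHom h0
      rw [hUdef, C.push_pull] at this
      haveI hne' : Nonempty ι := Fintype.card_pos_iff.1 (by omega)
      refine (u : GL ι F).isUnit.ne_zero (this.trans ?_)
      show C.P * (0 : Matrix κ κ F) * C.P' = 0
      rw [Matrix.mul_zero, Matrix.zero_mul]
    have h4 : ((t : F) * t - 1) • (c • U) = 0 := by rw [sub_smul, one_smul, smul_comm, ← h3, sub_self]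
    exact sub_eq_zero.1 ((smul_eq_zero.1 h4).resolve_right (smul_ne_zero hc hU0))
  have hcomm : U * U * X' = X' * (U * U) := by
    rw [Matrix.mul_assoc, hU, Matrix.mul_smul, ← Matrix.mul_assoc, hU, Matrix.smul_mul, smul_smul, ht2, one_smul,
      Matrix.mul_assoc]
  obtain ⟨g₀, hg₀⟩ : ∃ g₀ : GL κ F, (g₀ : Matrix κ κ F) = U * U := by
    refine ⟨⟨U * U, C.pull (((u * u)⁻¹ : Cfsg.isometryGroup F ⇑(matQuad M)) : GL ι F), ?_, ?_⟩, rfl⟩ <;>
      rw [hUU, C.pull_mul, ← Units.val_mul, ← Subgroup.coe_mul] <;> simp [pull, C.left_inv]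
  have hg₀' : C.toGL g₀ = ((u * u : Cfsg.isometryGroup F ⇑(matQuad M)) : GL ι F) := Units.ext (by
    rw [toGL_val, hg₀, hUU, C.push_pull])
  have hiso : (g₀ : Matrix κ κ F)ᵀ * C.form * (g₀ : Matrix κ κ F) = C.form := by
    have h := (mem_isometry_iff h2 M (C.toGL g₀)).1 (hg₀' ▸ (u * u).2)
    rw [toGL_val] at h
    calc (g₀ : Matrix κ κ F)ᵀ * C.form * (g₀ : Matrix κ κ F)
        = C.Pᵀ * ((C.pushHom (g₀ : Matrix κ κ F))ᵀ * (M + Mᵀ) * C.pushHom (g₀ : Matrix κ κ F)) * C.P := by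
          show _ = C.Pᵀ * ((C.P * (g₀ : Matrix κ κ F) * C.P')ᵀ * (M + Mᵀ) *
            (C.P * (g₀ : Matrix κ κ F) * C.P')) * C.P
          rw [transpose_mul, transpose_mul]
          have e1 : C.Pᵀ * C.P'ᵀ = 1 := by rw [← transpose_mul, C.left_inv, transpose_one]
          simp only [form, Matrix.mul_assoc, C.left_inv, Matrix.mul_one]
          rw [← Matrix.mul_assoc C.Pᵀ C.P'ᵀ, e1, Matrix.one_mul]
      _ = C.form := by rw [h, form]
  refine ⟨⟨g₀, hiso, by rw [hg₀]; exact hcomm⟩, ?_⟩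
  show simAut _ (simIso _ _) = _
  refine Eq.trans (congrArg (fun z => simAut _ (simIso _ z))
    (Subtype.ext hg₀' : (⟨C.toGL g₀, C.toGL_iso h2 hiso⟩ : Cfsg.isometryGroup F ⇑(matQuad M)) = u * u)) ?_
  rw [map_mul, map_mul]
  rfl

/-- The matrix of a semisimilarity in the coordinates. -/
def semi (y : semiSim ⇑(matQuad M)) : Matrix κ κ F :=
  C.P' * (((y : GammaL ι F).left : GL ι F) : Matrix ι ι F) * C.P.map (y : GammaL ι F).right

theorem map_inv_mul (τ : F ≃+* F) : C.P.map τ * C.P'.map τ = 1 := by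
  rw [← Matrix.map_mul, C.right_inv, Matrix.map_one τ τ.map_zero τ.map_one]

theorem map_inv_mul' (τ : F ≃+* F) : C.P'.map τ * C.P.map τ = 1 := by
  rw [← Matrix.map_mul, C.left_inv, Matrix.map_one τ τ.map_zero τ.map_one]

theorem semi_mul (y z : semiSim ⇑(matQuad M)) :
    C.semi (y * z) = C.semi y * (C.semi z).map (y : GammaL ι F).right := by
  set τ := (y : GammaL ι F).right
  have hR : ((y * z : semiSim ⇑(matQuad M)) : GammaL ι F).right = τ * (z : GammaL ι F).right := rfl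
  have hPm : (C.P.map (z : GammaL ι F).right).map τ = C.P.map (τ * (z : GammaL ι F).right) := rfl
  rw [semi, hR, Subgroup.coe_mul, SemidirectProduct.mul_left, Units.val_mul, glAut_coe, semi, semi, Matrix.map_mul,
    Matrix.map_mul, ← hPm]
  rw [Matrix.mul_assoc (C.P' * _) (C.P.map τ), ← Matrix.mul_assoc (C.P.map τ), ← Matrix.mul_assoc (C.P.map τ),
    C.map_inv_mul, Matrix.one_mul]
  simp only [Matrix.mul_assoc]
  rfl

theorem semi_conj [Finite F] (h2 : (2 : F) ≠ 0) (hd : (M + Mᵀ).det ≠ 0) (hn : 5 ≤ Fintype.card ι)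
    (y : semiSim ⇑(matQuad M)) (g : ↥(C.cent X'))
    (hc : autOmega _ y * C.act h2 X' g = C.act h2 X' g * autOmega _ y) :
    ∃ l : F, l ≠ 0 ∧ C.semi y * ((g : GL κ F) : Matrix κ κ F).map (y : GammaL ι F).right =
      l • (((g : GL κ F) : Matrix κ κ F) * C.semi y) := by
  set τ := (y : GammaL ι F).right with hτ
  set E : Cfsg.Geo.quadSimilarityGroup ⇑(matQuad M) := simIso _ ⟨_, C.toGL_iso h2 g.2.1⟩ with hE
  have hact : C.act h2 X' g = simAut _ E := rfl
  have h1 : simAut _ (conjSim y E * E⁻¹) = 1 := by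
    rw [map_mul, map_inv, simAut_conjSim, ← hact, hc, mul_inv_cancel_right, mul_inv_cancel]
  obtain ⟨l, hl⟩ := (simAut_eq_one_iff (nondegenerate_matQuad hd) hn _).1 h1
  have hl' : ((conjSim y E : GL ι F) : Matrix ι ι F) = ((l : F) • (1 : Matrix ι ι F)) * ((E : GL ι F) : Matrix ι ι F) := by
    have h2' := congrArg (fun z : GL ι F => (z : Matrix ι ι F)) (eq_mul_inv_iff_mul_eq.1 hl)
    simpa [Units.val_mul, scalarGL, Matrix.smul_eq_diagonal_mul] using h2'.symm
  have h3 := hl'.symm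
  set Yl := (((y : GammaL ι F).left : GL ι F) : Matrix ι ι F) with hYl
  set Yi := ((((y : GammaL ι F).left)⁻¹ : GL ι F) : Matrix ι ι F) with hYi
  change ((l : F) • (1 : Matrix ι ι F)) * C.pushHom ((g : GL κ F) : Matrix κ κ F) =
    (((y : GammaL ι F).left * glAut ι F τ (C.toGL (g : GL κ F)) * ((y : GammaL ι F).left)⁻¹ : GL ι F) : Matrix ι ι F) at h3
  rw [Units.val_mul, Units.val_mul, glAut_coe, toGL_val, ← hYl, ← hYi] at h3
  have h4 : Yl * (C.pushHom ((g : GL κ F) : Matrix κ κ F)).map τ =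
      (l : F) • (C.pushHom ((g : GL κ F) : Matrix κ κ F) * Yl) := by
    calc Yl * (C.pushHom ((g : GL κ F) : Matrix κ κ F)).map τ
        = Yl * (C.pushHom ((g : GL κ F) : Matrix κ κ F)).map τ * (Yi * Yl) := by
          rw [hYi, hYl, Units.inv_mul, Matrix.mul_one]
      _ = ((l : F) • (1 : Matrix ι ι F)) * C.pushHom ((g : GL κ F) : Matrix κ κ F) * Yl := by
          rw [h3]; simp only [Matrix.mul_assoc]
      _ = _ := by rw [Matrix.smul_mul, Matrix.one_mul, Matrix.smul_mul]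
  have h5 : (C.pushHom ((g : GL κ F) : Matrix κ κ F)).map τ =
      C.P.map τ * ((g : GL κ F) : Matrix κ κ F).map τ * C.P'.map τ := by
    show (C.P * ((g : GL κ F) : Matrix κ κ F) * C.P').map τ = _
    rw [Matrix.map_mul, Matrix.map_mul]
  refine ⟨l, l.ne_zero, ?_⟩
  calc C.semi y * ((g : GL κ F) : Matrix κ κ F).map τ
      = C.P' * (Yl * (C.P.map τ * ((g : GL κ F) : Matrix κ κ F).map τ * C.P'.map τ)) * C.P.map τ := by
        rw [semi]
        simp only [Matrix.mul_assoc, C.map_inv_mul', Matrix.mul_one]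
        rfl
    _ = C.P' * ((l : F) • (C.pushHom ((g : GL κ F) : Matrix κ κ F) * Yl)) * C.P.map τ := by rw [← h5, h4]
    _ = _ := by
        show C.P' * ((l : F) • (C.P * ((g : GL κ F) : Matrix κ κ F) * C.P' * Yl)) * C.P.map τ = _
        rw [Matrix.mul_smul, Matrix.smul_mul, semi]
        simp only [Matrix.mul_assoc, C.cancel]
        rfl

theorem semi_form (h2 : (2 : F) ≠ 0) (y : semiSim ⇑(matQuad M)) (hy : (y : GammaL ι F).right = 1) :
    ∃ μ : F, μ ≠ 0 ∧ (C.semi y)ᵀ * C.form * C.semi y = μ • C.form := by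
  obtain ⟨c, hc⟩ := y.2
  have h := (semisim_iff h2 M (((y : GammaL ι F).left : GL ι F) : Matrix ι ι F) 1 c).1 fun v => by
    have := hc v
    rwa [slAct, hy] at this
  refine ⟨c, c.ne_zero, ?_⟩
  set Yl := (((y : GammaL ι F).left : GL ι F) : Matrix ι ι F)
  have h' : Ylᵀ * (M + Mᵀ) * Yl = (c : F) • (M + Mᵀ) := h
  have hs : C.semi y = C.P' * Yl * C.P := by rw [semi, hy]; rfl
  rw [hs]
  calc (C.P' * Yl * C.P)ᵀ * C.form * (C.P' * Yl * C.P)
      = C.Pᵀ * (Ylᵀ * ((C.P * C.P')ᵀ * (M + Mᵀ) * (C.P * C.P')) * Yl) * C.P := by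
        simp only [transpose_mul, form, Matrix.mul_assoc]
    _ = _ := by
        rw [C.right_inv, transpose_one, Matrix.one_mul, Matrix.mul_one, h', form, Matrix.mul_smul, Matrix.smul_mul]

theorem semi_det (y : semiSim ⇑(matQuad M)) : ∃ Z : Matrix κ κ F, C.semi y * Z = 1 := by
  refine ⟨C.P'.map (y : GammaL ι F).right * ((((y : GammaL ι F).left)⁻¹ : GL ι F) : Matrix ι ι F) * C.P, ?_⟩
  rw [semi, Matrix.mul_assoc, ← Matrix.mul_assoc (C.P.map _), ← Matrix.mul_assoc (C.P.map _), C.map_inv_mul,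
    Matrix.one_mul, Matrix.mul_assoc C.P', ← Matrix.mul_assoc (((y : GammaL ι F).left : GL ι F) : Matrix ι ι F),
    Units.mul_inv, Matrix.one_mul, C.left_inv]

theorem semi_comm [Finite F] (hd : (M + Mᵀ).det ≠ 0) (hn : 5 ≤ Fintype.card ι)
    (x : Cfsg.Geo.quadSimilarityGroup ⇑(matQuad M)) (hX : C.pull ((x : GL ι F) : Matrix ι ι F) = X')
    (y : semiSim ⇑(matQuad M)) (hy : (y : GammaL ι F).right = 1)
    (hc : autOmega _ y * simAut _ x = simAut _ x * autOmega _ y) :
    ∃ l : F, C.semi y * X' = l • (X' * C.semi y) := by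
  have h1 : simAut _ (conjSim y x * x⁻¹) = 1 := by
    rw [map_mul, map_inv, simAut_conjSim, hc, mul_inv_cancel_right, mul_inv_cancel]
  obtain ⟨l, hl⟩ := (simAut_eq_one_iff (nondegenerate_matQuad hd) hn _).1 h1
  have h3 := congrArg (fun z : GL ι F => (z : Matrix ι ι F)) (eq_mul_inv_iff_mul_eq.1 hl)
  set Yl := (((y : GammaL ι F).left : GL ι F) : Matrix ι ι F) with hYl
  set Yi := ((((y : GammaL ι F).left)⁻¹ : GL ι F) : Matrix ι ι F) with hYi
  set X := ((x : GL ι F) : Matrix ι ι F) with hXdef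
  have h4 : (((y : GammaL ι F).left * glAut ι F (y : GammaL ι F).right (x : GL ι F) * ((y : GammaL ι F).left)⁻¹ :
      GL ι F) : Matrix ι ι F) = (l : F) • X := by
    have := h3.symm
    simpa [Units.val_mul, scalarGL, Matrix.smul_eq_diagonal_mul, conjSim, hXdef] using this
  rw [Units.val_mul, Units.val_mul, glAut_coe, hy, ← hYl, ← hYi, ← hXdef, show X.map (⇑(1 : F ≃+* F)) = X from rfl] at h4
  have h5 : Yl * X = (l : F) • (X * Yl) := by
    rw [← Matrix.smul_mul, ← h4, hYi, hYl, Matrix.mul_assoc (_ * X), Units.inv_mul, Matrix.mul_one]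
  refine ⟨l, ?_⟩
  have hs : C.semi y = C.pull Yl := by rw [semi, hy]; rfl
  rw [hs, ← hX, C.pull_mul, C.pull_mul, h5]
  simp only [pull, Matrix.mul_smul, Matrix.smul_mul]

set_option maxHeartbeats 1000000 in
/-- Reduction of the centraliser property to coordinates. -/
theorem odd_centralizer_trivial [Finite F] [Nonempty κ] (h2 : (2 : F) ≠ 0) (hd : (M + Mᵀ).det ≠ 0)
    (hn : 5 ≤ Fintype.card ι) (x : Cfsg.Geo.quadSimilarityGroup ⇑(matQuad M))
    (hrng : ∀ n, n * simAut _ x = simAut _ x * n → n ∈ (autOmega ⇑(matQuad M)).range) (hX : C.pull ((x : GL ι F) : Matrix ι ι F) = X')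
    (test : ∀ (z : Matrix κ κ F) (θ : F ≃+* F) (N : ℕ), Odd N → θ ^ N = 1 → (∃ Z, z * Z = 1) →
      (∀ w ∈ C.cent X', ∃ l : F, z * ((w : Matrix κ κ F) * (w : Matrix κ κ F)).map θ =
        l • ((w : Matrix κ κ F) * (w : Matrix κ κ F) * z)) →
      (∀ w ∈ C.cent X', (∀ ρ : F ≃+* F, ((w : Matrix κ κ F) * (w : Matrix κ κ F)).map ρ =
          (w : Matrix κ κ F) * (w : Matrix κ κ F)) →
        (w : Matrix κ κ F) * (w : Matrix κ κ F) * ((w : Matrix κ κ F) * (w : Matrix κ κ F)) = 1 →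
        z * ((w : Matrix κ κ F) * (w : Matrix κ κ F)) = (w : Matrix κ κ F) * (w : Matrix κ κ F) * z) →
      (θ = 1 → ∃ μ : F, μ ≠ 0 ∧ zᵀ * C.form * z = μ • C.form) →
      (θ = 1 → ∃ l : F, z * X' = l • (X' * z)) →
      θ = 1 ∧ ∃ c : F, c ≠ 0 ∧ z * z = c • 1)
    {n : MulAut (Cfsg.POmega F ⇑(matQuad M))} (hnx : n * simAut _ x = simAut _ x * n)
    (hodd : Odd (orderOf n))
    (hcen : ∀ l ∈ Cfsg.Inn (Cfsg.POmega F ⇑(matQuad M)) ⊓ Subgroup.centralizer {simAut _ x}, n * l = l * n) :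
    n = 1 := by
  classical
  obtain ⟨y, hy⟩ : n ∈ (autOmega ⇑(matQuad M)).range := hrng n hnx
  set τ := (y : GammaL ι F).right with hτ
  have hτN : τ ^ orderOf n = 1 := by
    have h := ((autOmega_eq_one_iff (nondegenerate_matQuad hd) hn (y ^ orderOf n)).1
      (by rw [map_pow, hy, pow_orderOf_eq_one])).1
    rwa [SubgroupClass.coe_pow, show ((y : GammaL ι F) ^ orderOf n).right = τ ^ orderOf n from
      map_pow SemidirectProduct.rightHom _ _] at h
  have hnn : ∀ l ∈ Cfsg.Inn (Cfsg.POmega F ⇑(matQuad M)) ⊓ Subgroup.centralizer {simAut _ x},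
      autOmega _ (y * y) * l = l * autOmega _ (y * y) := fun l hl => by
    rw [map_mul, hy, mul_assoc, hcen l hl, ← mul_assoc, hcen l hl, mul_assoc]
  have hmem : ∀ (w : GL κ F) (_hw : w ∈ C.cent X'), C.act h2 X' ((⟨w, _hw⟩ : ↥(C.cent X')) * ⟨w, _hw⟩) ∈
      Cfsg.Inn (Cfsg.POmega F ⇑(matQuad M)) ⊓ Subgroup.centralizer {simAut _ x} := fun w hw => by
    rw [map_mul]
    exact ⟨C.act_sq_inn h2 hd _, Subgroup.mul_mem _ (C.act_comm h2 x hX _) (C.act_comm h2 x hX _)⟩
  have hyy : ((y * y : semiSim ⇑(matQuad M)) : GammaL ι F).right = τ * τ := rfl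
  obtain ⟨h1, c, hc0, hc⟩ := test (C.semi (y * y)) (τ * τ) (orderOf n) hodd
    (by rw [← _root_.sq, ← pow_mul, mul_comm, pow_mul, hτN, one_pow]) (C.semi_det _)
    (fun w hw => by
      obtain ⟨l, -, hl⟩ := C.semi_conj h2 hd hn (y * y) _ (hnn _ (hmem w hw))
      rw [hyy] at hl
      exact ⟨l, hl⟩)
    (fun w hw hfix hsq => by
      obtain ⟨l, -, hl⟩ := C.semi_conj h2 hd hn y _ (by rw [hy]; exact hcen _ (hmem w hw))
      set e := (w : Matrix κ κ F) * (w : Matrix κ κ F) with he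
      change C.semi y * e.map τ = l • (e * C.semi y) at hl
      rw [hfix τ] at hl
      have hl2 : l * l = 1 := by
        have h3 : C.semi y = (l * l) • C.semi y := by
          calc C.semi y = C.semi y * e * e := by rw [Matrix.mul_assoc, hsq, Matrix.mul_one]
            _ = l • (e * C.semi y * e) := by rw [hl, Matrix.smul_mul]
            _ = l • (e * (C.semi y * e)) := by rw [Matrix.mul_assoc]
            _ = (l * l) • (e * e * C.semi y) := by rw [hl, Matrix.mul_smul, smul_smul, ← Matrix.mul_assoc e e]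
            _ = _ := by rw [hsq, Matrix.one_mul]
        have h4 : (l * l - 1) • C.semi y = 0 := by rw [sub_smul, one_smul, ← h3, sub_self]
        refine sub_eq_zero.1 ((smul_eq_zero.1 h4).resolve_right fun h0 => ?_)
        obtain ⟨Z, hZ⟩ := C.semi_det y
        rw [h0, Matrix.zero_mul] at hZ
        exact zero_ne_one hZ
      have hlτ : τ l = l := by rcases mul_self_eq_one_iff.1 hl2 with h | h <;> simp [h]
      have hl' : (C.semi y).map τ * e = l • (e * (C.semi y).map τ) := by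
        have := congrArg (fun X : Matrix κ κ F => X.map τ) hl
        simp only [Matrix.map_mul, hfix τ] at this
        rw [this]
        conv_rhs => rw [← hfix τ, ← Matrix.map_mul]
        ext i j
        simp [Matrix.mul_apply, Matrix.smul_apply, map_mul, map_sum, hlτ]
      rw [C.semi_mul, ← hτ, Matrix.mul_assoc, hl', Matrix.mul_smul, ← Matrix.mul_assoc, hl, Matrix.smul_mul,
        smul_smul, hl2, one_smul, Matrix.mul_assoc])
    (fun h => C.semi_form h2 _ (hyy.trans h))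
    (fun h => C.semi_comm hd hn x hX _ (hyy.trans h) (by rw [map_mul, hy, mul_assoc, hnx, ← mul_assoc, hnx, mul_assoc]))
  refine orderOf_eq_one_iff.1 (Nat.eq_one_of_dvd_coprimes (Nat.Coprime.pow_right 2 (Nat.coprime_two_right.2 hodd))
    dvd_rfl (orderOf_dvd_of_pow_eq_one (n := 2 ^ 2) ?_))
  have hn4 : n ^ (2 ^ 2) = autOmega _ (y * y * (y * y)) := by
    rw [map_mul, map_mul, hy]; simp only [show (2 ^ 2 : ℕ) = 4 from rfl, pow_succ, pow_zero, one_mul, mul_assoc]
  rw [hn4, autOmega_eq_one_iff (nondegenerate_matQuad hd) hn, Cfsg.Geo.mem_scalars_iff]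
  have hr : ((y * y * (y * y) : semiSim ⇑(matQuad M)) : GammaL ι F).right = 1 := by
    show τ * τ * (τ * τ) = 1
    rw [h1, one_mul]
  refine ⟨hr, Units.mk0 c hc0, ?_⟩
  have hsemi : C.semi (y * y * (y * y)) = c • 1 := by
    rw [C.semi_mul, hyy, h1]
    exact hc
  have := congrArg C.pushHom hsemi
  rw [semi, hr] at this
  change C.pushHom (C.pull _) = C.P * (c • (1 : Matrix κ κ F)) * C.P' at this
  rw [C.push_pull, Matrix.mul_smul, Matrix.smul_mul, Matrix.mul_one, C.right_inv] at this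
  exact this

end Coord

end CfsgLib.FgsC.LocalBalance
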