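import Cfsg.Agent.Lib.Geometry.EvenField2
import Cfsg.Agent.Lib.Geometry.FieldCriterion
import Cfsg.Agent.Lib.FgsC.LocalBalance.Abstract

/-!
The centraliser criterion for field automorphisms of odd prime order of even dimensional orthogonal groups.
-/

set_option autoImplicit false

namespace CfsgLib.FgsC.LocalBalance

open Matrix QuadraticMap CfsgLib.Geometry

variable {ι : Type} [Fintype ι] [DecidableEq ι] {F : Type*} [Field F] [Finite F]
variable {F₀ : Type*} [Field F₀] {M₀ : Matrix ι ι F₀} {emb : F₀ →+* F} {σ : F ≃+* F} {r : ℕ}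

/-- A semisimilarity over the fixed field extends to one over the field. -/
theorem matQuad_twist {K : Type*} [Field K] (M : Matrix ι ι K) (e : K ≃+* K) (u : ι → K) :
    matQuad (M.map e) (fun i => e (u i)) = e (matQuad M u) := by
  simp [matQuad_apply, dotProduct, mulVec, map_sum, map_mul]

/-- A semisimilarity over the fixed field extends to one over the field. -/
theorem semiSim_map (D : FieldHyp M₀ emb σ r) {τ : F ≃+* F} {τ₀ : F₀ ≃+* F₀}
    (hτ₀ : ∀ a, emb (τ₀ a) = τ (emb a)) (y₀ : semiSim ⇑(matQuad M₀))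
    (hr : (y₀ : GammaL ι F₀).right = τ₀) :
    (⟨Matrix.GeneralLinearGroup.map emb (y₀ : GammaL ι F₀).left, τ⟩ : GammaL ι F) ∈
      semiSim ⇑(extForm emb M₀) := by
  obtain ⟨c, hc⟩ := y₀.2
  refine ⟨Units.map (emb : F₀ →* F) c, fun v => ?_⟩
  set G := ((y₀ : GammaL ι F₀).left : Matrix ι ι F₀) with hG
  obtain ⟨N, hN⟩ := exists_matQuad ((c : F₀) • matQuad (M₀.map τ₀))
  have h1 : (extForm emb M₀).comp (Matrix.mulVecLin (G.map emb)) = matQuad (N.map emb) :=
    eq_matQuad_map emb fun u => by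
      obtain ⟨w, rfl⟩ : ∃ w, (fun i => τ₀ (w i)) = u := ⟨fun i => τ₀.symm (u i), by simp⟩
      rw [QuadraticMap.comp_apply, Matrix.mulVecLin_apply, ← map_mulVec_comp, matQuad_map, hN,
        _root_.smul_apply, smul_eq_mul, matQuad_twist]
      have := hc w
      rw [slAct, hr] at this
      rw [← this]
  have h2 : emb (c : F₀) • matQuad ((M₀.map emb).map τ) = matQuad (N.map emb) :=
    eq_matQuad_map emb fun u => by
      obtain ⟨w, rfl⟩ : ∃ w, (fun i => τ₀ (w i)) = u := ⟨fun i => τ₀.symm (u i), by simp⟩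
      rw [_root_.smul_apply, smul_eq_mul, hN, _root_.smul_apply, smul_eq_mul, matQuad_twist, map_mul, hτ₀,
        ← matQuad_map emb M₀ w, ← matQuad_twist (M₀.map emb) τ]
      congr 2
      funext i
      exact hτ₀ (w i)
  have h := QuadraticMap.congr_fun (h1.trans h2.symm) fun i => τ (v i)
  rw [QuadraticMap.comp_apply, Matrix.mulVecLin_apply, _root_.smul_apply, smul_eq_mul, matQuad_twist] at h
  exact h

set_option maxHeartbeats 1600000 in
/-- The criterion for the standard field automorphism; the fixed points contain the group over the subfield. -/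
theorem core_criterion_gen (D : FieldHyp M₀ emb σ r)
    (hrng : ∀ n : MulAut (Cfsg.POmega F ⇑(extForm emb M₀)), (∀ g ∈ innPre ⇑(matQuad M₀),
      n * simAut _ (extend emb M₀ g) = simAut _ (extend emb M₀ g) * n) → n ∈ (autOmega ⇑(extForm emb M₀)).range)
    (hsem : ∀ τ₀ : F₀ ≃+* F₀, ∃ y₀ : semiSim ⇑(matQuad M₀),
      (y₀ : GammaL ι F₀).right = τ₀ ∧ (τ₀ = 1 → (y₀ : GammaL ι F₀).left = 1))
    (hfour : ∀ g : Cfsg.Geo.quadSimilarityGroup ⇑(matQuad M₀), g * g * (g * g) ∈ innPre ⇑(matQuad M₀))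
    (hdvd : Odd r ∨ r ∣ Nat.card (Cfsg.POmega F₀ ⇑(matQuad M₀)))
    (A : Subgroup (MulAut (Cfsg.POmega F ⇑(extForm emb M₀))))
    (hinn : ∀ k, MulAut.conj k ∈ A) :
    (Cfsg.pPrimeCore r ↥(A ⊓ Subgroup.centralizer {D.fld}) ≠ ⊥ ↔
      Nat.Coprime r (Nat.card ↥(MonoidHom.eqLocus D.fld.toMonoidHom
        (MonoidHom.id (Cfsg.POmega F ⇑(extForm emb M₀)))))) ∧
    Nat.card (Cfsg.POmega F₀ ⇑(matQuad M₀)) ∣ Nat.card ↥(MonoidHom.eqLocus D.fld.toMonoidHom
        (MonoidHom.id (Cfsg.POmega F ⇑(extForm emb M₀)))) := by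
  classical
  haveI := D.finite₀
  haveI := D.nonempty
  haveI : Fact r.Prime := ⟨D.prime⟩
  haveI := Fintype.ofFinite F
  set x := D.fld with hx
  set J := Cfsg.Inn (Cfsg.POmega F ⇑(extForm emb M₀)) ⊓ Subgroup.centralizer {x} with hJ
  let ψ : Cfsg.Geo.quadSimilarityGroup ⇑(matQuad M₀) →* MulAut (Cfsg.POmega F ⇑(extForm emb M₀)) := (simAut ⇑(extForm emb M₀)).comp (extend emb M₀)
  let χ : Cfsg.Geo.quadSimilarityGroup ⇑(matQuad M₀) →* MulAut (Cfsg.POmega F₀ ⇑(matQuad M₀)) := simAut ⇑(matQuad M₀)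
  have hker : ∀ g, ψ g = 1 ↔ χ g = 1 := fun g => D.simAut_extend_eq_one_iff g
  have hinj := conj_pOmega_injective D.nondeg D.five_le
  have hinj₀ := conj_pOmega_injective D.nondeg₀ D.five_le
  haveI hIn : (Cfsg.Inn (Cfsg.POmega F₀ ⇑(matQuad M₀))).Normal := Cfsg.innNormal _
  haveI hIn' : (Cfsg.Inn (Cfsg.POmega F ⇑(extForm emb M₀))).Normal := Cfsg.innNormal _
  -- the fixed points
  have hP0 : Nat.card ↥(MonoidHom.eqLocus x.toMonoidHom (MonoidHom.id (Cfsg.POmega F ⇑(extForm emb M₀)))) = Nat.card J := by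
    have hfix : ∀ k, x k = k ↔ MulAut.conj k ∈ Subgroup.centralizer ({x} : Set _) := fun k => by
      rw [Subgroup.mem_centralizer_singleton_iff, ← mul_inv_eq_iff_eq_mul]
      constructor
      · intro h
        refine mul_inv_eq_iff_eq_mul.2 ?_
        refine MulEquiv.ext fun y => ?_
        simp [MulAut.mul_apply, map_mul, map_inv, h]
      · intro h
        have h' : x * MulAut.conj k * x⁻¹ = MulAut.conj k := by
          rw [← mul_inv_eq_iff_eq_mul.1 h, mul_inv_cancel_right]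
        refine hinj (Eq.trans ?_ h')
        exact MulEquiv.ext fun y => by simp
    rw [Nat.card_congr ((MonoidHom.eqLocus x.toMonoidHom (MonoidHom.id _)).equivMapOfInjective _ hinj).toEquiv]
    congr 2
    ext β
    constructor
    · rintro ⟨k, hk, rfl⟩
      exact ⟨⟨k, rfl⟩, (hfix k).1 hk⟩
    · rintro ⟨⟨k, rfl⟩, hk⟩
      exact ⟨k, (hfix k).2 hk, rfl⟩
  rw [hP0]
  have hψc : ψ.range = (simAut ⇑(extForm emb M₀)).range ⊓ Subgroup.centralizer {x} := by
    rw [MonoidHom.range_eq_map (simAut ⇑(extForm emb M₀)), D.inf_centralizer ⊤ (fun _ => trivial), Subgroup.comap_top,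
      ← MonoidHom.range_eq_map]
  have hJψ : J ≤ ψ.range := by
    rw [hψc]
    refine inf_le_inf_right _ ?_
    rw [inn_eq_map]
    rintro _ ⟨s, rfl⟩
    exact ⟨_, rfl⟩
  set R := (innPre ⇑(matQuad M₀)).map ψ with hR
  have hχinn : (innPre ⇑(matQuad M₀)).map χ = Cfsg.Inn (Cfsg.POmega F₀ ⇑(matQuad M₀)) := by
    rw [innPre, Subgroup.map_comap_eq, inf_eq_right, inn_eq_map]
    rintro _ ⟨s, rfl⟩
    exact ⟨_, rfl⟩
  obtain ⟨eR⟩ := nonempty_map_equiv_of_ker (innPre ⇑(matQuad M₀)) ψ χ fun g _ => hker g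
  let eP : R ≃* Cfsg.POmega F₀ ⇑(matQuad M₀) :=
    (eR.trans (MulEquiv.subgroupCongr hχinn)).trans (MonoidHom.ofInjective hinj₀).symm
  haveI : IsSimpleGroup (Cfsg.POmega F₀ ⇑(matQuad M₀)) := isSimpleGroup_pOmega (matQuad M₀) D.nondeg₀ D.five_le
  haveI : IsSimpleGroup R := eP.isSimpleGroup
  have hRJ : R ≤ J := by
    rintro _ ⟨g, hg, rfl⟩
    refine ⟨?_, ((le_of_eq hψc) ⟨g, rfl⟩).2⟩
    obtain ⟨w, hw, c, rfl⟩ := (mem_innPre_iff D.nondeg₀ D.five_le g).1 hg
    show simAut ⇑(extForm emb M₀) (extend emb M₀ (simScalar (matQuad M₀) c * simIso _ w)) ∈ _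
    rw [map_mul, map_mul, show simAut ⇑(extForm emb M₀) (extend emb M₀ (simScalar (matQuad M₀) c)) = 1 from
      (D.simAut_extend_eq_one_iff _).2 ((simAut_eq_one_iff D.nondeg₀ D.five_le _).2 (simScalar_mem_scalars _ c)),
      one_mul, extend_simIso, inn_eq_map]
    exact ⟨⟨_, omega_extendIso_mem hw⟩, rfl⟩
  have hRn : ∀ a ∈ ψ.range, ∀ s ∈ R, a * s * a⁻¹ ∈ R := by
    rintro _ ⟨g, rfl⟩ _ ⟨w, hw, rfl⟩
    exact ⟨g * w * g⁻¹, (Subgroup.Normal.comap hIn (simAut ⇑(matQuad M₀))).conj_mem w hw g, by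
      rw [map_mul, map_mul, map_inv]⟩
  have hCJ : ∀ y ∈ ψ.range, (∀ s ∈ R, y * s = s * y) → y = 1 := by
    rintro _ ⟨g, rfl⟩ hg
    refine (hker g).2 (eq_one_of_comm_conj hinj₀ fun k => ?_)
    obtain ⟨w, hw, hwk⟩ : MulAut.conj k ∈ (innPre ⇑(matQuad M₀)).map χ := hχinn ▸ ⟨k, rfl⟩
    have h1 := hg _ ⟨w, hw, rfl⟩
    rw [← mul_inv_eq_iff_eq_mul, ← map_mul, ← map_inv, ← map_mul, ← mul_inv_eq_one, ← map_inv, ← map_mul,
      hker, map_mul, map_inv, mul_inv_eq_one, map_mul, map_inv, map_mul, hwk, mul_inv_eq_iff_eq_mul] at h1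
    exact h1
  refine ⟨?_, by rw [← Nat.card_congr eP.toEquiv]; exact Subgroup.card_dvd_of_le hRJ⟩
  refine centralizer_core_criterion A (Cfsg.Inn _) R x D.prime (fun β hβ => ?_) hRJ ?_
    (fun a ha => hRn a (hJψ ha)) ?_ ?_
  · obtain ⟨k, rfl⟩ := hβ
    exact hinn k
  · intro hrJ
    rcases hdvd with hrodd | hd
    swap
    · rwa [Nat.card_congr eP.toEquiv]
    obtain ⟨y, hy⟩ := exists_prime_orderOf_dvd_card' r hrJ
    obtain ⟨g, hg⟩ := hJψ y.2
    have h2 : (y.1 ^ 4) ∈ R := ⟨g * g * (g * g), hfour g, by rw [map_mul, map_mul, hg, pow_succ, pow_succ, pow_succ, pow_one]; simp only [mul_assoc]⟩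
    have hy' : orderOf (y : MulAut (Cfsg.POmega F ⇑(extForm emb M₀))) = r := by rw [Subgroup.orderOf_coe, hy]
    have hyR : (y : MulAut (Cfsg.POmega F ⇑(extForm emb M₀))) ∈ R := by
      obtain ⟨k, hk⟩ : ∃ k, (y.1 ^ 4) ^ k = y.1 := exists_pow_eq_self_of_coprime (by
        rw [hy']
        exact (Nat.Coprime.pow_left 2 (Nat.coprime_two_left.2 hrodd)))
      exact hk ▸ pow_mem h2 _
    rw [← hy', ← Subgroup.orderOf_mk _ hyR]
    exact orderOf_dvd_natCard _
  · exact fun y hy h => hCJ y (hJψ hy) h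
  intro n hnH hnc
  -- the field part fixes the subfield
  obtain ⟨y, hy⟩ : n ∈ (autOmega ⇑(extForm emb M₀)).range := hrng n fun g hg => hnc _ ⟨g, hg, rfl⟩
  set τ := (y : GammaL ι F).right with hτ
  have hτfix : ∀ a, ∃ b, emb b = τ (emb a) := fun a => (D.fix _).1 (by
    have h1 : σ (τ (emb a)) = τ (σ (emb a)) := DFunLike.congr_fun (fieldMap_commute σ τ) (emb a)
    rw [h1, D.fix'])
  choose t ht using hτfix
  let τ₀ : F₀ ≃+* F₀ := RingEquiv.ofBijective
    ({ toFun := t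
       map_one' := emb.injective (by rw [ht, map_one, map_one])
       map_mul' := fun a b => emb.injective (by simp only [map_mul, ht])
       map_zero' := emb.injective (by rw [ht, map_zero, map_zero])
       map_add' := fun a b => emb.injective (by simp only [map_add, ht]) } : F₀ →+* F₀)
    ⟨RingHom.injective _, Finite.surjective_of_injective (RingHom.injective _)⟩
  have hτ₀ : ∀ a, emb (τ₀ a) = τ (emb a) := ht
  obtain ⟨y₀, hy₀r, hy₀1⟩ := hsem τ₀
  let G₀ : GL ι F₀ := (y₀ : GammaL ι F₀).left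
  let GF : GL ι F := Matrix.GeneralLinearGroup.map emb G₀
  obtain ⟨yτ, hyτv⟩ : ∃ yτ : semiSim ⇑(extForm emb M₀), (yτ : GammaL ι F) = ⟨GF, τ⟩ :=
    ⟨⟨⟨GF, τ⟩, semiSim_map D hτ₀ y₀ hy₀r⟩, rfl⟩
  have hyτr : (yτ : GammaL ι F).right = τ := by rw [hyτv]
  have hg : ((y * yτ⁻¹ : semiSim ⇑(extForm emb M₀)) : GammaL ι F).right = 1 := by
    rw [Subgroup.coe_mul, Subgroup.coe_inv, SemidirectProduct.mul_right, SemidirectProduct.inv_right]
    rw [hyτr]
    exact mul_inv_cancel τ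
  obtain ⟨g, hg'⟩ : ∃ g, y * yτ⁻¹ = simIncl ⇑(extForm emb M₀) g := by
    obtain ⟨c, hc⟩ := (y * yτ⁻¹).2
    have e : ((y * yτ⁻¹ : semiSim ⇑(extForm emb M₀)) : GammaL ι F) =
        SemidirectProduct.inl ((y * yτ⁻¹ : semiSim ⇑(extForm emb M₀)) : GammaL ι F).left :=
      SemidirectProduct.ext (by simp) (by rw [SemidirectProduct.right_inl]; exact hg)
    refine ⟨⟨_, c, fun v => ?_⟩, Subtype.ext e⟩
    have := hc v
    rw [e, slAct_inl, SemidirectProduct.right_inl] at this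
    exact this
  have hn' : n = simAut ⇑(extForm emb M₀) g * autOmega ⇑(extForm emb M₀) yτ := by
    rw [← hy, simAut, MonoidHom.comp_apply, ← hg', ← map_mul, inv_mul_cancel_right]
  have hcomm : autOmega ⇑(extForm emb M₀) yτ * x = x * autOmega ⇑(extForm emb M₀) yτ := by
    rw [hx, FieldHyp.fld, ← map_mul, ← map_mul]
    congr 1
    refine Subtype.ext ?_
    show (yτ : GammaL ι F) * SemidirectProduct.inr σ = SemidirectProduct.inr σ * (yτ : GammaL ι F)
    have hσG : glAut ι F σ GF = GF := Units.ext (Matrix.ext fun i j => D.fix' _)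
    rw [hyτv]
    refine SemidirectProduct.ext ?_ ?_
    · simp [hσG]
    · simp [fieldMap_commute]
  have hgx : simAut ⇑(extForm emb M₀) g * x = x * simAut ⇑(extForm emb M₀) g := by
    have h1 : n * x = x * n :=
      Subgroup.mem_centralizer_singleton_iff.1 hnH.2
    rw [hn', mul_assoc, hcomm, ← mul_assoc, ← mul_assoc] at h1
    exact mul_right_cancel h1
  obtain ⟨g₀, hg₀⟩ : simAut ⇑(extForm emb M₀) g ∈ ψ.range := by
    rw [hψc]; exact ⟨⟨g, rfl⟩, Subgroup.mem_centralizer_singleton_iff.2 hgx⟩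
  have htw : ∀ w, conjSim yτ (extend emb M₀ w) = extend emb M₀ (conjSim y₀ w) := by
    intro w
    refine Subtype.ext ?_
    have h1 : glAut ι F τ (Matrix.GeneralLinearGroup.map emb (w : GL ι F₀)) =
        Matrix.GeneralLinearGroup.map emb (glAut ι F₀ τ₀ (w : GL ι F₀)) :=
      Units.ext (Matrix.ext fun i j => (hτ₀ _).symm)
    show (yτ : GammaL ι F).left * glAut ι F (yτ : GammaL ι F).right (Matrix.GeneralLinearGroup.map emb (w : GL ι F₀)) *
        ((yτ : GammaL ι F).left)⁻¹ =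
      Matrix.GeneralLinearGroup.map emb
        (G₀ * glAut ι F₀ (y₀ : GammaL ι F₀).right (w : GL ι F₀) * G₀⁻¹)
    rw [hyτv, hy₀r, map_mul, map_mul, map_inv, h1]
  have hkey : χ g₀ * autOmega ⇑(matQuad M₀) y₀ = 1 := by
    refine eq_one_of_comm_conj hinj₀ fun k => ?_
    obtain ⟨w, hw, hwk⟩ : MulAut.conj k ∈ (innPre ⇑(matQuad M₀)).map χ := hχinn ▸ ⟨k, rfl⟩
    have h1 := hnc _ ⟨w, hw, rfl⟩
    have h2 : ψ (g₀ * conjSim y₀ w * g₀⁻¹) = ψ w := by
      rw [hn', ← hg₀, mul_assoc] at h1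
      have h3 : autOmega ⇑(extForm emb M₀) yτ * ψ w * (autOmega ⇑(extForm emb M₀) yτ)⁻¹ = ψ (conjSim y₀ w) := by
        show _ = simAut ⇑(extForm emb M₀) (extend emb M₀ (conjSim y₀ w))
        rw [← htw, simAut_conjSim]
        rfl
      rw [← mul_inv_eq_iff_eq_mul] at h1
      rw [map_mul, map_mul, map_inv, ← h3]
      refine Eq.trans ?_ h1
      group
    have h4 : χ (g₀ * conjSim y₀ w * g₀⁻¹) = χ w := by
      rw [← mul_inv_eq_one, ← map_inv, ← map_mul, ← hker, map_mul, map_inv, mul_inv_eq_one]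
      exact h2
    rw [map_mul, map_mul, map_inv, show χ (conjSim y₀ w) = _ from simAut_conjSim y₀ w,
      show simAut ⇑(matQuad M₀) w = MulAut.conj k from hwk] at h4
    rw [← mul_inv_eq_iff_eq_mul]
    refine Eq.trans ?_ h4
    group
  have hτ1 : τ₀ = 1 := by
    rw [show χ g₀ = autOmega ⇑(matQuad M₀) (simIncl ⇑(matQuad M₀) g₀) from rfl, ← map_mul,
      autOmega_eq_one_iff D.nondeg₀ D.five_le] at hkey
    simpa [simIncl, hy₀r] using hkey.1
  obtain ⟨i, hi⟩ := Subgroup.mem_zpowers_iff.1 (CfsgLib.KnownB.PSpAut.mem_zpowers_of_fix σ τ fun a ha => by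
    obtain ⟨b, rfl⟩ := (D.fix a).1 ha
    rw [← hτ₀, hτ1]; rfl)
  have hyτ : autOmega ⇑(extForm emb M₀) yτ = x ^ i := by
    rw [hx, FieldHyp.fld, ← map_zpow]
    congr 1
    refine Subtype.ext ?_
    rw [SubgroupClass.coe_zpow]
    show (yτ : GammaL ι F) = SemidirectProduct.inr σ ^ i
    rw [← map_zpow, hi, hyτv]
    refine SemidirectProduct.ext ?_ rfl
    show Matrix.GeneralLinearGroup.map emb G₀ = 1
    rw [show G₀ = 1 from hy₀1 hτ1, map_one]
  have hg1 : simAut ⇑(extForm emb M₀) g = 1 := by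
    refine hCJ _ ⟨g₀, hg₀⟩ fun s hs => ?_
    have h1 := hnc s hs
    have hsx : x * s = s * x := (Subgroup.mem_centralizer_singleton_iff.1 (hRJ hs).2).symm
    have hxs : x ^ i * s = s * x ^ i := (Commute.zpow_left hsx i).eq
    rw [hn', hyτ, mul_assoc, hxs, ← mul_assoc, ← mul_assoc] at h1
    exact mul_right_cancel h1
  have hxr : x ^ r = 1 := by
    rw [hx, FieldHyp.fld, ← map_pow]
    have : D.base ^ r = 1 := Subtype.ext (by
      rw [SubmonoidClass.coe_pow]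
      show SemidirectProduct.inr σ ^ r = 1
      rw [← map_pow, ← D.order, pow_orderOf_eq_one, map_one])
    rw [this, map_one]
  rw [hn', hg1, one_mul, hyτ, ← zpow_natCast, ← _root_.zpow_mul, mul_comm, _root_.zpow_mul, zpow_natCast, hxr,
    _root_.one_zpow]

/-- The criterion for a field automorphism of odd order, all automorphisms being semisimilarities. -/
theorem core_criterion_four (D : FieldHyp M₀ emb σ r) (hrodd : Odd r)
    (hΓ : Cfsg.gammaPOmega F ⇑(extForm emb M₀) = ⊤)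
    (hsem : ∀ τ₀ : F₀ ≃+* F₀, ∃ y₀ : semiSim ⇑(matQuad M₀),
      (y₀ : GammaL ι F₀).right = τ₀ ∧ (τ₀ = 1 → (y₀ : GammaL ι F₀).left = 1))
    (hfour : ∀ g : Cfsg.Geo.quadSimilarityGroup ⇑(matQuad M₀), g * g * (g * g) ∈ innPre ⇑(matQuad M₀))
    (A : Subgroup (MulAut (Cfsg.POmega F ⇑(extForm emb M₀))))
    (hinn : ∀ k, MulAut.conj k ∈ A) :
    Cfsg.pPrimeCore r ↥(A ⊓ Subgroup.centralizer {D.fld}) ≠ ⊥ ↔
      Nat.Coprime r (Nat.card ↥(MonoidHom.eqLocus D.fld.toMonoidHom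
        (MonoidHom.id (Cfsg.POmega F ⇑(extForm emb M₀))))) :=
  (core_criterion_gen D (fun n _ => by rw [← gammaPOmega_eq, hΓ]; trivial) hsem hfour (Or.inl hrodd) A hinn).1

end CfsgLib.FgsC.LocalBalance
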