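import Cfsg.Agent.Lib.FgsC.LocalBalance.OrthField

/-!
Automorphisms of odd prime order outside the inner-diagonal group of the minus groups are field automorphisms,
with the centraliser criterion.
-/

set_option autoImplicit false

namespace CfsgLib.FgsC.LocalBalance

open Matrix QuadraticMap CfsgLib.Geometry

/-- An anisotropic binary form. -/
theorem exists_binAniso {F : Type*} [Field F] [Finite F] :
    ∃ a b : F, ∀ z₁ z₂ : F, z₁ ^ 2 + a * z₁ * z₂ + b * z₂ ^ 2 = 0 → z₁ = 0 ∧ z₂ = 0 := by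
  obtain ⟨b, hb⟩ : ∃ b : F, ∀ x : F, x * x + x ≠ -b := by
    by_contra h
    push Not at h
    have hs : Function.Surjective fun x : F => x * x + x := fun y => by
      obtain ⟨x, hx⟩ := h (-y)
      exact ⟨x, by show x * x + x = y; rw [hx, neg_neg]⟩
    have h01 := Finite.injective_iff_surjective.2 hs
      (show (fun x : F => x * x + x) 0 = (fun x : F => x * x + x) (-1) by simp)
    simp at h01
  refine ⟨1, b, fun z₁ z₂ h => ?_⟩
  by_cases hz : z₂ = 0
  · refine ⟨?_, hz⟩
    rw [hz] at h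
    simpa using h
  · exfalso
    refine hb (z₁ / z₂) ?_
    field_simp
    linear_combination h

variable {F : Type*} [Field F]

/-- Every field automorphism is the field part of a semisimilarity of the minus form. -/
theorem exists_semiSim_minus [Fintype F] (m : ℕ) {a b : F}
    (hab : ∀ z₁ z₂ : F, z₁ ^ 2 + a * z₁ * z₂ + b * z₂ ^ 2 = 0 → z₁ = 0 ∧ z₂ = 0) (τ : F ≃+* F) :
    ∃ y : semiSim ⇑(matQuad (minusMat m F a b)),
      (y : GammaL ((Fin m ⊕ Fin m) ⊕ Fin 2) F).right = τ ∧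
        (τ = 1 → (y : GammaL ((Fin m ⊕ Fin m) ⊕ Fin 2) F).left = 1) := by
  classical
  by_cases h1 : τ = 1
  · exact ⟨1, by simp [h1], fun _ => by simp⟩
  have hab' : ∀ z₁ z₂ : F, z₁ ^ 2 + τ.symm a * z₁ * z₂ + τ.symm b * z₂ ^ 2 = 0 → z₁ = 0 ∧ z₂ = 0 :=
    fun z₁ z₂ h => by
      have h' := hab (τ z₁) (τ z₂) (by simpa [map_add, map_mul, map_pow] using congrArg τ h)
      exact ⟨(map_eq_zero τ).1 h'.1, (map_eq_zero τ).1 h'.2⟩
  obtain ⟨E, c, hc, hE⟩ := isSimTo_minus m hab' hab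
  let g : GL ((Fin m ⊕ Fin m) ⊕ Fin 2) F := glAut _ F τ (glEquiv.symm E)
  refine ⟨⟨⟨g, τ⟩, Units.map (τ : F →* F) (Units.mk0 c hc), fun v => ?_⟩, rfl, fun h => absurd h h1⟩
  have hM : minusMat m F a b = (minusMat m F (τ.symm a) (τ.symm b)).map τ := by
    rw [show (⇑τ : F → F) = ⇑(τ : F →+* F) from rfl, minusMat_map]; simp
  show matQuad (minusMat m F a b) ((g : Matrix _ _ F) *ᵥ fun i => τ (v i)) =
    τ c * τ (matQuad (minusMat m F a b) v)
  rw [glAut_coe, ← map_mulVec', glEquiv_symm_mulVec, ← map_mul, coe_matQuad_minus m a b, ← hE,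
    ← coe_matQuad_minus m a b, hM, matQuad_twist, coe_matQuad_minus]

/-- The transport of the field automorphism along an equality of forms. -/
theorem ofEq_isFieldAut [Finite F] {ι : Type} [Fintype ι] [DecidableEq ι] {F₀ : Type*} [Field F₀]
    {emb : F₀ →+* F} {σ : F ≃+* F} {r : ℕ} {M₀ : Matrix ι ι F₀} (D : FieldHyp M₀ emb σ r)
    {Q : (ι → F) → F} (h : ⇑(extForm emb M₀) = Q) :
    Cfsg.IsFieldAutPOmegaOf Q σ ((FormSim.ofEq h).autEquiv D.fld) := by
  subst h
  rw [show (FormSim.ofEq rfl : FormSim ⇑(extForm emb M₀) ⇑(extForm emb M₀)).autEquiv D.fld = D.fld from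
    FormSim.autEquiv_autOmega _ D.base D.base fun v => rfl]
  exact (D.isFieldAut_iff _).2 rfl

universe w in
/-- The criterion is invariant under isomorphism. -/
theorem criterion_congr {G G' : Type w} [Group G] [Group G'] (ψ : G ≃* G') (A : Subgroup (MulAut G))
    (hinn : ∀ k, MulAut.conj k ∈ A) (x : MulAut G) (p : ℕ)
    (h : ∀ A' : Subgroup (MulAut G'), (∀ k, MulAut.conj k ∈ A') →
      (Cfsg.pPrimeCore p ↥(A' ⊓ Subgroup.centralizer {MulAut.congr ψ x}) ≠ ⊥ ↔
        Nat.Coprime p (Nat.card ↥(MonoidHom.eqLocus (MulAut.congr ψ x).toMonoidHom (MonoidHom.id G'))))) :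
    Cfsg.pPrimeCore p ↥(A ⊓ Subgroup.centralizer {x}) ≠ ⊥ ↔
      Nat.Coprime p (Nat.card ↥(MonoidHom.eqLocus x.toMonoidHom (MonoidHom.id G))) := by
  set φ := MulAut.congr ψ with hφ
  have hmap : (A ⊓ Subgroup.centralizer {x}).map φ.toMonoidHom =
      A.map φ.toMonoidHom ⊓ Subgroup.centralizer {φ x} := by
    rw [Subgroup.map_inf _ _ _ φ.injective]
    congr 1
    ext y
    rw [Subgroup.mem_map, Subgroup.mem_centralizer_singleton_iff]
    constructor
    · rintro ⟨z, hz, rfl⟩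
      rw [Subgroup.mem_centralizer_singleton_iff] at hz
      show φ z * φ x = φ x * φ z
      rw [← map_mul, hz, map_mul]
    · intro hy
      refine ⟨φ.symm y, Subgroup.mem_centralizer_singleton_iff.2 (φ.injective ?_), φ.apply_symm_apply y⟩
      rw [map_mul φ (φ.symm y), map_mul φ x, φ.apply_symm_apply]
      exact hy
  have hinn' : ∀ k, MulAut.conj k ∈ A.map φ.toMonoidHom := fun k =>
    ⟨MulAut.conj (ψ.symm k), hinn _, MulEquiv.ext fun y => by simp [φ, MulAut.congr]⟩
  rw [CfsgLib.KnownB.PSpAut.pPrimeCore_ne_bot_congr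
    (((A ⊓ Subgroup.centralizer {x}).equivMapOfInjective φ.toMonoidHom φ.injective).trans
      (MulEquiv.subgroupCongr hmap)) p, h _ hinn']
  rw [Nat.card_congr (Equiv.subtypeEquiv ψ.toEquiv ?_)]
  intro k
  show x k = k ↔ ψ (x (ψ.symm (ψ k))) = ψ k
  rw [ψ.symm_apply_apply, ψ.injective.eq_iff]

theorem square_square_mem [Finite F] {ι : Type} [Fintype ι] [DecidableEq ι] {M : Matrix ι ι F} {k : ℕ}
    (D : EvenHyp M k) (g : Cfsg.Geo.quadSimilarityGroup ⇑(matQuad M)) :
    g * g * (g * g) ∈ innPre ⇑(matQuad M) := by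
  by_cases h2 : (2 : F) = 0
  · rw [← clsSub_two (k := k) h2]
    have h := (D.mul_mem_iff g g).2 Iff.rfl
    exact mul_mem h h
  · have S := D.simHyp h2
    obtain ⟨c, h, hg, -⟩ := S.exists_scalar_mul_iso (g := g * g) (by rw [map_mul, map_mul, sqClass_mul_self])
    refine (mem_innPre_iff D.nondeg D.five_le _).2 ⟨h * h, ?_, c * c, ?_⟩
    · refine (mem_Omega_iff_isoInv D.nondeg h2 _).2 ?_
      rw [map_mul]
      have hz : ∀ a : Multiplicative (ZMod 2), a * a = 1 := by decide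
      exact Prod.ext (sqClass_mul_self _) (hz _)
    · rw [hg]
      refine Subtype.ext (Units.ext ?_)
      simp only [map_mul, Subgroup.coe_mul, Units.val_mul, simScalar_coe, smul_mul_assoc, one_mul, mul_smul_comm,
        smul_smul]

set_option maxHeartbeats 4000000 in
/-- An automorphism of odd prime order outside the inner-diagonal group: the field class and the criterion. -/
theorem odd_order_minus [Fintype F] {m : ℕ} (hm : 3 ≤ m) {a b : F}
    (hab : ∀ z₁ z₂ : F, z₁ ^ 2 + a * z₁ * z₂ + b * z₂ ^ 2 = 0 → z₁ = 0 ∧ z₂ = 0) {p : ℕ} (hp : p.Prime)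
    (hpodd : Odd p) (x : MulAut (Cfsg.POmega F (Cfsg.quadFormMinus m F a b))) (hord : orderOf x = p)
    (hnot : x ∉ Cfsg.inndiagPOmegaMinus m F a b)
    (A : Subgroup (MulAut (Cfsg.POmega F (Cfsg.quadFormMinus m F a b)))) (hinn : ∀ k, MulAut.conj k ∈ A) :
    Cfsg.IsFieldAutClassPOmegaMinus m x ∧
      (Cfsg.pPrimeCore p ↥(A ⊓ Subgroup.centralizer {x}) ≠ ⊥ ↔
        Nat.Coprime p (Nat.card ↥(MonoidHom.eqLocus x.toMonoidHom
          (MonoidHom.id (Cfsg.POmega F (Cfsg.quadFormMinus m F a b)))))) := by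
  classical
  have E := evenHyp_minus hm hab
  set S := minusSim m a b with hS
  obtain ⟨w, rfl⟩ : ∃ w, S.autEquiv w = x := S.autEquiv.surjective x
  rw [MulEquiv.orderOf_eq] at hord
  have hnot' : w ∉ (clsSub (minusMat m F a b) (m + 1)).map (simAut _) := fun h =>
    hnot (inndiag_minus_eq hm hab ▸ ⟨w, h, rfl⟩)
  obtain ⟨y, rfl⟩ : w ∈ (autOmega ⇑(matQuad (minusMat m F a b))).range := by
    have := gammaPOmega_minus_eq_top hm hab
    rw [← coe_matQuad_minus] at this
    rw [← gammaPOmega_eq, this]; trivial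
  set σ := (y : GammaL ((Fin m ⊕ Fin m) ⊕ Fin 2) F).right with hσ
  have hσ1 : σ ≠ 1 := by
    intro h
    obtain ⟨c, hc⟩ := y.2
    have e : (y : GammaL ((Fin m ⊕ Fin m) ⊕ Fin 2) F) =
        SemidirectProduct.inl (y : GammaL ((Fin m ⊕ Fin m) ⊕ Fin 2) F).left :=
      SemidirectProduct.ext (by simp) (by rw [SemidirectProduct.right_inl]; exact h)
    let g : Cfsg.Geo.quadSimilarityGroup ⇑(matQuad (minusMat m F a b)) :=
      ⟨(y : GammaL ((Fin m ⊕ Fin m) ⊕ Fin 2) F).left, c, fun v => by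
        have := hc v
        rw [e, slAct_inl, SemidirectProduct.right_inl] at this
        exact this⟩
    have hyg : simAut _ g = autOmega _ y := congrArg (autOmega _) (Subtype.ext e.symm)
    refine hnot' ?_
    obtain ⟨j, hj⟩ := hpodd
    refine ⟨(g * g) ^ (j + 1), pow_mem ((E.mul_mem_iff g g).2 Iff.rfl) _, ?_⟩
    rw [map_pow, map_mul, hyg, ← _root_.sq, ← pow_mul, show 2 * (j + 1) = p + 1 by omega, pow_succ, ← hord,
      pow_orderOf_eq_one, one_mul]
  have hσp : orderOf σ = p := by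
    haveI := Fact.mk hp
    refine orderOf_eq_prime ?_ hσ1
    have := ((autOmega_eq_one_iff E.nondeg E.five_le (y ^ p)).1
      (by rw [map_pow, ← hord, pow_orderOf_eq_one])).1
    rw [SubgroupClass.coe_pow, show ((y : GammaL ((Fin m ⊕ Fin m) ⊕ Fin 2) F) ^ p).right = σ ^ p from
      map_pow SemidirectProduct.rightHom _ p] at this
    exact this
  let K := RingHom.eqLocusField (σ : F →+* F) (RingHom.id F)
  set emb : K →+* F := K.subtype with hemb
  have hfix : ∀ a, σ a = a ↔ ∃ y, emb y = a := fun a => ⟨fun h => ⟨⟨a, h⟩, rfl⟩, fun ⟨b, hb⟩ => hb ▸ b.2⟩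
  haveI : Finite K := Finite.of_injective emb emb.injective
  haveI := Fintype.ofFinite K
  obtain ⟨a₀, b₀, h₀⟩ := exists_binAniso (F := K)
  have h₀' := aniso_map_odd hfix hσp hpodd h₀
  have D := fieldHyp_minus (emb := emb) hm h₀ hfix hp hσp
  have D₀ := evenHyp_minus hm h₀
  obtain ⟨T⟩ : Nonempty (FormSim ⇑(matQuad (minusMat m F a b)) ⇑(extForm emb (minusMat m K a₀ b₀))) := by
    refine IsSimTo.nonempty_formSim ?_
    rw [extForm, minusMat_map, coe_matQuad_minus, coe_matQuad_minus]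
    exact isSimTo_minus m h₀' hab
  obtain ⟨z, hzr, hz⟩ := T.exists_semiSim y
  have hTz : T.autEquiv (autOmega _ y) = autOmega _ z := T.autEquiv_autOmega y z hz
  -- the similarity part
  have hzσ : ((z * D.base⁻¹ : semiSim ⇑(extForm emb (minusMat m K a₀ b₀))) :
      GammaL ((Fin m ⊕ Fin m) ⊕ Fin 2) F).right = 1 := by
    rw [Subgroup.coe_mul, Subgroup.coe_inv, SemidirectProduct.mul_right, SemidirectProduct.inv_right, hzr]
    exact mul_inv_cancel σ
  obtain ⟨g, hg⟩ : ∃ g, z * D.base⁻¹ = simIncl ⇑(extForm emb (minusMat m K a₀ b₀)) g := by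
    obtain ⟨c, hc⟩ := (z * D.base⁻¹).2
    set u := (z * D.base⁻¹ : semiSim ⇑(extForm emb (minusMat m K a₀ b₀))) with hu
    have e : (u : GammaL ((Fin m ⊕ Fin m) ⊕ Fin 2) F) =
        SemidirectProduct.inl (u : GammaL ((Fin m ⊕ Fin m) ⊕ Fin 2) F).left :=
      SemidirectProduct.ext (by simp) (by rw [SemidirectProduct.right_inl]; exact hzσ)
    refine ⟨⟨_, c, fun v => ?_⟩, Subtype.ext e⟩
    have := hc v
    rw [e, slAct_inl, SemidirectProduct.right_inl] at this
    exact this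
  set x' := simAut _ g * D.fld with hx'def
  have hx' : T.autEquiv (autOmega _ y) = x' := by
    rw [hTz, hx'def, FieldHyp.fld, simAut, MonoidHom.comp_apply, ← map_mul, ← hg, inv_mul_cancel_right]
  have hord' : orderOf x' = p := by rw [← hx', MulEquiv.orderOf_eq, hord]
  -- it preserves the classes
  have DF := D₀.base emb
  have hgc : g ∈ clsSub ((minusMat m K a₀ b₀).map emb) (m + 1) := by
    by_contra hgn
    have hk : ∀ k : ℕ, ∃ h, x' ^ k = simAut _ h * D.fld ^ k ∧
        (h ∈ clsSub ((minusMat m K a₀ b₀).map emb) (m + 1) ↔ Even k) := by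
      intro k
      induction k with
      | zero => exact ⟨1, by simp, iff_of_true (one_mem _) ⟨0, rfl⟩⟩
      | succ k ih =>
        obtain ⟨h, e, hh⟩ := ih
        refine ⟨g * D.twist h, ?_, ?_⟩
        · calc x' ^ (k + 1) = simAut _ g * (D.fld * simAut _ h * D.fld⁻¹) * (D.fld * D.fld ^ k) := by
                rw [pow_succ', e, hx'def]; group
            _ = _ := by rw [D.fld_conj, ← map_mul, pow_succ']
        · rw [DF.mul_mem_iff, iff_false_left hgn, D.twist_mem_iff D₀, hh, Nat.even_add_one]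
    obtain ⟨h, e, hh⟩ := hk p
    have hfld : D.fld ^ p = 1 := by
      rw [FieldHyp.fld, ← map_pow]
      have : D.base ^ p = 1 := Subtype.ext (by
        rw [SubmonoidClass.coe_pow]
        show SemidirectProduct.inr σ ^ p = 1
        rw [← map_pow, ← hσp, pow_orderOf_eq_one, map_one])
      rw [this, map_one]
    rw [hfld, mul_one, ← hord', pow_orderOf_eq_one] at e
    obtain ⟨c, hc⟩ := (simAut_eq_one_iff DF.nondeg DF.five_le h).1 e.symm
    exact Nat.not_even_iff_odd.2 hpodd (hh.1 ((show h = simScalar _ c from Subtype.ext hc.symm) ▸ DF.scalar_mem c))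
  obtain ⟨α, -, hα⟩ := D.coset_even D₀ _ ⟨g, hgc, rfl⟩ hord'
  set ψ : Cfsg.POmega F (Cfsg.quadFormMinus m F a b) ≃* Cfsg.POmega F ⇑(extForm emb (minusMat m K a₀ b₀)) :=
    (S.pomegaEquiv.symm.trans T.pomegaEquiv).trans α⁻¹ with hψ
  have hψx : MulAut.congr ψ (S.autEquiv (autOmega _ y)) = D.fld := by
    have e1 : MulAut.congr ψ (S.autEquiv (autOmega _ y)) = α⁻¹ * T.autEquiv (autOmega _ y) * α := by
      refine MulEquiv.ext fun v => ?_
      simp [ψ, FormSim.autEquiv, MulAut.congr, MulAut.inv_def]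
    rw [e1, hx', hx'def, hα]; group
  constructor
  · refine ⟨emb a₀, emb b₀, ψ.trans (minusSim₀ emb m a₀ b₀).pomegaEquiv, σ, h₀', hσ1,
      (hfix _).2 ⟨a₀, rfl⟩, (hfix _).2 ⟨b₀, rfl⟩, ?_⟩
    have h1 : ∀ h : ⇑(extForm emb (minusMat m K a₀ b₀)) = Cfsg.quadFormMinus m F (emb a₀) (emb b₀),
        Cfsg.IsFieldAutPOmegaOf (Cfsg.quadFormMinus m F (emb a₀) (emb b₀)) σ
          (MulAut.congr (FormSim.ofEq h).pomegaEquiv (MulAut.congr ψ (S.autEquiv (autOmega _ y)))) :=
      fun h => by rw [hψx]; exact ofEq_isFieldAut D h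
    exact h1 _
  · refine criterion_congr ψ A hinn _ p fun A' hA' => ?_
    rw [hψx]
    refine core_criterion_four D hpodd ?_ (fun τ₀ => exists_semiSim_minus m h₀ τ₀) (square_square_mem D₀) A' hA'
    rw [extForm, minusMat_map, coe_matQuad_minus]
    exact gammaPOmega_minus_eq_top hm h₀'

end CfsgLib.FgsC.LocalBalance
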