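import Cfsg.Agent.Lib.FgsC.LocalBalance.OrthQuad

/-!
Coordinates adapted to a square root of a nonsquare.
-/

set_option autoImplicit false

namespace CfsgLib.FgsC.LocalBalance

open Matrix QuadraticMap CfsgLib.Geometry

variable {F : Type*} [Field F] [Finite F] {ι : Type} [Fintype ι] [DecidableEq ι] {M : Matrix ι ι F}

theorem exists_quad_coord (h2 : (2 : F) ≠ 0) (hd : (M + Mᵀ).det ≠ 0) {k : ℕ} (hk : Fintype.card ι = 2 * k)
    (hko : Odd k) {c : F} (hc : ¬ IsSquare c) {X : Matrix ι ι F} (hXX : X * X = c • 1)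
    (hX : Xᵀ * (M + Mᵀ) * X = c • (M + Mᵀ)) :
    ∃ (C : Coord M (Fin k × Fin 2)) (s : QuadraticAlgebra F c 0), s ≠ 0 ∧
      C.form = quadDiag c k * quadMat c k (s • 1) ∧ C.pull X = quadRoot c k := by
  classical
  haveI : Fact (∀ r : F, r ^ 2 ≠ c + 0 * r) := ⟨fun r hr => hc ⟨r, by linear_combination -hr⟩⟩
  haveI : Finite (QuadraticAlgebra F c 0) := Module.finite_of_finite F
  have h2K : (2 : QuadraticAlgebra F c 0) ≠ 0 := fun h => h2 (by
    have h' : algebraMap F (QuadraticAlgebra F c 0) 2 = algebraMap F (QuadraticAlgebra F c 0) 0 := by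
      rw [map_ofNat, h, map_zero]
    exact (algebraMap F (QuadraticAlgebra F c 0)).injective h')
  have hc0 : c ≠ 0 := fun h => hc (h ▸ IsSquare.zero)
  have hu : Matrix.toLin' X * Matrix.toLin' X = c • (1 : Module.End F (ι → F)) + (0 : F) • Matrix.toLin' X := by
    refine LinearMap.ext fun v => ?_
    simp [Module.End.mul_apply, mulVec_mulVec, hXX, Matrix.smul_mulVec]
  let φ : QuadraticAlgebra F c 0 →ₐ[F] Module.End F (ι → F) := QuadraticAlgebra.lift ⟨Matrix.toLin' X, hu⟩
  letI : Module (QuadraticAlgebra F c 0) (ι → F) := Module.compHom (ι → F) φ.toRingHom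
  haveI : IsScalarTower F (QuadraticAlgebra F c 0) (ι → F) := ⟨fun a z v => by
    show φ (a • z) v = a • φ z v
    rw [map_smul, LinearMap.smul_apply]⟩
  haveI : Module.Finite (QuadraticAlgebra F c 0) (ι → F) := Module.Finite.right F (QuadraticAlgebra F c 0) (ι → F)
  have hrank : Module.finrank (QuadraticAlgebra F c 0) (ι → F) = k := by
    have h := Module.finrank_mul_finrank F (QuadraticAlgebra F c 0) (ι → F)
    rw [QuadraticAlgebra.finrank_eq_two, Module.finrank_fintype_fun_eq_card, hk] at h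
    omega
  let bK := Module.finBasisOfFinrankEq (QuadraticAlgebra F c 0) (ι → F) hrank
  let bb : Module.Basis (Fin k × Fin 2) F (ι → F) :=
    ((QuadraticAlgebra.basis (R := F) c 0).smulTower bK).reindex (Equiv.prodComm _ _)
  obtain ⟨C, hcol⟩ : ∃ C : Coord M (Fin k × Fin 2), ∀ p i, C.P i p = bb p i :=
    ⟨⟨(Pi.basisFun F ι).toMatrix bb, bb.toMatrix (Pi.basisFun F ι),
      Module.Basis.toMatrix_mul_toMatrix_flip _ _, Module.Basis.toMatrix_mul_toMatrix_flip _ _⟩,
      fun p i => by simp [Module.Basis.toMatrix_apply]⟩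
  have hb0 : ∀ i, bb (i, 0) = bK i := fun i => by
    simp only [bb, Module.Basis.reindex_apply, Equiv.prodComm_symm, Equiv.prodComm_apply, Prod.swap_prod_mk,
      Module.Basis.smulTower_apply]
    rw [show (QuadraticAlgebra.basis (R := F) c 0) 0 = 1 from (QuadraticAlgebra.basis (R := F) c 0).repr.injective
      (by ext j; fin_cases j <;> simp [QuadraticAlgebra.re_one, QuadraticAlgebra.im_one]), one_smul]
  have hb1 : ∀ i, bb (i, 1) = X *ᵥ bK i := fun i => by
    simp only [bb, Module.Basis.reindex_apply, Equiv.prodComm_symm, Equiv.prodComm_apply, Prod.swap_prod_mk,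
      Module.Basis.smulTower_apply]
    rw [show (QuadraticAlgebra.basis (R := F) c 0) 1 = ⟨0, 1⟩ from (QuadraticAlgebra.basis (R := F) c 0).repr.injective
      (by ext j; fin_cases j <;> simp)]
    show φ ⟨0, 1⟩ (bK i) = _
    simp [φ]
  have hPX : X * C.P = C.P * quadRoot c k := by
    ext i p
    obtain ⟨j, t⟩ := p
    have hcol' : (fun a => C.P a (j, t)) = bb (j, t) := funext (hcol (j, t))
    have hL : (X * C.P) i (j, t) = (X *ᵥ bb (j, t)) i := by rw [← hcol']; rfl
    rw [hL, Matrix.mul_apply]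
    fin_cases t
    · rw [Finset.sum_eq_single (j, 1)]
      · simp [quadRoot, hcol, hb0, hb1]
      · rintro ⟨a, b⟩ - hne
        by_cases ha : a = j
        · subst ha
          fin_cases b
          · simp [quadRoot]
          · simp at hne
        · simp [quadRoot, ha]
      · simp
    · rw [Finset.sum_eq_single (j, 0)]
      · simp [quadRoot, hcol, hb0, hb1, mulVec_mulVec, hXX, Matrix.smul_mulVec, mul_comm]
      · rintro ⟨a, b⟩ - hne
        by_cases ha : a = j
        · subst ha
          fin_cases b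
          · simp at hne
          · simp [quadRoot]
        · simp [quadRoot, ha]
      · simp
  have hpull : C.pull X = quadRoot c k := by rw [Coord.pull, Matrix.mul_assoc, hPX, C.cancel]
  have hXG : Xᵀ * (M + Mᵀ) = (M + Mᵀ) * X := by
    refine smul_right_injective _ hc0 ?_
    calc c • (Xᵀ * (M + Mᵀ)) = Xᵀ * (M + Mᵀ) * (X * X) := by rw [hXX, Matrix.mul_smul, Matrix.mul_one]
      _ = (Xᵀ * (M + Mᵀ) * X) * X := by simp only [Matrix.mul_assoc]
      _ = c • ((M + Mᵀ) * X) := by rw [hX, Matrix.smul_mul]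
  set G := C.form with hGdef
  set R := quadRoot c k with hRdef
  have hGR : Rᵀ * G = G * R := by
    calc Rᵀ * G = (C.P * R)ᵀ * (M + Mᵀ) * C.P := by
          rw [hGdef, Coord.form, transpose_mul]; simp only [Matrix.mul_assoc]
      _ = C.Pᵀ * (Xᵀ * (M + Mᵀ)) * C.P := by rw [← hPX, transpose_mul]; simp only [Matrix.mul_assoc]
      _ = C.Pᵀ * (M + Mᵀ) * (X * C.P) := by rw [hXG]; simp only [Matrix.mul_assoc]
      _ = G * R := by rw [hPX, hGdef, Coord.form]; simp only [Matrix.mul_assoc]
  set Di : Matrix (Fin k × Fin 2) (Fin k × Fin 2) F := diagonal fun p => ![1, c⁻¹] p.2 with hDi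
  have hDDi : quadDiag c k * Di = 1 := by
    rw [quadDiag, hDi, diagonal_mul_diagonal, ← diagonal_one]
    congr 1
    funext p
    obtain ⟨i, t⟩ := p
    fin_cases t <;> simp [hc0]
  have hDiD : Di * quadDiag c k = 1 := mul_eq_one_comm.1 hDDi
  have hRD : Rᵀ * quadDiag c k = quadDiag c k * R := by
    rw [hRdef, quadRoot_eq, quadMat_transpose, diagonal_transpose]
  have hUR : (Di * G) * R = R * (Di * G) := by
    calc Di * G * R = Di * (Rᵀ * G) := by rw [hGR, Matrix.mul_assoc]
      _ = Di * (Rᵀ * quadDiag c k * (Di * G)) := by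
          rw [Matrix.mul_assoc Rᵀ, ← Matrix.mul_assoc (quadDiag c k), hDDi, Matrix.one_mul]
      _ = _ := by
          rw [hRD, Matrix.mul_assoc (quadDiag c k), ← Matrix.mul_assoc Di, hDiD, Matrix.one_mul]
  set S : Matrix (Fin k) (Fin k) (QuadraticAlgebra F c 0) :=
    Matrix.of fun i j => ⟨(Di * G) (i, 0) (j, 0), (Di * G) (i, 1) (j, 0)⟩ with hSdef
  have hS : quadMat c k S = Di * G := quadMat_of_commute c hUR
  have hGS : G = quadDiag c k * quadMat c k S := by rw [hS, ← Matrix.mul_assoc, hDDi, Matrix.one_mul]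
  have hGsym : Gᵀ = G := by
    rw [hGdef, Coord.form, transpose_mul, transpose_mul, transpose_transpose, transpose_add, transpose_transpose,
      add_comm Mᵀ, Matrix.mul_assoc]
  have hSsym : Sᵀ = S := by
    refine quadMat_injective c ?_
    have h : quadDiag c k * quadMat c k Sᵀ = quadDiag c k * quadMat c k S := by
      rw [← quadMat_transpose, ← hGS]
      conv_rhs => rw [← hGsym, hGS, transpose_mul, quadDiag, diagonal_transpose]
      rfl
    have h' := congrArg (Di * ·) h
    simpa [← Matrix.mul_assoc, hDiD] using h'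
  have hGdet : ∀ T : Matrix (Fin k × Fin 2) (Fin k × Fin 2) F, G * T = 0 → T = 0 := by
    intro T hT
    have e : C.P'ᵀ * G * C.P' = M + Mᵀ := by
      calc C.P'ᵀ * G * C.P' = (C.P * C.P')ᵀ * (M + Mᵀ) * (C.P * C.P') := by
            rw [hGdef, Coord.form, transpose_mul]; simp only [Matrix.mul_assoc]
        _ = _ := by rw [C.right_inv, transpose_one, Matrix.one_mul, Matrix.mul_one]
    have h : (M + Mᵀ) * (C.P * T) = 0 := by
      rw [← e, Matrix.mul_assoc _ C.P', C.cancel, Matrix.mul_assoc, hT, Matrix.mul_zero]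
    have h' : C.P * T = 0 := by
      have := congrArg ((M + Mᵀ)⁻¹ * ·) h
      simpa [← Matrix.mul_assoc, Matrix.nonsing_inv_mul _ (isUnit_iff_ne_zero.2 hd)] using this
    have := congrArg (C.P' * ·) h'
    simpa [C.cancel] using this
  have hSdet : S.det ≠ 0 := by
    intro h0
    obtain ⟨v, hv0, hv⟩ := Matrix.exists_mulVec_eq_zero_iff.2 h0
    have hST : S * Matrix.of (fun i (_ : Fin k) => v i) = 0 := by
      ext i j : 1
      exact (congrFun hv i :)
    have h : G * quadMat c k (Matrix.of (fun i (_ : Fin k) => v i)) = 0 := by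
      rw [hGS, Matrix.mul_assoc, ← map_mul, hST, map_zero, Matrix.mul_zero]
    have h0' := quadMat_injective c ((hGdet _ h).trans (map_zero _).symm)
    refine hv0 (funext fun i => ?_)
    exact congrFun (congrFun h0' i) ⟨0, hko.pos⟩
  obtain ⟨T, s, hs0, hT⟩ := exists_congr_scalar h2K (by simpa using hko) hSsym hSdet
  let RT : GL (Fin k × Fin 2) F := Units.map (quadMat c k).toMonoidHom T
  have hRT : (RT : Matrix (Fin k × Fin 2) (Fin k × Fin 2) F) = quadMat c k (T : Matrix (Fin k) (Fin k) _) := rfl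
  have hcomm : quadMat c k (T : Matrix (Fin k) (Fin k) _) * R = R * quadMat c k (T : Matrix (Fin k) (Fin k) _) := by
    rw [hRdef, quadRoot_eq, ← map_mul, ← map_mul]
    congr 1
    ext i j : 1
    rw [mul_diagonal, diagonal_mul, mul_comm]
  refine ⟨C.comp RT, s, hs0, ?_, ?_⟩
  · rw [C.comp_form, hRT, ← hGdef, hGS, ← Matrix.mul_assoc, quadMat_transpose, Matrix.mul_assoc, Matrix.mul_assoc,
      ← map_mul, ← map_mul, ← hT, Matrix.mul_assoc]
  · rw [C.comp_pull, hpull, Matrix.mul_assoc, hRT, ← hcomm, ← hRT, ← Matrix.mul_assoc, Units.inv_mul, Matrix.one_mul]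

end CfsgLib.FgsC.LocalBalance
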