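import Cfsg.Agent.Lib.FgsC.LocalBalance.OrthSplit
import Cfsg.Agent.Lib.FgsC.LocalBalance.OrthQuadCoord
import Cfsg.Agent.Lib.Geometry.GraphClasses

/-!
The centraliser of an outer involution of an even-dimensional orthogonal group of nonsquare discriminant.
-/

set_option autoImplicit false

namespace CfsgLib.FgsC.LocalBalance

open Matrix QuadraticMap CfsgLib.Geometry

variable {F : Type*} [Field F] [Finite F] {ι : Type} [Fintype ι] [DecidableEq ι] {M : Matrix ι ι F} {k : ℕ}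

theorem core_outer_involution_lin (D : SimHyp M k) (hk : 4 ≤ k) (g' : Cfsg.Geo.quadSimilarityGroup ⇑(matQuad M))
    (h2o : orderOf (simAut _ g') = 2) (hχg : D.chi g' ≠ 1)
    (hrng : ∀ n, n * simAut _ g' = simAut _ g' * n → n ∈ (autOmega ⇑(matQuad M)).range)
    (A : Subgroup (MulAut (Cfsg.POmega F ⇑(matQuad M)))) (hinn : ∀ k, MulAut.conj k ∈ A) :
    Cfsg.pPrimeCore 2 ↥(A ⊓ Subgroup.centralizer {simAut _ g'}) = ⊥ := by
  obtain ⟨c, hc⟩ := D.mem_scalar (g := g' * g') (by rw [map_mul, ← pow_two, ← h2o, pow_orderOf_eq_one])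
  have hn := D.five_le
  have hcard := D.card_eq
  rcases D.outer_involution_cases hχg hc with ⟨t, h, hth, hhh, -, hodd⟩ | ⟨hns, hmult, hko, hAA⟩
  · set H := ((h : GL ι F) : Matrix ι ι F) with hHdef
    have hHH : H * H = 1 := by
      have := congrArg (fun z : Cfsg.isometryGroup F ⇑(matQuad M) => ((z : GL ι F) : Matrix ι ι F)) hhh
      simpa using this
    have hH : Hᵀ * (M + Mᵀ) * H = M + Mᵀ := (mem_isometry_iff D.two_ne M (h : GL ι F)).1 h.2
    have hX : ((g' : GL ι F) : Matrix ι ι F) = (t : F) • H := by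
      rw [hth]
      simp [simIso, hHdef, simScalar_coe, Matrix.smul_mul]
    have hff : ∀ v, Matrix.toLin' H (Matrix.toLin' H v) = v := fun v => by
      rw [Matrix.toLin'_apply, Matrix.toLin'_apply, mulVec_mulVec, hHH, one_mulVec]
    obtain ⟨-, hsum⟩ := det_involution D.two_ne hff
    rw [Module.finrank_fintype_fun_eq_card, hcard] at hsum
    obtain ⟨j, hj⟩ := hodd
    have hfix : Odd (Module.finrank F (fixEigen (Matrix.toLin' H))) := by
      rw [Nat.odd_iff]; omega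
    have go : ∀ (H' : Matrix ι ι F) (t' : F), t' ≠ 0 → H' * H' = 1 → H'ᵀ * (M + Mᵀ) * H' = M + Mᵀ →
        Odd (Module.finrank F (fixEigen (Matrix.toLin' H'))) → Odd (Module.finrank F (negEigen (Matrix.toLin' H'))) →
        4 ≤ Module.finrank F (fixEigen (Matrix.toLin' H')) → ((g' : GL ι F) : Matrix ι ι F) = t' • H' →
        Cfsg.pPrimeCore 2 ↥(A ⊓ Subgroup.centralizer {simAut _ g'}) = ⊥ := by
      intro H' t' ht' h1 h3 ho1 ho2 h4 hXt
      obtain ⟨a, b, C, c₁, c₂, rfl, rfl, hc₁, hc₂, hG, hpull⟩ := exists_split_coord D.two_ne D.det_ne h1 h3 ho1 ho2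
      refine core_split D.two_ne D.det_ne hn h4 ho2 C hc₁ hc₂ ht' hG g' hrng ?_ A hinn
      rw [hXt, ← hpull]
      simp only [Coord.pull, Matrix.mul_smul, Matrix.smul_mul]
    by_cases h4 : 4 ≤ Module.finrank F (fixEigen (Matrix.toLin' H))
    · exact go H t t.ne_zero hHH hH hfix ⟨j, hj⟩ h4 hX
    · have e1 : fixEigen (Matrix.toLin' (-H)) = negEigen (Matrix.toLin' H) := Submodule.ext fun v => by
        rw [mem_fixEigen, mem_negEigen, Matrix.toLin'_apply, Matrix.toLin'_apply, neg_mulVec, neg_eq_iff_eq_neg]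
      have e2 : negEigen (Matrix.toLin' (-H)) = fixEigen (Matrix.toLin' H) := Submodule.ext fun v => by
        rw [mem_fixEigen, mem_negEigen, Matrix.toLin'_apply, Matrix.toLin'_apply, neg_mulVec, neg_inj]
      refine go (-H) (-(t : F)) (neg_ne_zero.2 t.ne_zero) (by rw [neg_mul_neg, hHH]) ?_ (e1 ▸ ⟨j, hj⟩) (e2 ▸ hfix)
        (by rw [e1]; omega) ?_
      · rw [transpose_neg, Matrix.neg_mul, neg_mul_neg, hH]
      · rw [hX, neg_smul_neg]
  · set X := ((g' : GL ι F) : Matrix ι ι F) with hXdef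
    have hXX : X * X = (c : F) • 1 := matrix_eq_of_mulVec fun v => by
      rw [← mulVec_mulVec, hAA, Matrix.smul_mulVec, one_mulVec]
    have hXG : Xᵀ * (M + Mᵀ) * X = (c : F) • (M + Mᵀ) := by
      refine ((semisim_iff D.two_ne M X (RingEquiv.refl F) (c : F)).1 fun v => ?_).trans rfl
      show matQuad M (X *ᵥ v) = (c : F) * matQuad M v
      rw [hXdef, simMult_spec D.ne g' v, show simMult D.ne g' = c from hmult]
    obtain ⟨C, s, hs, hG, hpull⟩ := exists_quad_coord D.two_ne D.det_ne hcard hko hns hXX hXG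
    exact core_quad D.two_ne D.det_ne hn hns hk C hs hG g' hrng hpull A hinn

theorem core_outer_involution (D : SimHyp M k) (hk : 4 ≤ k) {Q : (ι → F) → F} (hQ : ⇑(matQuad M) = Q)
    (hdisc : IsSquare (-1 : F) → ¬ IsSquare (M + Mᵀ).det) (hΓ : Cfsg.gammaPOmega F Q = ⊤)
    (x : MulAut (Cfsg.POmega F Q)) (h2o : orderOf x = 2)
    (hχ : ∀ g : Cfsg.Geo.quadSimilarityGroup ⇑(matQuad M),
      Cfsg.IsInducedBySemilinearPOmega Q (g : GL ι F) (RingEquiv.refl F) x → D.chi g ≠ 1)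
    (A : Subgroup (MulAut (Cfsg.POmega F Q))) (hinn : ∀ k, MulAut.conj k ∈ A) :
    Cfsg.pPrimeCore 2 ↥(A ⊓ Subgroup.centralizer {x}) = ⊥ := by
  subst hQ
  obtain ⟨g, hg, hi⟩ := exists_sim_of_gamma_involution D rfl hdisc x (hΓ ▸ Subgroup.mem_top _) h2o
  have hχg := hχ ⟨g, hg⟩ hi
  obtain rfl := (isInduced_sim_iff hg x).1 hi
  exact core_outer_involution_lin D hk ⟨g, hg⟩ h2o hχg
    (fun n _ => by rw [← gammaPOmega_eq, hΓ]; trivial) A hinn

end CfsgLib.FgsC.LocalBalance
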