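import Cfsg.Agent.Lib.Geometry.D4Aut
import Cfsg.Agent.Lib.Geometry.FieldCriterion
import Cfsg.Agent.Lib.Geometry.AutStd

/-!
An automorphism commuting with the group over a subfield comes from a semisimilarity.
-/

set_option autoImplicit false

namespace CfsgLib.FgsC.LocalBalance

open Matrix QuadraticMap CfsgLib.Geometry

variable {ι : Type} [Fintype ι] [DecidableEq ι] {F : Type*} [Field F] [Finite F]
variable {F₀ : Type*} [Field F₀] {M₀ : Matrix ι ι F₀} {emb : F₀ →+* F} {σ : F ≃+* F} {r : ℕ}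

omit [Finite F] in
theorem polar_emb (a b : ι → F₀) :
    polar (extForm emb M₀) (emb ∘ a) (emb ∘ b) = emb (polar (matQuad M₀) a b) := by
  simp only [polar, map_sub]
  rw [← matQuad_map emb M₀ (a + b), ← matQuad_map emb M₀ a, ← matQuad_map emb M₀ b]
  congr 3
  funext i
  simp

/-- A root element over the subfield extends to the root element of the same vectors. -/
theorem extend_rootEl (D : FieldHyp M₀ emb σ r) {e w : ι → F₀} (he : matQuad M₀ e = 0)
    (hw : polar (matQuad M₀) e w = 0) :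
    simAut _ (extend emb M₀ (simIso _ ((rootEl (matQuad M₀) e w : Cfsg.Omega F₀ ⇑(matQuad M₀)) :
      Cfsg.isometryGroup F₀ ⇑(matQuad M₀)))) = MulAut.conj (proot (extForm emb M₀) (emb ∘ e) (emb ∘ w)) := by
  haveI := D.finite₀
  obtain ⟨q, R⟩ := rootHyp_exists D.nondeg D.seven_le
  obtain ⟨q₀, R₀⟩ := rootHyp_exists D.nondeg₀ D.seven_le
  have he' : extForm emb M₀ (emb ∘ e) = 0 := by rw [matQuad_map, he, map_zero]
  have hw' : polar (extForm emb M₀) (emb ∘ e) (emb ∘ w) = 0 := by rw [polar_emb, hw, map_zero]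
  set g₀ := rootEl (matQuad M₀) e w with hg₀
  rw [extend_simIso]
  let s : Cfsg.Omega F ⇑(extForm emb M₀) := ⟨_, omega_extendIso_mem (emb := emb) g₀.2⟩
  show simAut _ (simIso _ (s : Cfsg.isometryGroup F ⇑(extForm emb M₀))) = _
  rw [simAut_simIso_omega]
  congr 1
  show omPr _ s = omPr _ (rootEl (extForm emb M₀) (emb ∘ e) (emb ∘ w))
  congr 1
  refine omAct_injective ?_
  rw [R.act_root he' hw']
  refine LinearEquiv.toLinearMap_injective ((Pi.basisFun F ι).ext fun i => ?_)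
  have e1 : (emb ∘ (Pi.single i 1 : ι → F₀)) = (Pi.single i 1 : ι → F) := by
    funext j; rcases eq_or_ne j i with rfl | hj <;> simp [*]
  rw [Pi.basisFun_apply, ← e1, LinearEquiv.coe_coe, LinearEquiv.coe_coe, siegel_apply, matQuad_map, polar_emb,
    polar_emb]
  show (((s : Cfsg.isometryGroup F ⇑(extForm emb M₀)) : GL ι F) : Matrix ι ι F) *ᵥ _ = _
  show (((g₀ : Cfsg.isometryGroup F₀ ⇑(matQuad M₀)) : GL ι F₀) : Matrix ι ι F₀).map emb *ᵥ _ = _
  rw [← map_mulVec_comp, ← isomEquiv_apply (matQuad M₀) (g₀ : Cfsg.isometryGroup F₀ ⇑(matQuad M₀)),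
    show (isomEquiv (matQuad M₀) (g₀ : Cfsg.isometryGroup F₀ ⇑(matQuad M₀)) : (ι → F₀) ≃ₗ[F₀] (ι → F₀)) =
      omAct (matQuad M₀) g₀ from rfl, hg₀, R₀.act_root he hw, siegel_apply]
  funext j
  simp

/-- An automorphism commuting with the group over the subfield comes from a semisimilarity. -/
theorem mem_range_of_comm_innPre (D : FieldHyp M₀ emb σ r)
    (n : MulAut (Cfsg.POmega F ⇑(extForm emb M₀)))
    (hn : ∀ g ∈ innPre ⇑(matQuad M₀),
      n * simAut _ (extend emb M₀ g) = simAut _ (extend emb M₀ g) * n) :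
    n ∈ (autOmega ⇑(extForm emb M₀)).range := by
  haveI := D.finite₀
  obtain ⟨q, R⟩ := rootHyp_exists D.nondeg D.seven_le
  haveI := Fact.mk R.prime
  obtain ⟨q₀, R₀⟩ := rootHyp_exists D.nondeg₀ D.seven_le
  obtain ⟨e₀, he0, he⟩ := exists_singular D.nondeg₀ (by have := R₀.five_le'; omega)
  obtain ⟨f₀, hf, hef⟩ := exists_pair D.nondeg₀ he0 he
  obtain ⟨u₀, hu0, hQu, hu⟩ := exists_singular_pairPerp D.nondeg₀ R₀.five_le' he hf hef
  obtain ⟨v₀, H⟩ := exists_frame D.nondeg₀ he hf hef hu0 hQu hu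
  have hQe : ∀ z : ι → F₀, matQuad M₀ z = 0 → (extForm emb M₀) (emb ∘ z) = 0 := fun z hz => by rw [matQuad_map, hz, map_zero]
  have hW : ∀ z, z ∈ pairPerp (matQuad M₀) e₀ f₀ → (emb ∘ z) ∈ pairPerp (extForm emb M₀) (emb ∘ e₀) (emb ∘ f₀) := fun z hz => by
    obtain ⟨h1, h2⟩ := mem_pairPerp.1 hz
    exact mem_pairPerp.2 ⟨by rw [polar_emb, h1, map_zero], by rw [polar_emb, h2, map_zero]⟩
  have hp : polar (extForm emb M₀) (emb ∘ u₀) (emb ∘ v₀) = 1 := by rw [polar_emb, H.hef', map_one]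
  have hE : polar (extForm emb M₀) (emb ∘ e₀) (emb ∘ f₀) = 1 := by rw [polar_emb, hef, map_one]
  have hv0 : v₀ ≠ 0 := fun h => one_ne_zero (H.hef'.symm.trans (by rw [h, QuadraticMap.polar_zero_right]))
  have hne : ∀ z : ι → F₀, z ≠ 0 → (emb ∘ z) ≠ 0 := fun z hz h => hz (funext fun i => by simpa using congrFun h i)
  have hR : ∀ A, A ∈ rootSets (extForm emb M₀) ↔ n '' A ∈ rootSets (extForm emb M₀) := R.image_rootSets n
  have hfix : ∀ z, z ≠ 0 → matQuad M₀ z = 0 → z ∈ pairPerp (matQuad M₀) e₀ f₀ →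
      n '' lineSet (extForm emb M₀) (emb ∘ e₀) (emb ∘ z) = lineSet (extForm emb M₀) (emb ∘ e₀) (emb ∘ z) := by
    intro z hz0 hz hzW
    have hl := isLine_pairPerp (hQe _ he) hE (hW z hzW) (hne z hz0) (hQe _ hz)
    set g := proot (extForm emb M₀) (emb ∘ e₀) (emb ∘ z) with hgdef
    have hg1 : g ≠ 1 := R.proot_ne_one (hQe _ he) hE (hW z hzW) (hne z hz0)
    have hmem : g ∈ lineSet (extForm emb M₀) (emb ∘ e₀) (emb ∘ z) := ⟨1, by rw [hgdef]; simp⟩
    have hgi : simIso _ ((rootEl (matQuad M₀) e₀ z : Cfsg.Omega F₀ ⇑(matQuad M₀)) :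
        Cfsg.isometryGroup F₀ ⇑(matQuad M₀)) ∈ innPre ⇑(matQuad M₀) := by
      show simAut _ _ ∈ Cfsg.Inn _
      rw [simAut_simIso_omega]
      exact ⟨_, rfl⟩
    have hng : n g = g := by
      have h := hn _ hgi
      rw [extend_rootEl D he (mem_pairPerp.1 hzW).1, ← hgdef] at h
      refine conj_pOmega_injective D.nondeg D.five_le ?_
      calc MulAut.conj (n g) = n * MulAut.conj g * n⁻¹ := MulEquiv.ext fun w => by simp
        _ = MulAut.conj g := by rw [h, mul_inv_cancel_right]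
    obtain ⟨x, y, hl', hL⟩ := (hR _).1 ⟨_, _, hl, rfl⟩
    have hgy : g ∈ lineSet (extForm emb M₀) x y := by rw [← hL]; exact ⟨g, hmem, hng⟩
    rw [hL]
    exact (R.lineSet_eq_of_common hl hl' hg1 hmem hgy).symm
  have h1 := hfix u₀ hu0 hQu hu
  have h2 := hfix v₀ hv0 H.hf' H.f'W
  refine R.mem_range_of_one_rad n (hne _ he0) (hQe _ he) (hne _ he0) (hQe _ he) ?_
  have h3 := congrArg (fun S : Subgroup (Cfsg.POmega F ⇑(extForm emb M₀)) => (S : Set (Cfsg.POmega F ⇑(extForm emb M₀))))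
    (spanSub_image n hR (lineSet (extForm emb M₀) (emb ∘ e₀) (emb ∘ u₀)) (lineSet (extForm emb M₀) (emb ∘ e₀) (emb ∘ v₀)))
  simp only [Subgroup.coe_map] at h3
  rw [h1, h2, R.spanSub_eq (hQe _ he) (hQe _ hf) hE (hW _ hu) (hQe _ hQu) (hW _ H.f'W) (hQe _ H.hf')
    (by rw [hp]; exact one_ne_zero)] at h3
  exact h3.symm

end CfsgLib.FgsC.LocalBalance
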