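import Cfsg.Agent.Lib.Geometry.D4Data
import Cfsg.Agent.Lib.Geometry.OutFrob

/-!
The symmetric group of degree three on top of the semisimilarities in dimension eight.
-/

set_option autoImplicit false

namespace CfsgLib.FgsC.LocalBalance

open Matrix QuadraticMap CfsgLib.Geometry

universe u

variable (F : Type u) [Field F] [Finite F]

/-- The three-cycle modulo semisimilarities. -/
noncomputable def triCyc : MulAut (Oct.G8 F) :=
  Oct.theta F * Oct.sRefl F * (Oct.theta F)⁻¹ * Oct.sRefl F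

/-- The quotient of order six of the outer group, with the classes of the generators. -/
theorem exists_triQuot :
    ∃ (T : Type u) (_ : Group T) (q : MulAut (Oct.G8 F) →* T),
      (∀ α, α ∈ (autOmega ⇑(Oct.Q F)).range ↔ q α = 1 ∨ q α = q (Oct.sRefl F)) ∧
      (∀ α, q α = 1 ↔ ∃ v ∈ Oct.V8 F, ∃ σ : F ≃+* F, QuotientGroup.mk' _ α = v * Oct.Phi8 σ) ∧
      q (triCyc F) ≠ 1 ∧ q (triCyc F) ^ 3 = 1 ∧ q (Oct.sRefl F) ≠ 1 ∧
      q (Oct.sRefl F) * q (Oct.sRefl F) = 1 ∧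
      q (Oct.sRefl F) * q (triCyc F) * q (Oct.sRefl F) = (q (triCyc F))⁻¹ ∧
      ∀ α, ∃ j : ℕ, q α = q (triCyc F) ^ j ∨ q α = q (triCyc F) ^ j * q (Oct.sRefl F) := by
  classical
  haveI := Fintype.ofFinite F
  obtain ⟨p, hp⟩ := CharP.exists F
  obtain ⟨n, hpp, hn⟩ := FiniteField.card F p
  obtain ⟨τ, -, hord, hgen⟩ := exists_frob hpp hn
  have D := Oct.triData8 n.pos hord hgen
  haveI := D.normal_K
  let q : MulAut (Oct.G8 F) →* Oct.O8 F ⧸ D.K :=
    (QuotientGroup.mk' D.K).comp (QuotientGroup.mk' (Cfsg.Inn (Oct.G8 F)))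
  have hq : ∀ α, q α = 1 ↔ QuotientGroup.mk' (Cfsg.Inn (Oct.G8 F)) α ∈ D.K := fun α =>
    QuotientGroup.eq_one_iff _
  have hs : QuotientGroup.mk' (Cfsg.Inn (Oct.G8 F)) (Oct.sRefl F) = Oct.S8 F := rfl
  have hc : QuotientGroup.mk' (Cfsg.Inn (Oct.G8 F)) (triCyc F) = D.c := by
    rw [triCyc, map_mul, map_mul, map_mul, map_inv]; rfl
  have hss : q (Oct.sRefl F) * q (Oct.sRefl F) = 1 := by rw [← map_mul, Oct.sRefl_mul_self, map_one]
  obtain ⟨h3, hnc, hall, -⟩ := D.structure'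
  refine ⟨Oct.O8 F ⧸ D.K, inferInstance, q, fun α => ?_, fun α => ⟨fun hα => ?_, fun hα => ?_⟩, fun h => hnc (hc ▸ (hq _).1 h), ?_, fun h => ?_, hss, ?_,
    fun α => ?_⟩
  · rw [show q α = q (Oct.sRefl F) ↔ q (α * Oct.sRefl F) = 1 by
      rw [map_mul, mul_eq_one_iff_eq_inv, inv_eq_of_mul_eq_one_left hss], hq, hq, D.mem_K, D.mem_K, map_mul, hs]
    constructor
    · rintro ⟨y, rfl⟩
      obtain ⟨v, hv, i, h | h⟩ := Oct.mem_range_form hgen y
      · exact Or.inl ⟨v, hv, i, h⟩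
      · refine Or.inr ⟨v, hv, i, ?_⟩
        rw [show QuotientGroup.mk' (Cfsg.Inn (Oct.G8 F)) (autOmega _ y) = outOf (plusMat 4 F) y from rfl, h,
          (D.SΦ.pow_right i).eq, ← mul_assoc, mul_assoc, D.S_sq, mul_one]
    · rintro (⟨v, ⟨g, hg, rfl⟩, i, h⟩ | ⟨v, ⟨g, hg, rfl⟩, i, h⟩)
      · refine Oct.mem_range_of_mk (y := simIncl _ g * plusFld 4 τ ^ i) ?_
        rw [h, map_mul, outOf_simIncl, Oct.Phi8_pow]
      · refine Oct.mem_range_of_mk (y := simIncl _ g * (simIncl _ (Oct.R8 F) * plusFld 4 τ ^ i)) ?_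
        rw [← mul_inv_eq_iff_eq_mul.2 h.symm, D.S_inv]
        rw [map_mul, map_mul, outOf_simIncl, outOf_simIncl, ← Oct.Phi8_pow, ← Oct.S8, (D.SΦ.pow_right i).eq,
          ← mul_assoc]
  · obtain ⟨v, hv, i, h⟩ := D.mem_K.1 ((hq α).1 hα)
    refine ⟨v, hv, τ ^ i, ?_⟩
    rw [h, Oct.Phi8_pow, Oct.Phi8]
    congr 2
    refine Subtype.ext ?_
    rw [SubmonoidClass.coe_pow]
    exact (map_pow SemidirectProduct.inr τ i).symm
  · obtain ⟨v, hv, σ, h⟩ := hα
    obtain ⟨i, rfl⟩ := hgen σ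
    refine (hq α).2 (D.mem_K.2 ⟨v, hv, i, ?_⟩)
    rw [h, Oct.Phi8_pow, Oct.Phi8]
    congr 2
    refine Subtype.ext ?_
    rw [SubmonoidClass.coe_pow]
    exact map_pow SemidirectProduct.inr τ i
  · rw [← map_pow, hq, map_pow, hc]; exact h3
  · obtain ⟨v, hv, i, h'⟩ := D.mem_K.1 ((hq _).1 h)
    exact D.S_not v hv i (hs ▸ h')
  · rw [← map_mul, ← map_mul, ← mul_eq_one_iff_eq_inv, ← map_mul, hq, map_mul, map_mul, map_mul, hs, hc,
      D.S_c_S, inv_mul_cancel]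
    exact one_mem _
  · obtain ⟨v, hv, j, i, h | h⟩ := hall (QuotientGroup.mk' _ α)
    · refine ⟨j, Or.inl ?_⟩
      rw [← map_pow]
      refine (QuotientGroup.eq).2 ?_
      rw [h, map_pow, hc]
      have : (v * D.c ^ j * Oct.Phi8 τ ^ i)⁻¹ * D.c ^ j =
          (Oct.Phi8 τ ^ i)⁻¹ * ((D.c ^ j)⁻¹ * v⁻¹ * D.c ^ j) := by group
      rw [this]
      refine mul_mem (inv_mem (Subgroup.mem_sup_right (Subgroup.npow_mem_zpowers _ i))) ?_
      have := D.normal_K.conj_mem _ (inv_mem (Subgroup.mem_sup_left hv)) (D.c ^ j)⁻¹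
      rwa [inv_inv] at this
    · refine ⟨j, Or.inr ?_⟩
      rw [← map_pow, ← map_mul]
      refine (QuotientGroup.eq).2 ?_
      rw [h, map_mul, map_pow, hc, hs]
      have : (v * D.c ^ j * (Oct.S8 F * Oct.Phi8 τ ^ i))⁻¹ * (D.c ^ j * Oct.S8 F) =
          (Oct.Phi8 τ ^ i)⁻¹ * ((D.c ^ j * Oct.S8 F)⁻¹ * v⁻¹ * (D.c ^ j * Oct.S8 F)) := by group
      rw [this]
      refine mul_mem (inv_mem (Subgroup.mem_sup_right (Subgroup.npow_mem_zpowers _ i))) ?_
      have := D.normal_K.conj_mem _ (inv_mem (Subgroup.mem_sup_left hv)) (D.c ^ j * Oct.S8 F)⁻¹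
      rwa [inv_inv] at this

variable {F}

/-- An element commuting with one outside the classes but in the semisimilarities is a semisimilarity. -/
theorem mem_range_of_comm {x n : MulAut (Oct.G8 F)} (hx : x ∈ (autOmega ⇑(Oct.Q F)).range)
    (hx1 : ¬ ∃ v ∈ Oct.V8 F, ∃ σ : F ≃+* F, QuotientGroup.mk' _ x = v * Oct.Phi8 σ)
    (hn : n * x = x * n) : n ∈ (autOmega ⇑(Oct.Q F)).range := by
  obtain ⟨T, _, q, hr, hK, hc1, hc3, hs1, hss, hscs, hall⟩ := exists_triQuot F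
  have hxs : q x = q (Oct.sRefl F) := ((hr x).1 hx).resolve_left fun h => hx1 ((hK x).1 h)
  have h := congrArg q hn
  rw [map_mul, map_mul, hxs] at h
  have key : ∀ j : ℕ, Commute (q (triCyc F) ^ j) (q (Oct.sRefl F)) → q (triCyc F) ^ j = 1 := by
    intro j hj
    have e : q (Oct.sRefl F) * q (triCyc F) ^ j * q (Oct.sRefl F) = (q (triCyc F) ^ j)⁻¹ := by
      have e' := conj_pow (a := q (Oct.sRefl F)) (b := q (triCyc F)) (i := j)
      rw [inv_eq_of_mul_eq_one_left hss, hscs, inv_pow] at e'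
      exact e'.symm
    rw [← hj.eq, mul_assoc, hss, mul_one, eq_inv_iff_mul_eq_one, ← pow_add, ← two_mul] at e
    have h2 : q (triCyc F) ^ (3 * j) = 1 := by rw [pow_mul, hc3, one_pow]
    rwa [show 3 * j = 2 * j + j by ring, pow_add, e, one_mul] at h2
  refine (hr n).2 ?_
  obtain ⟨j, hj | hj⟩ := hall n
  · exact Or.inl (hj.trans (key j (by rw [← hj]; exact h)))
  · refine Or.inr ?_
    rw [hj, key j ?_, one_mul]
    rw [hj, mul_assoc, hss, mul_one, ← mul_assoc] at h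
    show _ * _ = _ * _
    calc q (triCyc F) ^ j * q (Oct.sRefl F)
        = q (Oct.sRefl F) * q (triCyc F) ^ j * q (Oct.sRefl F) * q (Oct.sRefl F) := by rw [← h]
      _ = _ := by rw [mul_assoc, hss, mul_one]

/-- An automorphism of prime order has a conjugate in the semisimilarities or is a triality element. -/
theorem exists_conj_range {p : ℕ} (hp : p.Prime) (x : MulAut (Oct.G8 F)) (hord : orderOf x = p) :
    (∃ α : MulAut (Oct.G8 F), α * x * α⁻¹ ∈ (autOmega ⇑(Oct.Q F)).range) ∨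
      (p = 3 ∧ x ∉ (autOmega ⇑(Oct.Q F)).range) := by
  obtain ⟨T, _, q, hr, hK, hc1, hc3, hs1, hss, hscs, hall⟩ := exists_triQuot F
  by_cases hx : x ∈ (autOmega ⇑(Oct.Q F)).range
  · exact Or.inl ⟨1, by simpa using hx⟩
  obtain ⟨j, hj | hj⟩ := hall x
  · refine Or.inr ⟨?_, hx⟩
    have h3 : q x ^ 3 = 1 := by rw [hj, ← pow_mul, mul_comm, pow_mul, hc3, one_pow]
    have hp1 : q x ^ p = 1 := by rw [← map_pow, ← hord, pow_orderOf_eq_one, map_one]
    haveI := Fact.mk Nat.prime_three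
    have ho : orderOf (q x) = 3 := orderOf_eq_prime h3 fun h => hx ((hr x).2 (Or.inl h))
    exact ((Nat.prime_dvd_prime_iff_eq Nat.prime_three hp).1 (ho ▸ orderOf_dvd_of_pow_eq_one hp1)).symm
  · refine Or.inl ⟨triCyc F ^ j, (hr _).2 (Or.inr ?_)⟩
    rw [map_mul, map_mul, map_inv, map_pow, hj]
    set c := q (triCyc F)
    set s := q (Oct.sRefl F)
    have e : s * (c ^ j)⁻¹ * s = c ^ j := by
      have e' := conj_pow (a := s) (b := c) (i := j)
      rw [inv_eq_of_mul_eq_one_left hss, hscs, inv_pow] at e'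
      rw [e']
      simp only [mul_assoc]; rw [hss, mul_one, ← mul_assoc, hss, one_mul]
    calc c ^ j * (c ^ j * s) * (c ^ j)⁻¹ = c ^ j * c ^ j * (s * (c ^ j)⁻¹ * s) * s := by
          simp only [mul_assoc, hss, mul_one]
      _ = c ^ (3 * j) * s := by rw [e, ← pow_add, ← pow_add]; congr 2; ring
      _ = s := by rw [pow_mul, hc3, one_pow, one_mul]

end CfsgLib.FgsC.LocalBalance
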