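import Cfsg.Agent.Lib.FgsC.LocalBalance.OrthFieldMinus
import Cfsg.Agent.Lib.FgsC.LocalBalance.OrthMinusMain
import Cfsg.Agent.Lib.FgsC.LocalBalance.OrthRad
import Cfsg.Agent.Lib.FgsC.LocalBalance.PlusOut
import Cfsg.Agent.Lib.Geometry.D4Normal

/-!
Automorphisms of prime order of the plus groups that come from semisimilarities outside the
inner-diagonal group.
-/

set_option autoImplicit false

namespace CfsgLib.FgsC.LocalBalance

open Matrix QuadraticMap CfsgLib.Geometry

universe w in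
/-- A trivial core is invariant under isomorphism. -/
theorem core_bot_congr {G G' : Type w} [Group G] [Group G'] (ψ : G ≃* G') (A : Subgroup (MulAut G))
    (hinn : ∀ k, MulAut.conj k ∈ A) (x : MulAut G) (p : ℕ)
    (h : ∀ A' : Subgroup (MulAut G'), (∀ k, MulAut.conj k ∈ A') →
      Cfsg.pPrimeCore p ↥(A' ⊓ Subgroup.centralizer {MulAut.congr ψ x}) = ⊥) :
    Cfsg.pPrimeCore p ↥(A ⊓ Subgroup.centralizer {x}) = ⊥ := by
  set φ := MulAut.congr ψ with hφ
  have hmap : (A ⊓ Subgroup.centralizer {x}).map φ.toMonoidHom =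
      A.map φ.toMonoidHom ⊓ Subgroup.centralizer {φ x} := by
    rw [Subgroup.map_inf _ _ _ φ.injective]
    congr 1
    ext y
    rw [Subgroup.mem_map, Subgroup.mem_centralizer_singleton_iff]
    constructor
    · rintro ⟨z, hz, rfl⟩
      rw [Subgroup.mem_centralizer_singleton_iff] at hz
      show φ z * φ x = φ x * φ z
      rw [← map_mul, hz, map_mul]
    · intro hy
      refine ⟨φ.symm y, Subgroup.mem_centralizer_singleton_iff.2 (φ.injective ?_), φ.apply_symm_apply y⟩
      rw [map_mul φ (φ.symm y), map_mul φ x, φ.apply_symm_apply]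
      exact hy
  have hinn' : ∀ k, MulAut.conj k ∈ A.map φ.toMonoidHom := fun k =>
    ⟨MulAut.conj (ψ.symm k), hinn _, MulEquiv.ext fun y => by simp [φ, MulAut.congr]⟩
  by_contra hne
  exact (CfsgLib.KnownB.PSpAut.pPrimeCore_ne_bot_congr
    (((A ⊓ Subgroup.centralizer {x}).equivMapOfInjective φ.toMonoidHom φ.injective).trans
      (MulEquiv.subgroupCongr hmap)) p).1 hne (h _ hinn')

/-- A simple group with trivial centre has even order. -/
theorem two_dvd_card {G : Type*} [Group G] [Finite G] [IsSimpleGroup G]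
    (hinj : Function.Injective (MulAut.conj : G →* MulAut G)) : 2 ∣ Nat.card G := by
  by_contra h2
  haveI : Group.IsSolvable G := CfsgLib.FT.isSolvable_of_odd (Nat.not_even_iff_odd.1 fun h => h2 h.two_dvd)
  obtain ⟨g, hg⟩ := exists_ne (1 : G)
  have hc := IsSimpleGroup.comm_iff_isSolvable.2 ‹Group.IsSolvable G›
  refine hg (hinj (MulEquiv.ext fun y => ?_))
  rw [MulAut.conj_apply, hc g y, mul_inv_cancel_right, map_one, MulAut.one_apply]

theorem exists_sim_of_right {ι : Type} [Fintype ι] [DecidableEq ι] {F : Type*} [Field F] {Q : (ι → F) → F}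
    (y : semiSim Q) (h : (y : GammaL ι F).right = 1) : ∃ g, y = simIncl Q g := by
  obtain ⟨c, hc⟩ := y.2
  have e : (y : GammaL ι F) = SemidirectProduct.inl (y : GammaL ι F).left :=
    SemidirectProduct.ext (by simp) (by rw [SemidirectProduct.right_inl]; exact h)
  refine ⟨⟨_, c, fun v => ?_⟩, Subtype.ext e⟩
  have := hc v
  rw [e, slAct_inl, SemidirectProduct.right_inl] at this
  exact this

variable {F : Type*} [Field F] {m : ℕ}

theorem hsem_plus (τ : F ≃+* F) : ∃ y₀ : semiSim ⇑(matQuad (plusMat m F)),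
    (y₀ : GammaL (Fin m ⊕ Fin m) F).right = τ ∧ (τ = 1 → (y₀ : GammaL (Fin m ⊕ Fin m) F).left = 1) :=
  ⟨plusFld m τ, plusFld_right τ, fun _ => SemidirectProduct.left_inr _⟩

variable [Fintype F]

/-- The fixed points of a field automorphism of order two have even number. -/
theorem not_coprime_fix_field (hm : 4 ≤ m) {x : MulAut (Cfsg.POmega F (Cfsg.quadFormPlus m F))}
    (hx : Cfsg.IsFieldAutClassPOmega (Cfsg.quadFormPlus m F) x) (hord : orderOf x = 2) :
    ¬ Nat.Coprime 2 (Nat.card ↥(MonoidHom.eqLocus x.toMonoidHom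
      (MonoidHom.id (Cfsg.POmega F (Cfsg.quadFormPlus m F))))) := by
  classical
  obtain ⟨α, φ, σ, hσ, hφ, he⟩ := exists_plus_data hm hx
  rw [hord] at hσ
  let K := RingHom.eqLocusField (σ : F →+* F) (RingHom.id F)
  haveI : Finite K := Finite.of_injective K.subtype K.subtype.injective
  have hfix : ∀ a, σ a = a ↔ ∃ y, K.subtype y = a :=
    fun a => ⟨fun h => ⟨⟨a, h⟩, rfl⟩, fun ⟨b, hb⟩ => hb ▸ b.2⟩
  have D := fieldHyp_plus (F₀ := K) (emb := K.subtype) hm hfix Nat.prime_two hσ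
  have D₀ := evenHyp_plus (F := K) hm
  haveI := isSimpleGroup_pOmega (matQuad (plusMat m K)) D.nondeg₀ D.five_le
  have h2 := two_dvd_card (conj_pOmega_injective D.nondeg₀ D.five_le)
  have hdvd := (core_criterion_gen D (mem_range_of_comm_innPre D) hsem_plus (square_square_mem D₀)
    (Or.inr h2) ⊤ fun _ => trivial).2
  have hS : (plusSim₀ K.subtype m).autEquiv D.fld = φ := FormSim.ofEq_fld D _ hφ
  intro hcop
  rw [Nat.coprime_two_left, ← Nat.not_even_iff_odd] at hcop
  refine hcop (even_iff_two_dvd.2 ((h2.trans hdvd).trans (dvd_of_eq ?_)))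
  refine Nat.card_congr (Equiv.subtypeEquiv ((plusSim₀ K.subtype m).pomegaEquiv.trans α⁻¹).toEquiv fun k => ?_)
  set ψ := (plusSim₀ K.subtype m).pomegaEquiv
  have hφk : φ (ψ k) = ψ (D.fld k) := by
    rw [← hS]
    show ψ (D.fld (ψ.symm (ψ k))) = _
    rw [ψ.symm_apply_apply]
  show D.fld k = k ↔ x (α⁻¹ (ψ k)) = α⁻¹ (ψ k)
  have hx' : α (x (α⁻¹ (ψ k))) = φ (ψ k) := by rw [← he]; rfl
  constructor
  · intro h
    refine α.injective ?_
    rw [hx', hφk, h]
    exact (α.apply_symm_apply _).symm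
  · intro h
    rw [h] at hx'
    exact ψ.injective (hφk.symm.trans (hx'.symm.trans (α.apply_symm_apply _)))

set_option maxHeartbeats 4000000 in
/-- Odd prime order: the field class and the criterion. -/
theorem odd_order_plus (hm : 4 ≤ m) {p : ℕ} (hp : p.Prime) (hpodd : Odd p)
    (y : semiSim ⇑(matQuad (plusMat m F))) (hord : orderOf (autOmega _ y) = p)
    (hnot : autOmega _ y ∉ (clsSub (plusMat m F) m).map (simAut _))
    (A : Subgroup (MulAut (Cfsg.POmega F (Cfsg.quadFormPlus m F)))) (hinn : ∀ k, MulAut.conj k ∈ A) :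
    Cfsg.IsFieldAutClassPOmega (Cfsg.quadFormPlus m F) ((plusSim F m).autEquiv (autOmega _ y)) ∧
      (Cfsg.pPrimeCore p ↥(A ⊓ Subgroup.centralizer {(plusSim F m).autEquiv (autOmega _ y)}) ≠ ⊥ ↔
        Nat.Coprime p (Nat.card ↥(MonoidHom.eqLocus ((plusSim F m).autEquiv (autOmega _ y)).toMonoidHom
          (MonoidHom.id (Cfsg.POmega F (Cfsg.quadFormPlus m F)))))) := by
  classical
  have E := evenHyp_plus (F := F) hm
  set σ := (y : GammaL (Fin m ⊕ Fin m) F).right with hσ
  have hσ1 : σ ≠ 1 := by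
    intro h
    obtain ⟨g, rfl⟩ := exists_sim_of_right y h
    refine hnot ?_
    obtain ⟨j, hj⟩ := hpodd
    refine ⟨(g * g) ^ (j + 1), pow_mem ((E.mul_mem_iff g g).2 Iff.rfl) _, ?_⟩
    rw [map_pow, map_mul, show simAut _ g = autOmega _ (simIncl _ g) from rfl, ← _root_.sq, ← pow_mul,
      show 2 * (j + 1) = p + 1 by omega, pow_succ, ← hord, pow_orderOf_eq_one, one_mul]
  have hσp : orderOf σ = p := by
    haveI := Fact.mk hp
    refine orderOf_eq_prime ?_ hσ1
    have := ((autOmega_eq_one_iff E.nondeg E.five_le (y ^ p)).1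
      (by rw [map_pow, ← hord, pow_orderOf_eq_one])).1
    rw [SubgroupClass.coe_pow, show ((y : GammaL (Fin m ⊕ Fin m) F) ^ p).right = σ ^ p from
      map_pow SemidirectProduct.rightHom _ p] at this
    exact this
  let K := RingHom.eqLocusField (σ : F →+* F) (RingHom.id F)
  set emb : K →+* F := K.subtype with hemb
  have hfix : ∀ a, σ a = a ↔ ∃ y, emb y = a := fun a => ⟨fun h => ⟨⟨a, h⟩, rfl⟩, fun ⟨b, hb⟩ => hb ▸ b.2⟩
  haveI : Finite K := Finite.of_injective emb emb.injective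
  have D := fieldHyp_plus (emb := emb) hm hfix hp hσp
  have D₀ := evenHyp_plus (F := K) hm
  let T : FormSim ⇑(matQuad (plusMat m F)) ⇑(extForm emb (plusMat m K)) :=
    FormSim.ofEq (by rw [extForm, plusMat_map])
  obtain ⟨z, hzr, hz⟩ := T.exists_semiSim y
  have hTz : T.autEquiv (autOmega _ y) = autOmega _ z := T.autEquiv_autOmega y z hz
  obtain ⟨g, hg⟩ : ∃ g, z * D.base⁻¹ = simIncl ⇑(extForm emb (plusMat m K)) g := exists_sim_of_right _ (by
    rw [Subgroup.coe_mul, Subgroup.coe_inv, SemidirectProduct.mul_right, SemidirectProduct.inv_right, hzr]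
    exact mul_inv_cancel σ)
  set x' := simAut _ g * D.fld with hx'def
  have hx' : T.autEquiv (autOmega _ y) = x' := by
    rw [hTz, hx'def, FieldHyp.fld, simAut, MonoidHom.comp_apply, ← map_mul, ← hg, inv_mul_cancel_right]
  have hord' : orderOf x' = p := by rw [← hx', MulEquiv.orderOf_eq, hord]
  -- it preserves the classes
  have DF := D₀.base emb
  have hgc : g ∈ clsSub ((plusMat m K).map emb) m := by
    by_contra hgn
    have hk : ∀ k : ℕ, ∃ h, x' ^ k = simAut _ h * D.fld ^ k ∧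
        (h ∈ clsSub ((plusMat m K).map emb) m ↔ Even k) := by
      intro k
      induction k with
      | zero => exact ⟨1, by simp, iff_of_true (one_mem _) ⟨0, rfl⟩⟩
      | succ k ih =>
        obtain ⟨h, e, hh⟩ := ih
        refine ⟨g * D.twist h, ?_, ?_⟩
        · calc x' ^ (k + 1) = simAut _ g * (D.fld * simAut _ h * D.fld⁻¹) * (D.fld * D.fld ^ k) := by
                rw [pow_succ', e, hx'def]; group
            _ = _ := by rw [D.fld_conj, ← map_mul, pow_succ']
        · rw [DF.mul_mem_iff, iff_false_left hgn, D.twist_mem_iff D₀, hh, Nat.even_add_one]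
    obtain ⟨h, e, hh⟩ := hk p
    have hfld : D.fld ^ p = 1 := by
      rw [FieldHyp.fld, ← map_pow]
      have : D.base ^ p = 1 := Subtype.ext (by
        rw [SubmonoidClass.coe_pow]
        show SemidirectProduct.inr σ ^ p = 1
        rw [← map_pow, ← hσp, pow_orderOf_eq_one, map_one])
      rw [this, map_one]
    rw [hfld, mul_one, ← hord', pow_orderOf_eq_one] at e
    obtain ⟨c, hc⟩ := (simAut_eq_one_iff DF.nondeg DF.five_le h).1 e.symm
    exact Nat.not_even_iff_odd.2 hpodd (hh.1 ((show h = simScalar _ c from Subtype.ext hc.symm) ▸ DF.scalar_mem c))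
  obtain ⟨α, -, hα⟩ := D.coset_even D₀ _ ⟨g, hgc, rfl⟩ hord'
  set S := plusSim F m
  set ψ : Cfsg.POmega F (Cfsg.quadFormPlus m F) ≃* Cfsg.POmega F ⇑(extForm emb (plusMat m K)) :=
    (S.pomegaEquiv.symm.trans T.pomegaEquiv).trans α⁻¹ with hψ
  have hψx : MulAut.congr ψ (S.autEquiv (autOmega _ y)) = D.fld := by
    have e1 : MulAut.congr ψ (S.autEquiv (autOmega _ y)) = α⁻¹ * T.autEquiv (autOmega _ y) * α := by
      refine MulEquiv.ext fun v => ?_
      simp [ψ, FormSim.autEquiv, MulAut.congr, MulAut.inv_def]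
    rw [e1, hx', hx'def, hα]; group
  constructor
  · refine ⟨ψ.trans (plusSim₀ emb m).pomegaEquiv, (plusSim₀ emb m).autEquiv D.fld, σ, hσ1,
      ofEq_isFieldAut D _, ?_⟩
    refine MulEquiv.ext fun v => ?_
    rw [← hψx]
    simp [FormSim.autEquiv, MulAut.congr, MulAut.inv_def]
  · refine criterion_congr ψ A hinn _ p fun A' hA' => ?_
    rw [hψx]
    exact (core_criterion_gen D (mem_range_of_comm_innPre D) hsem_plus (square_square_mem D₀) (Or.inl hpodd)
      A' hA').1

theorem exists_graph_model' {F₀ : Type*} [Field F₀] {emb : F₀ →+* F} {σ : F ≃+* F} {n : ℕ} (hn : 3 ≤ n)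
    (D : FieldHyp (plusMat (n + 1) F₀) emb σ 2) :
    ∃ (a₀ b₀ : F₀) (_ : ∀ z₁ z₂ : F₀, z₁ ^ 2 + a₀ * z₁ * z₂ + b₀ * z₂ ^ 2 = 0 → z₁ = 0 ∧ z₂ = 0)
      (D' : FieldHyp (minusMat n F₀ a₀ b₀) emb σ 2)
      (T : FormSim ⇑(extForm emb (minusMat n F₀ a₀ b₀)) ⇑(extForm emb (plusMat (n + 1) F₀)))
      (g : Cfsg.Geo.quadSimilarityGroup ⇑(extForm emb (plusMat (n + 1) F₀))),
      g ∉ clsSub ((plusMat (n + 1) F₀).map emb) (n + 1) ∧ T.autEquiv D'.fld = simAut _ g * D.fld := by
  haveI := D.finite₀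
  haveI := Fintype.ofFinite F₀
  have D₀ := evenHyp_plus (F := F₀) (show 4 ≤ n + 1 by omega)
  obtain ⟨v, hv, g, a, P, M₁, β, -, hM₁, hPQ, hP, hg, hns⟩ := D.exists_other D₀ rfl
  rcases isSimTo_even (matQuad M₁) hM₁ (m := n) (by simp; omega) with p | ⟨a₀, b₀, hab, p⟩
  · rw [← coe_matQuad_plus] at p
    exact absurd p hns
  rw [← coe_matQuad_minus] at p
  obtain ⟨T₀, t, ht, hT₀⟩ := p
  obtain ⟨E, hE, hEσ⟩ := exists_map_sim emb T₀ hT₀
  have D' : FieldHyp (minusMat n F₀ a₀ b₀) emb σ 2 :=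
    ⟨(evenHyp_minus (show 3 ≤ n by omega) hab).det_ne, by simp; omega, D.fix, D.prime, D.order⟩
  set T : FormSim ⇑(extForm emb (minusMat n F₀ a₀ b₀)) ⇑(extForm emb (plusMat (n + 1) F₀)) :=
    ⟨E.trans (glEquiv P), β * Units.mk0 (emb t) ((map_ne_zero emb).2 ht), fun w => by
      rw [LinearEquiv.trans_apply, glEquiv_apply, hPQ, hE, Units.val_mul, Units.val_mk0, mul_assoc]⟩
  refine ⟨a₀, b₀, hab, D', T, g, hg, ?_⟩
  rw [FieldHyp.fld, FieldHyp.fld, simAut, MonoidHom.comp_apply, ← map_mul]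
  refine T.autEquiv_autOmega _ _ fun w => ?_
  show slAct (SemidirectProduct.inl (g : GL _ F) * SemidirectProduct.inr σ) ((glEquiv P) (E w)) =
    (glEquiv P) (E (slAct (SemidirectProduct.inr σ) w))
  rw [slAct_mul, slAct_inl, slAct_inr, slAct_inr, glEquiv_apply, glEquiv_apply, hEσ σ D.fix' w, map_mulVec',
    mulVec_mulVec, ← glAut_coe, ← Units.val_mul, hP]

set_option maxHeartbeats 4000000 in
/-- Order two: the core is trivial. -/
theorem two_order_plus (hm : 4 ≤ m) (h2 : (2 : F) ≠ 0)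
    (y : semiSim ⇑(matQuad (plusMat m F))) (hord : orderOf (autOmega _ y) = 2)
    (hnot : autOmega _ y ∉ (clsSub (plusMat m F) m).map (simAut _))
    (A : Subgroup (MulAut (Cfsg.POmega F ⇑(matQuad (plusMat m F))))) (hinn : ∀ k, MulAut.conj k ∈ A) :
    Cfsg.pPrimeCore 2 ↥(A ⊓ Subgroup.centralizer {autOmega _ y}) = ⊥ := by
  classical
  have E := evenHyp_plus (F := F) hm
  set σ := (y : GammaL (Fin m ⊕ Fin m) F).right with hσ
  by_cases hσ1 : σ = 1
  · obtain ⟨g, rfl⟩ := exists_sim_of_right y hσ1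
    have hg : g ∉ clsSub (plusMat m F) m := fun h => hnot ⟨g, h, rfl⟩
    refine core_outer_involution_lin (E.simHyp h2) hm g hord
      (fun h => hg ((E.mem_clsSub_odd h2 g).2 h)) (fun n hn => ?_) A hinn
    rcases Nat.lt_or_ge 4 m with h5 | h5
    · have hΓ := gammaPOmega_plus_eq_top (F := F) h5
      rw [← coe_matQuad_plus] at hΓ
      rw [← gammaPOmega_eq, hΓ]; trivial
    · obtain rfl : m = 4 := le_antisymm h5 hm
      refine mem_range_of_comm (x := simAut _ g) ⟨_, rfl⟩ ?_ hn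
      rintro ⟨_, ⟨g', hg', rfl⟩, τ, he⟩
      have h1 : outOf (plusMat 4 F) ((simIncl _ g' * plusFld 4 τ)⁻¹ * simIncl _ g) = 1 := by
        rw [map_mul, map_inv, inv_mul_eq_one, map_mul, outOf_simIncl]
        exact he.symm
      have h2' := Oct.right_eq_one_of_out h1
      rw [Subgroup.coe_mul, Subgroup.coe_inv, Subgroup.coe_mul, SemidirectProduct.mul_right,
        SemidirectProduct.inv_right, SemidirectProduct.mul_right, plusFld_right,
        show ((simIncl _ g' : semiSim ⇑(matQuad (plusMat 4 F))) : GammaL (Fin 4 ⊕ Fin 4) F).right = 1 from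
          SemidirectProduct.right_inl _,
        show ((simIncl _ g : semiSim ⇑(matQuad (plusMat 4 F))) : GammaL (Fin 4 ⊕ Fin 4) F).right = 1 from
          SemidirectProduct.right_inl _, one_mul, mul_one, inv_eq_one] at h2'
      subst h2'
      have h3 : Oct.Phi8 (1 : F ≃+* F) = 1 := by
        rw [Oct.Phi8, show plusFld 4 (1 : F ≃+* F) = 1 from Subtype.ext (map_one _), map_one]
      rw [h3, mul_one] at he
      have h4 := Oct.mem_cls_of_out (g := g'⁻¹ * g) (by rw [map_mul, map_inv, inv_mul_eq_one]; exact he.symm)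
      exact hg (by simpa using mul_mem hg' h4)
  have hσp : orderOf σ = 2 := by
    refine orderOf_eq_prime ?_ hσ1
    have := ((autOmega_eq_one_iff E.nondeg E.five_le (y ^ 2)).1
      (by rw [map_pow, ← hord, pow_orderOf_eq_one])).1
    rw [SubgroupClass.coe_pow, show ((y : GammaL (Fin m ⊕ Fin m) F) ^ 2).right = σ ^ 2 from
      map_pow SemidirectProduct.rightHom _ 2] at this
    exact this
  let K := RingHom.eqLocusField (σ : F →+* F) (RingHom.id F)
  set emb : K →+* F := K.subtype with hemb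
  have hfix : ∀ a, σ a = a ↔ ∃ y, emb y = a := fun a => ⟨fun h => ⟨⟨a, h⟩, rfl⟩, fun ⟨b, hb⟩ => hb ▸ b.2⟩
  haveI : Finite K := Finite.of_injective emb emb.injective
  haveI := Fintype.ofFinite K
  have D := fieldHyp_plus (emb := emb) hm hfix Nat.prime_two hσp
  have D₀ := evenHyp_plus (F := K) hm
  let T : FormSim ⇑(matQuad (plusMat m F)) ⇑(extForm emb (plusMat m K)) :=
    FormSim.ofEq (by rw [extForm, plusMat_map])
  obtain ⟨z, hzr, hz⟩ := T.exists_semiSim y
  have hTz : T.autEquiv (autOmega _ y) = autOmega _ z := T.autEquiv_autOmega y z hz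
  obtain ⟨g, hg⟩ : ∃ g, z * D.base⁻¹ = simIncl ⇑(extForm emb (plusMat m K)) g := exists_sim_of_right _ (by
    rw [Subgroup.coe_mul, Subgroup.coe_inv, SemidirectProduct.mul_right, SemidirectProduct.inv_right, hzr]
    exact mul_inv_cancel σ)
  have hx' : T.autEquiv (autOmega _ y) = simAut _ g * D.fld := by
    rw [hTz, FieldHyp.fld, simAut, MonoidHom.comp_apply, ← map_mul, ← hg, inv_mul_cancel_right]
  have hord' : orderOf (simAut _ g * D.fld) = 2 := by rw [← hx', MulEquiv.orderOf_eq, hord]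
  refine core_bot_congr T.pomegaEquiv A hinn _ 2 fun A' hA' => ?_
  rw [show MulAut.congr T.pomegaEquiv (autOmega _ y) = T.autEquiv (autOmega _ y) from rfl, hx']
  by_cases hgc : g ∈ clsSub ((plusMat m K).map emb) m
  · obtain ⟨α, -, hα⟩ := D.coset_even D₀ _ ⟨g, hgc, rfl⟩ hord'
    refine core_centralizer_conj α⁻¹ _ A' 2 hA' fun A'' hA'' => ?_
    rw [show α⁻¹ * (simAut _ g * D.fld) * α⁻¹⁻¹ = D.fld by rw [hα]; group]
    haveI := isSimpleGroup_pOmega (matQuad (plusMat m K)) D.nondeg₀ D.five_le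
    have hd := two_dvd_card (conj_pOmega_injective D.nondeg₀ D.five_le)
    obtain ⟨hc, hdvd⟩ := core_criterion_gen D (mem_range_of_comm_innPre D) hsem_plus (square_square_mem D₀)
      (Or.inr hd) A'' hA''
    by_contra hne
    exact Nat.not_even_iff_odd.2 (Nat.coprime_two_left.1 (hc.1 hne)) (even_iff_two_dvd.2 (hd.trans hdvd))
  obtain ⟨n, rfl⟩ : ∃ n, m = n + 1 := ⟨m - 1, by omega⟩
  have hn : 3 ≤ n := by omega
  obtain ⟨a₀, b₀, hab, D', T', g₁, hg₁, hT'⟩ := exists_graph_model' hn D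
  have E₁ := D₀.base emb
  have E₂ := (evenHyp_minus hn hab).base emb
  set d := T'.autEquiv.symm (simAut _ (g * g₁⁻¹)) with hd'
  have hd : d ∈ (clsSub ((minusMat n K a₀ b₀).map emb) (n + 1)).map (simAut _) := by
    obtain ⟨u, hu, hue⟩ := (T'.map_inndiag E₂ E₁).ge ⟨_, E₁.mul_mem_of_not hgc hg₁, rfl⟩
    rw [hd', ← hue]
    simpa using hu
  have hx'' : T'.autEquiv.symm (simAut _ g * D.fld) = d * D'.fld := by
    rw [show simAut _ g * D.fld = simAut _ (g * g₁⁻¹) * T'.autEquiv D'.fld by rw [hT', map_mul, map_inv]; group,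
      map_mul, MulEquiv.symm_apply_apply]
  obtain ⟨α, -, hα⟩ := D'.coset_even (evenHyp_minus hn hab) d hd (by rw [← hx'', MulEquiv.orderOf_eq, hord'])
  refine core_bot_congr T'.pomegaEquiv.symm A' hA' _ 2 fun A'' hA'' => ?_
  rw [show MulAut.congr T'.pomegaEquiv.symm (simAut _ g * D.fld) = T'.autEquiv.symm (simAut _ g * D.fld) from rfl,
    hx'']
  refine core_centralizer_conj α⁻¹ _ A'' 2 hA'' fun A₃ hA₃ => ?_
  rw [show α⁻¹ * (d * D'.fld) * α⁻¹⁻¹ = D'.fld by rw [hα]; group]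
  haveI := isSimpleGroup_pOmega (matQuad (minusMat n K a₀ b₀)) D'.nondeg₀ D'.five_le
  have hd2 := two_dvd_card (conj_pOmega_injective D'.nondeg₀ D'.five_le)
  obtain ⟨hc, hdvd⟩ := core_criterion_gen D' (mem_range_of_comm_innPre D') (exists_semiSim_minus n hab)
    (square_square_mem (evenHyp_minus hn hab)) (Or.inr hd2) A₃ hA₃
  by_contra hne
  exact Nat.not_even_iff_odd.2 (Nat.coprime_two_left.1 (hc.1 hne)) (even_iff_two_dvd.2 (hd2.trans hdvd))

end CfsgLib.FgsC.LocalBalance
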