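import Cfsg.Agent.Lib.FgsC.LocalBalance.OrthBlock
import Mathlib.Algebra.QuadraticAlgebra.Basic
import Mathlib.Data.Matrix.Composition

/-!
The centraliser of a graph involution given by a square root of a nonsquare.
-/

set_option autoImplicit false

namespace CfsgLib.FgsC.LocalBalance

open Matrix QuadraticMap CfsgLib.Geometry CfsgLib.KnownB.PSLAut

variable {F : Type*} [Field F] {k : ℕ}

/-- The regular representation of `F[√c]`. -/
def quadRep (c : F) : QuadraticAlgebra F c 0 →+* Matrix (Fin 2) (Fin 2) F where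
  toFun z := !![z.re, c * z.im; z.im, z.re]
  map_one' := by ext i j; fin_cases i <;> fin_cases j <;> simp [QuadraticAlgebra.re_one, QuadraticAlgebra.im_one]
  map_mul' z w := by
    ext i j
    fin_cases i <;> fin_cases j <;> simp [Matrix.mul_apply, Fin.sum_univ_two] <;> ring
  map_zero' := by ext i j; fin_cases i <;> fin_cases j <;> simp
  map_add' z w := by
    ext i j
    fin_cases i <;> fin_cases j <;> simp <;> ring

/-- Matrices over `F[√c]` as matrices over `F`. -/
def quadMat (c : F) (k : ℕ) : Matrix (Fin k) (Fin k) (QuadraticAlgebra F c 0) →+* Matrix (Fin k × Fin 2) (Fin k × Fin 2) F :=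
  ((Matrix.compRingEquiv (Fin k) (Fin 2) F).toRingHom).comp (quadRep c).mapMatrix

theorem quadMat_apply (c : F) (S : Matrix (Fin k) (Fin k) (QuadraticAlgebra F c 0)) (p q : Fin k × Fin 2) :
    quadMat c k S p q = quadRep c (S p.1 q.1) p.2 q.2 := rfl

/-- The square root of `c` in the coordinates. -/
def quadRoot (c : F) (k : ℕ) : Matrix (Fin k × Fin 2) (Fin k × Fin 2) F :=
  Matrix.of fun p q => if p.1 = q.1 then (!![0, c; 1, 0] : Matrix (Fin 2) (Fin 2) F) p.2 q.2 else 0

/-- The diagonal intertwining transposition. -/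
def quadDiag (c : F) (k : ℕ) : Matrix (Fin k × Fin 2) (Fin k × Fin 2) F := diagonal fun p => ![1, c] p.2

theorem quadRoot_eq (c : F) :
    quadRoot c k = quadMat c k (diagonal fun _ => (⟨0, 1⟩ : QuadraticAlgebra F c 0)) := by
  ext p q
  rw [quadMat_apply]
  by_cases h : p.1 = q.1
  · rw [show (diagonal fun _ => (⟨0, 1⟩ : QuadraticAlgebra F c 0)) p.1 q.1 = ⟨0, 1⟩ by rw [h, diagonal_apply_eq]]
    obtain ⟨i, s⟩ := p; obtain ⟨j, t⟩ := q
    simp only at h
    subst h
    fin_cases s <;> fin_cases t <;> simp [quadRoot, quadRep]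
  · rw [diagonal_apply_ne _ h, map_zero]
    simp [quadRoot, h]

theorem quadMat_injective (c : F) : Function.Injective (quadMat c k) := fun S T h => by
  ext i j
  · simpa [quadMat_apply, quadRep] using congrFun (congrFun h (i, 0)) (j, 0)
  · simpa [quadMat_apply, quadRep] using congrFun (congrFun h (i, 1)) (j, 0)

theorem quadMat_smul_one (c a : F) :
    quadMat c k ((algebraMap F (QuadraticAlgebra F c 0) a) • 1) = a • 1 := by
  ext p q
  obtain ⟨i, s⟩ := p; obtain ⟨j, t⟩ := q
  rw [quadMat_apply, Matrix.smul_apply]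
  by_cases h : i = j
  · subst h
    fin_cases s <;> fin_cases t <;> simp [quadRep, Matrix.one_apply]
  · simp [Matrix.one_apply, h, Prod.mk_inj, quadRep]
    fin_cases s <;> fin_cases t <;> simp

theorem quadMat_rat (c : F) (R : Matrix (Fin k) (Fin k) F) (p q : Fin k × Fin 2) :
    quadMat c k (R.map (algebraMap F (QuadraticAlgebra F c 0))) p q = if p.2 = q.2 then R p.1 q.1 else 0 := by
  obtain ⟨i, s⟩ := p; obtain ⟨j, t⟩ := q
  rw [quadMat_apply]
  fin_cases s <;> fin_cases t <;> simp [quadRep]

theorem quadMat_transpose (c : F) (S : Matrix (Fin k) (Fin k) (QuadraticAlgebra F c 0)) :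
    (quadMat c k S)ᵀ * quadDiag c k = quadDiag c k * quadMat c k Sᵀ := by
  ext p q
  obtain ⟨i, s⟩ := p; obtain ⟨j, t⟩ := q
  rw [quadDiag, mul_diagonal, diagonal_mul, transpose_apply, quadMat_apply, quadMat_apply, transpose_apply]
  fin_cases s <;> fin_cases t <;> simp [quadRep] <;> ring

theorem quadMat_of_commute (c : F) {X : Matrix (Fin k × Fin 2) (Fin k × Fin 2) F} (h : X * quadRoot c k = quadRoot c k * X) :
    quadMat c k (Matrix.of fun i j => (⟨X (i, 0) (j, 0), X (i, 1) (j, 0)⟩ : QuadraticAlgebra F c 0)) = X := by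
  have e : ∀ i j s, (X * quadRoot c k) (i, s) (j, 0) = X (i, s) (j, 1) := fun i j s => by
    rw [Matrix.mul_apply, Finset.sum_eq_single (j, 1)]
    · simp [quadRoot]
    · rintro ⟨a, b⟩ - hne
      by_cases ha : a = j
      · subst ha
        fin_cases b
        · simp [quadRoot]
        · simp at hne
      · simp [quadRoot, ha]
    · simp
  have e0 : ∀ i j, (quadRoot c k * X) (i, 0) (j, 0) = c * X (i, 1) (j, 0) := fun i j => by
    rw [Matrix.mul_apply, Finset.sum_eq_single (i, 1)]
    · simp [quadRoot]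
    · rintro ⟨a, b⟩ - hne
      by_cases ha : i = a
      · subst ha
        fin_cases b
        · simp [quadRoot]
        · simp at hne
      · simp [quadRoot, ha]
    · simp
  have e1 : ∀ i j, (quadRoot c k * X) (i, 1) (j, 0) = X (i, 0) (j, 0) := fun i j => by
    rw [Matrix.mul_apply, Finset.sum_eq_single (i, 0)]
    · simp [quadRoot]
    · rintro ⟨a, b⟩ - hne
      by_cases ha : i = a
      · subst ha
        fin_cases b
        · simp at hne
        · simp [quadRoot]
      · simp [quadRoot, ha]
    · simp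
  ext p q
  obtain ⟨i, s⟩ := p; obtain ⟨j, t⟩ := q
  rw [quadMat_apply]
  fin_cases s <;> fin_cases t <;> simp [quadRep]
  · rw [← e i j 0, h, e0]
  · rw [← e i j 1, h, e1]

variable [Finite F]
variable {ι : Type} [Fintype ι] [DecidableEq ι] {M : Matrix ι ι F}

set_option maxHeartbeats 2000000 in
/-- No odd core in the centraliser of an involution given by a square root of a nonsquare. -/
theorem core_quad (h2 : (2 : F) ≠ 0) (hd : (M + Mᵀ).det ≠ 0) (hn : 5 ≤ Fintype.card ι)
    {c : F} (hc : ¬ IsSquare c) (hk : 4 ≤ k)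
    (C : Coord M (Fin k × Fin 2)) {s : QuadraticAlgebra F c 0} (hs : s ≠ 0)
    (hG : C.form = quadDiag c k * quadMat c k (s • 1))
    (x : Cfsg.Geo.quadSimilarityGroup ⇑(matQuad M))
    (hrng : ∀ n, n * simAut _ x = simAut _ x * n → n ∈ (autOmega ⇑(matQuad M)).range)
    (hX : C.pull ((x : GL ι F) : Matrix ι ι F) = quadRoot c k)
    (A : Subgroup (MulAut (Cfsg.POmega F ⇑(matQuad M)))) (hinn : ∀ k, MulAut.conj k ∈ A) :
    Cfsg.pPrimeCore 2 ↥(A ⊓ Subgroup.centralizer {simAut _ x}) = ⊥ := by
  classical
  haveI : Fact (∀ r : F, r ^ 2 ≠ c + 0 * r) := ⟨fun r hr => hc ⟨r, by linear_combination -hr⟩⟩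
  haveI : Finite (QuadraticAlgebra F c 0) := Module.finite_of_finite F
  have h2K : (2 : QuadraticAlgebra F c 0) ≠ 0 := fun h => h2 (by
    have h' : algebraMap F (QuadraticAlgebra F c 0) 2 = algebraMap F (QuadraticAlgebra F c 0) 0 := by
      rw [map_ofNat, h, map_zero]
    exact (algebraMap F (QuadraticAlgebra F c 0)).injective h')
  have hc0 : c ≠ 0 := fun h => hc (h ▸ IsSquare.zero)
  haveI : Finite (MulAut (Cfsg.POmega F ⇑(matQuad M))) := Finite.of_injective _ DFunLike.coe_injective
  set Φ := quadMat c k with hΦ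
  set X' : Matrix (Fin k × Fin 2) (Fin k × Fin 2) F := quadRoot c k with hX'
  have hroot : X' = Φ (diagonal fun _ => (⟨0, 1⟩ : QuadraticAlgebra F c 0)) := quadRoot_eq c
  have hDinv : ∀ {U V : Matrix (Fin k × Fin 2) (Fin k × Fin 2) F}, quadDiag c k * U = quadDiag c k * V → U = V := by
    intro U V h
    ext p q
    have := congrFun (congrFun h p) q
    simp only [quadDiag, diagonal_mul] at this
    refine mul_left_cancel₀ ?_ this
    obtain ⟨i, t⟩ := p
    fin_cases t <;> simp [hc0]
  -- lifts
  have up : ∀ S : Matrix (Fin k) (Fin k) (QuadraticAlgebra F c 0), Sᵀ * S = 1 →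
      ∃ w ∈ C.cent X', (w : Matrix (Fin k × Fin 2) (Fin k × Fin 2) F) = Φ S := by
    intro S hS
    have h1 : Φ Sᵀ * Φ S = 1 := by rw [← map_mul, hS, map_one]
    refine ⟨⟨Φ S, Φ Sᵀ, mul_eq_one_comm.1 h1, h1⟩, ⟨?_, ?_⟩, rfl⟩
    · show (Φ S)ᵀ * C.form * Φ S = C.form
      rw [hG, ← Matrix.mul_assoc, quadMat_transpose, Matrix.mul_assoc, Matrix.mul_assoc, ← map_mul, ← map_mul,
        Matrix.smul_mul, Matrix.one_mul, Matrix.mul_smul, hS]
    · show Φ S * X' = X' * Φ S
      rw [hroot, ← map_mul, ← map_mul]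
      congr 1
      ext i j : 1
      rw [mul_diagonal, diagonal_mul, mul_comm]
  -- projection
  let un : Matrix (Fin k × Fin 2) (Fin k × Fin 2) F → Matrix (Fin k) (Fin k) (QuadraticAlgebra F c 0) := fun X =>
    Matrix.of fun i j => ⟨X (i, 0) (j, 0), X (i, 1) (j, 0)⟩
  have hun : ∀ g : ↥(C.cent X'), Φ (un ((g : GL (Fin k × Fin 2) F) : Matrix (Fin k × Fin 2) (Fin k × Fin 2) F)) = ((g : GL (Fin k × Fin 2) F) : Matrix (Fin k × Fin 2) (Fin k × Fin 2) F) := fun g =>
    quadMat_of_commute c g.2.2
  have horth : ∀ g : ↥(C.cent X'), (un ((g : GL (Fin k × Fin 2) F) : Matrix (Fin k × Fin 2) (Fin k × Fin 2) F))ᵀ * un ((g : GL (Fin k × Fin 2) F) : Matrix (Fin k × Fin 2) (Fin k × Fin 2) F) = 1 := by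
    intro g
    set S := un ((g : GL (Fin k × Fin 2) F) : Matrix (Fin k × Fin 2) (Fin k × Fin 2) F) with hS
    have h := g.2.1
    rw [← hun g, ← hS, hG, ← Matrix.mul_assoc, quadMat_transpose, Matrix.mul_assoc, Matrix.mul_assoc, ← map_mul,
      ← map_mul, Matrix.smul_mul, Matrix.one_mul, Matrix.mul_smul] at h
    exact smul_right_injective _ hs (quadMat_injective c (hDinv h))
  let f : ↥(C.cent X') →* Matrix (Fin k) (Fin k) (QuadraticAlgebra F c 0) :=
    { toFun := fun g => un ((g : GL (Fin k × Fin 2) F) : Matrix (Fin k × Fin 2) (Fin k × Fin 2) F)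
      map_one' := quadMat_injective c (by rw [← hΦ, hun 1, map_one]; rfl)
      map_mul' := fun g g' => quadMat_injective c (by rw [← hΦ, hun, map_mul, hun, hun]; rfl) }
  refine core_eq_bot_of _ A hinn ?_ ?_
  · intro Y hYJ hodd hcomm hnorm
    rw [Subgroup.eq_bot_iff_forall]
    intro y hy
    obtain ⟨g, hg⟩ := C.exists_act_of_inn h2 hd hn x hX hc0 (by
      rw [hroot, ← map_mul, ← quadMat_smul_one c c, diagonal_mul_diagonal, Matrix.smul_one_eq_diagonal]
      congr 2
      funext i
      ext <;> simp) (hYJ hy)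
    have hgY : C.act h2 X' g ∈ Y := hg ▸ Y.mul_mem hy hy
    obtain ⟨l, hl0, hl⟩ := block_scalar h2K (by omega : 3 ≤ k) (C.act h2 X') f.toHomUnits Y hodd hcomm
      (fun w hw => by
        obtain ⟨e, he0, he⟩ := C.act_eq_one h2 hd hn hw
        refine ⟨algebraMap F _ e, (map_ne_zero _).2 he0, quadMat_injective c ?_⟩
        rw [quadMat_smul_one, ← he]
        exact hun w)
      (fun w => by simpa [TIso, f] using horth w)
      (fun h _ hh => by
        obtain ⟨w, hw, hw'⟩ := up _ (show (h : Matrix (Fin k) (Fin k) (QuadraticAlgebra F c 0))ᵀ * h = 1 by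
          simpa [TIso] using hh)
        refine ⟨⟨w, hw⟩, Units.ext (quadMat_injective c ?_), fun z hz => hnorm _ (C.act_comm h2 x hX _) z hz⟩
        exact (hun ⟨w, hw⟩).trans hw')
      g hgY
    change un ((g : GL (Fin k × Fin 2) F) : Matrix (Fin k × Fin 2) (Fin k × Fin 2) F) = l • 1 at hl
    have hgg : g * g = 1 := by
      refine Subtype.ext (Units.ext ?_)
      have h := horth g
      rw [hl, transpose_smul, transpose_one] at h
      rw [Subgroup.coe_mul, Units.val_mul, ← hun g, hl, ← map_mul, h, map_one]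
      rfl
    have h4 : y * y * (y * y) = 1 := by rw [← hg, ← map_mul, hgg, map_one]
    exact eq_one_of_sq hodd hy (eq_one_of_sq hodd (Y.mul_mem hy hy) h4)
  · intro n hnC hno hnJ
    haveI : Nonempty (Fin k × Fin 2) := ⟨(⟨0, by omega⟩, 0)⟩
    refine C.odd_centralizer_trivial h2 hd hn x hrng hX ?_ (Subgroup.mem_centralizer_singleton_iff.1 hnC) hno hnJ
    rintro z θ N hN hθN ⟨Z, hZ⟩ hrel hinv hform hcom
    have rat : ∀ R : Matrix (Fin k) (Fin k) F, Rᵀ * R = 1 →
        ∃ w ∈ C.cent X', ∀ p q, ((w : Matrix (Fin k × Fin 2) (Fin k × Fin 2) F) * (w : Matrix (Fin k × Fin 2) (Fin k × Fin 2) F)) p q = if p.2 = q.2 then (R * R) p.1 q.1 else 0 := by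
      intro R hR
      obtain ⟨w, hw, hw'⟩ := up (R.map (algebraMap F (QuadraticAlgebra F c 0)))
        (by rw [← transpose_map, ← Matrix.map_mul, hR, Matrix.map_one _ (map_zero _) (map_one _)])
      refine ⟨w, hw, fun p q => ?_⟩
      rw [hw', ← map_mul, ← Matrix.map_mul, quadMat_rat]
    -- block diagonal
    have hoff : ∀ p q : Fin k × Fin 2, p.1 ≠ q.1 → z p q = 0 := by
      intro p q hpq
      obtain ⟨j, hjp, hjq⟩ := third (by omega : 3 ≤ k) p.1 q.1
      obtain ⟨R, hR, hRR⟩ := exists_sign_square (F := F) hjp.symm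
      obtain ⟨w, hw, hW⟩ := rat R hR
      set η : Fin k × Fin 2 → F := fun r => if r.1 = p.1 ∨ r.1 = j then -1 else 1 with hη
      have hWd : (w : Matrix (Fin k × Fin 2) (Fin k × Fin 2) F) * (w : Matrix (Fin k × Fin 2) (Fin k × Fin 2) F) = diagonal η := by
        ext r r'
        rw [hW, hRR]
        obtain ⟨i, a⟩ := r; obtain ⟨i', a'⟩ := r'
        by_cases h1 : i = i' <;> by_cases h3 : a = a' <;> simp [diagonal, η, h1, h3]
      have hpm : ∀ r, η r = 1 ∨ η r = -1 := fun r => by simp only [η]; split_ifs <;> simp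
      have h := hinv w hw (fun ρ => by
        rw [hWd, diagonal_map (map_zero ρ)]
        congr 1
        funext r
        rcases hpm r with e | e <;> simp [e]) (by
        rw [hWd, diagonal_mul_diagonal, ← diagonal_one]
        congr 1
        funext r
        rcases hpm r with e | e <;> simp [e])
      rw [hWd] at h
      have := congrFun (congrFun h p) q
      rw [mul_diagonal, diagonal_mul, show η p = -1 by simp [η], show η q = 1 by simp [η, hpq.symm, hjq.symm]] at this
      exact (mul_eq_zero.1 (show (2 : F) * z p q = 0 by linear_combination this)).resolve_left h2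
    let T : Fin k → Matrix (Fin 2) (Fin 2) F := fun i => Matrix.of fun a b => z (i, a) (i, b)
    have hT0 : ∀ i, T i ≠ 0 := by
      intro i h0
      have := congrFun (congrFun hZ (i, 0)) (i, 0)
      rw [Matrix.mul_apply, Finset.sum_eq_zero, Matrix.one_apply_eq] at this
      · exact zero_ne_one this
      rintro ⟨j, b⟩ -
      by_cases hij : i = j
      · subst hij
        have : T i 0 b = 0 := by rw [h0]; rfl
        simp only [T, Matrix.of_apply] at this
        rw [this, zero_mul]
      · rw [hoff _ _ hij, zero_mul]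
    -- relations
    have hTrel : ∀ R : Matrix (Fin k) (Fin k) F, Rᵀ * R = 1 → (4 ≤ k → ∃ q, (R * R) q q = 1) →
        ∀ p q, θ ((R * R) p q) • T p = (R * R) p q • T q := by
      intro R hR hq
      obtain ⟨q₀, hq₀⟩ := hq hk
      obtain ⟨w, hw, hW⟩ := rat R hR
      obtain ⟨l, hl⟩ := hrel w hw
      have e : ∀ p q (a b : Fin 2), T p a b * θ ((R * R) p q) = l * ((R * R) p q * T q a b) := by
        intro p q a b
        have h := congrFun (congrFun hl (p, a)) (q, b)
        rw [Matrix.mul_apply, Matrix.smul_apply, Matrix.mul_apply, Finset.sum_eq_single (p, b),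
          Finset.sum_eq_single (q, a)] at h
        · simpa [Matrix.map_apply, hW, T] using h
        · rintro ⟨j, c'⟩ - hne
          by_cases hj : j = q
          · subst hj
            rw [hW]
            have : ¬ (a = c') := fun h' => hne (by rw [h'])
            simp [this]
          · rw [hoff (j, c') (q, b) hj, mul_zero]
        · simp
        · rintro ⟨j, c'⟩ - hne
          by_cases hj : p = j
          · subst hj
            rw [Matrix.map_apply, hW]
            have : ¬ (c' = b) := fun h' => hne (by rw [h'])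
            simp [this]
          · rw [hoff (p, a) (j, c') hj, zero_mul]
        · simp
      have hl1 : l = 1 := by
        by_contra hne
        refine hT0 q₀ ?_
        ext a b
        have h := e q₀ q₀ a b
        rw [hq₀, map_one, mul_one, one_mul] at h
        exact (mul_eq_zero.1 (show (1 - l) * T q₀ a b = 0 by linear_combination h)).resolve_left
          (sub_ne_zero.2 (Ne.symm hne))
      intro p q
      ext a b
      have h := e p q a b
      rw [hl1, one_mul] at h
      simp only [Matrix.smul_apply, smul_eq_mul]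
      linear_combination h
    obtain ⟨hconst, hfix⟩ := block_relation (by omega : 3 ≤ k) h2 θ T hTrel
    have hθ : θ = 1 := eq_one_of_circle h2 θ hN hθN (hfix ⟨⟨0, by omega⟩, hT0 _⟩)
    obtain ⟨l, hl⟩ := hcom hθ
    set i₀ : Fin k := ⟨0, by omega⟩ with hi₀
    set T₀ := T i₀ with hT₀
    have hzT : ∀ i j (a b : Fin 2), z (i, a) (j, b) = if i = j then T₀ a b else 0 := by
      intro i j a b
      split_ifs with h
      · subst h
        rw [hT₀, ← hconst i i₀]
        rfl
      · exact hoff _ _ h
    set J₂ : Matrix (Fin 2) (Fin 2) F := !![0, c; 1, 0] with hJ₂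
    have hTJ : T₀ * J₂ = l • (J₂ * T₀) := by
      ext a b
      have h := congrFun (congrFun hl (i₀, a)) (i₀, b)
      rw [Matrix.mul_apply, Matrix.smul_apply, Matrix.mul_apply, Fintype.sum_prod_type, Fintype.sum_prod_type,
        Finset.sum_eq_single i₀, Finset.sum_eq_single i₀] at h
      · rw [Matrix.smul_apply, Matrix.mul_apply, Matrix.mul_apply]
        simpa [hzT, hX', quadRoot, hJ₂, Fin.sum_univ_two] using h
      · intro j _ hj; simp [hzT, hj]
      · simp
      · intro j _ hj; simp [hzT, hj.symm]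
      · simp
    have hl2 : l * l = 1 := by
      have h3 : c • T₀ = (l * l) • (c • T₀) := by
        have hJJ : J₂ * J₂ = c • 1 := by
          ext a b; fin_cases a <;> fin_cases b <;> simp [J₂, Matrix.mul_apply, Fin.sum_univ_two]
        calc c • T₀ = T₀ * (J₂ * J₂) := by rw [hJJ, Matrix.mul_smul, Matrix.mul_one]
          _ = (l * l) • (J₂ * J₂ * T₀) := by
            rw [← Matrix.mul_assoc, hTJ, Matrix.smul_mul, Matrix.mul_assoc, hTJ, Matrix.mul_smul, smul_smul,
              Matrix.mul_assoc]
          _ = _ := by rw [hJJ, Matrix.smul_mul, Matrix.one_mul]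
      have h4 : (l * l - 1) • (c • T₀) = 0 := by rw [sub_smul, one_smul, ← h3, sub_self]
      exact sub_eq_zero.1 ((smul_eq_zero.1 h4).resolve_right (smul_ne_zero hc0 (hT0 i₀)))
    refine ⟨hθ, ?_⟩
    have e01 : T₀ 0 1 = l * (c * T₀ 1 0) := by
      have := congrFun (congrFun hTJ 0) 0
      rw [Matrix.smul_apply, Matrix.mul_apply, Matrix.mul_apply, Fin.sum_univ_two, Fin.sum_univ_two] at this
      simpa [J₂] using this
    have e11 : T₀ 1 1 = l * T₀ 0 0 := by
      have := congrFun (congrFun hTJ 1) 0
      rw [Matrix.smul_apply, Matrix.mul_apply, Matrix.mul_apply, Fin.sum_univ_two, Fin.sum_univ_two] at this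
      simpa [J₂] using this
    have hsquare : ∃ e : F, T₀ * T₀ = e • 1 := by
      rcases mul_self_eq_one_iff.1 hl2 with hl1 | hl1
      · -- commuting case
        subst hl1
        obtain ⟨μ, hμ0, hμ⟩ : ∃ μ : F, μ ≠ 0 ∧ zᵀ * C.form * z = μ • C.form := hform hθ
        set lam : QuadraticAlgebra F c 0 := ⟨T₀ 0 0, T₀ 1 0⟩ with hlam
        have hzΦ : z = Φ (diagonal fun _ => lam) := by
          ext ⟨i, a⟩ ⟨j, b⟩
          rw [hzT, hΦ, quadMat_apply]
          by_cases hij : i = j
          · subst hij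
            fin_cases a <;> fin_cases b <;> simp [lam, quadRep, e01, e11]
          · rw [diagonal_apply_ne _ hij, map_zero, if_neg hij]
            rfl
        rw [hzΦ, hG, ← Matrix.mul_assoc, quadMat_transpose, Matrix.mul_assoc, Matrix.mul_assoc, ← map_mul, ← map_mul,
          ← Matrix.mul_smul, diagonal_transpose, ← Matrix.smul_one_eq_diagonal] at hμ
        have h5 := hDinv hμ
        rw [← Matrix.one_mul (Φ (s • 1)), ← Matrix.smul_mul, ← quadMat_smul_one c μ, ← map_mul] at h5
        have h6 := congrFun (congrFun (quadMat_injective c h5) i₀) i₀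
        simp [Matrix.smul_mul, Matrix.mul_smul, smul_smul, Matrix.one_apply] at h6
        have h7 : lam * lam = algebraMap F _ μ := mul_right_cancel₀ hs (by rw [Algebra.smul_def] at h6; linear_combination h6)
        refine ⟨μ, ?_⟩
        have hre := congrArg QuadraticAlgebra.re h7
        have him := congrArg QuadraticAlgebra.im h7
        simp [lam] at hre him
        ext a b
        fin_cases a <;> fin_cases b <;> simp [Matrix.mul_apply, Fin.sum_univ_two, e01, e11]
        · linear_combination hre
        · linear_combination c * him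
        · linear_combination him
        · linear_combination hre
      · refine ⟨T₀ 0 0 * T₀ 0 0 - c * T₀ 1 0 * T₀ 1 0, ?_⟩
        ext a b
        fin_cases a <;> fin_cases b <;> simp [Matrix.mul_apply, Fin.sum_univ_two, e01, e11, hl1] <;> ring
    obtain ⟨e, he⟩ := hsquare
    have hzz : z * z = e • 1 := by
      ext ⟨i, a⟩ ⟨j, b⟩
      rw [Matrix.mul_apply, Fintype.sum_prod_type, Finset.sum_eq_single i]
      · by_cases hij : i = j
        · subst hij
          have := congrFun (congrFun he a) b
          simpa [hzT, Matrix.mul_apply, Matrix.one_apply] using this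
        · simp [hzT, hij, Matrix.one_apply]
      · intro q _ hq; simp [hzT, hq.symm]
      · simp
    refine ⟨e, fun h0 => ?_, hzz⟩
    have : z = 0 := by
      have h8 : z * z * Z = 0 := by rw [hzz, h0, zero_smul, Matrix.zero_mul]
      rwa [Matrix.mul_assoc, hZ, Matrix.mul_one] at h8
    rw [this, Matrix.zero_mul] at hZ
    exact zero_ne_one hZ

end CfsgLib.FgsC.LocalBalance
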