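import Cfsg.Agent.Lib.FgsC.LocalBalance.OrthBlock
import Cfsg.Agent.Lib.Geometry.SimCentral

/-!
The centraliser of a graph involution with two odd-dimensional eigenspaces.
-/

set_option autoImplicit false

namespace CfsgLib.FgsC.LocalBalance

open Matrix QuadraticMap CfsgLib.Geometry CfsgLib.KnownB.PSLAut

variable {ι : Type} [Fintype ι] [DecidableEq ι] {F : Type*} [Field F] [Finite F]
variable {M : Matrix ι ι F} {a b : ℕ}

local notation "κ" => Fin a ⊕ Fin b
local notation "Mκ" => Matrix (Fin a ⊕ Fin b) (Fin a ⊕ Fin b) F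

omit [Finite F] in
theorem split_commute (h2 : (2 : F) ≠ 0) {t : F} (ht : t ≠ 0) {g : Mκ}
    (hg : g * (t • fromBlocks 1 0 0 (-1)) = (t • fromBlocks 1 0 0 (-1)) * g) :
    g.toBlocks₁₂ = 0 ∧ g.toBlocks₂₁ = 0 := by
  have hg' : g * fromBlocks 1 0 0 (-1) = fromBlocks 1 0 0 (-1) * g :=
    smul_right_injective _ ht (by simpa [Matrix.mul_smul, Matrix.smul_mul] using hg)
  rw [← fromBlocks_toBlocks g, fromBlocks_multiply, fromBlocks_multiply] at hg'
  obtain ⟨-, h12, h21, -⟩ := fromBlocks_inj.1 hg'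
  simp at h12 h21
  constructor
  · ext i j
    have := congrFun (congrFun h12 i) j
    simp only [Matrix.neg_apply] at this
    exact (mul_eq_zero.1 (show (2 : F) * g.toBlocks₁₂ i j = 0 by linear_combination -this)).resolve_left h2
  · ext i j
    have := congrFun (congrFun h21 i) j
    simp only [Matrix.neg_apply] at this
    exact (mul_eq_zero.1 (show (2 : F) * g.toBlocks₂₁ i j = 0 by linear_combination this)).resolve_left h2

/-- Orthogonal blocks lift to the centraliser. -/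
theorem split_up (C : Coord M (Fin a ⊕ Fin b)) {c₁ c₂ t : F}
    (hG : C.form = fromBlocks (c₁ • 1) 0 0 (c₂ • 1)) {A : Matrix (Fin a) (Fin a) F} {B : Matrix (Fin b) (Fin b) F}
    (hA : Aᵀ * A = 1) (hB : Bᵀ * B = 1) :
    ∃ w ∈ C.cent (t • fromBlocks 1 0 0 (-1)), (w : Mκ) = fromBlocks A 0 0 B := by
  have h1 : fromBlocks Aᵀ 0 0 Bᵀ * fromBlocks A 0 0 B = (1 : Mκ) := by
    rw [fromBlocks_multiply]; simp [hA, hB, fromBlocks_one]
  refine ⟨⟨fromBlocks A 0 0 B, fromBlocks Aᵀ 0 0 Bᵀ, mul_eq_one_comm.1 h1, h1⟩, ⟨?_, ?_⟩, rfl⟩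
  · show (fromBlocks A 0 0 B)ᵀ * C.form * fromBlocks A 0 0 B = C.form
    rw [hG, fromBlocks_transpose, fromBlocks_multiply, fromBlocks_multiply]
    simp [hA, hB, Matrix.smul_mul, Matrix.mul_smul]
  · show fromBlocks A 0 0 B * _ = _ * fromBlocks A 0 0 B
    rw [fromBlocks_smul, fromBlocks_multiply, fromBlocks_multiply]
    simp [Matrix.smul_mul, Matrix.mul_smul]

omit [Finite F] in
theorem split_blocks_iso (h2 : (2 : F) ≠ 0) (C : Coord M (Fin a ⊕ Fin b)) {c₁ c₂ t : F} (h1 : c₁ ≠ 0) (h3 : c₂ ≠ 0)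
    (ht : t ≠ 0) (hG : C.form = fromBlocks (c₁ • 1) 0 0 (c₂ • 1)) {w : GL κ F}
    (hw : w ∈ C.cent (t • fromBlocks 1 0 0 (-1))) :
    (w : Mκ).toBlocks₁₁ᵀ * (w : Mκ).toBlocks₁₁ = 1 ∧ (w : Mκ).toBlocks₂₂ᵀ * (w : Mκ).toBlocks₂₂ = 1 ∧
      (w : Mκ) = fromBlocks (w : Mκ).toBlocks₁₁ 0 0 (w : Mκ).toBlocks₂₂ := by
  obtain ⟨h12, h21⟩ := split_commute h2 ht hw.2
  have hdec : (w : Mκ) = fromBlocks (w : Mκ).toBlocks₁₁ 0 0 (w : Mκ).toBlocks₂₂ := by
    conv_lhs => rw [← fromBlocks_toBlocks (w : Mκ), h12, h21]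
  have h := hw.1
  rw [hG, hdec, fromBlocks_transpose, fromBlocks_multiply, fromBlocks_multiply] at h
  simp [Matrix.smul_mul] at h
  exact ⟨smul_right_injective _ h1 h.1, smul_right_injective _ h3 h.2, hdec⟩

set_option maxHeartbeats 2000000 in
/-- No odd core in the centraliser of an involution with two odd eigenspaces. -/
theorem core_split (h2 : (2 : F) ≠ 0) (hd : (M + Mᵀ).det ≠ 0) (hn : 5 ≤ Fintype.card ι)
    (ha : 4 ≤ a) (hb : Odd b) (C : Coord M (Fin a ⊕ Fin b))
    {c₁ c₂ t : F} (h1 : c₁ ≠ 0) (h3 : c₂ ≠ 0) (ht : t ≠ 0) (hG : C.form = fromBlocks (c₁ • 1) 0 0 (c₂ • 1))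
    (x : Cfsg.Geo.quadSimilarityGroup ⇑(matQuad M))
    (hrng : ∀ n, n * simAut _ x = simAut _ x * n → n ∈ (autOmega ⇑(matQuad M)).range)
    (hX : C.pull ((x : GL ι F) : Matrix ι ι F) = t • fromBlocks 1 0 0 (-1))
    (A : Subgroup (MulAut (Cfsg.POmega F ⇑(matQuad M)))) (hinn : ∀ k, MulAut.conj k ∈ A) :
    Cfsg.pPrimeCore 2 ↥(A ⊓ Subgroup.centralizer {simAut _ x}) = ⊥ := by
  classical
  haveI : Finite (MulAut (Cfsg.POmega F ⇑(matQuad M))) := Finite.of_injective _ DFunLike.coe_injective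
  set X' : Mκ := t • fromBlocks 1 0 0 (-1) with hX'
  have hb1 : 1 ≤ b := hb.pos
  refine core_eq_bot_of _ A hinn ?_ ?_
  · intro Y hYJ hodd hcomm hnorm
    rw [Subgroup.eq_bot_iff_forall]
    intro y hy
    obtain ⟨g, hg⟩ := C.exists_act_of_inn h2 hd hn x hX (mul_ne_zero ht ht)
      (by rw [hX', Matrix.smul_mul, Matrix.mul_smul, smul_smul, fromBlocks_multiply]; simp [fromBlocks_one])
      (hYJ hy)
    have hgY : C.act h2 X' g ∈ Y := hg ▸ Y.mul_mem hy hy
    have hblock : ∀ (s : ↥(C.cent X')), ((s : GL κ F) : Mκ).toBlocks₁₁ᵀ * ((s : GL κ F) : Mκ).toBlocks₁₁ = 1 ∧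
        ((s : GL κ F) : Mκ).toBlocks₂₂ᵀ * ((s : GL κ F) : Mκ).toBlocks₂₂ = 1 ∧
        ((s : GL κ F) : Mκ) = fromBlocks ((s : GL κ F) : Mκ).toBlocks₁₁ 0 0 ((s : GL κ F) : Mκ).toBlocks₂₂ :=
      fun s => split_blocks_iso h2 C h1 h3 ht hG s.2
    let fA : ↥(C.cent X') →* Matrix (Fin a) (Fin a) F :=
      { toFun := fun s => ((s : GL κ F) : Mκ).toBlocks₁₁
        map_one' := by ext i j; simp [toBlocks₁₁, Matrix.one_apply]
        map_mul' := fun s s' => by
          rw [Subgroup.coe_mul, Units.val_mul]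
          conv_lhs => rw [(hblock s).2.2, (hblock s').2.2, fromBlocks_multiply, toBlocks_fromBlocks₁₁]
          simp }
    let fB : ↥(C.cent X') →* Matrix (Fin b) (Fin b) F :=
      { toFun := fun s => ((s : GL κ F) : Mκ).toBlocks₂₂
        map_one' := by ext i j; simp [toBlocks₂₂, Matrix.one_apply]
        map_mul' := fun s s' => by
          rw [Subgroup.coe_mul, Units.val_mul]
          conv_lhs => rw [(hblock s).2.2, (hblock s').2.2, fromBlocks_multiply, toBlocks_fromBlocks₂₂]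
          simp }
    have hker : ∀ s, C.act h2 X' s = 1 → ∃ c : F, c ≠ 0 ∧ ((s : GL κ F) : Mκ) = c • 1 := fun s hs =>
      C.act_eq_one h2 hd hn hs
    have hnorm' : ∀ s : ↥(C.cent X'), ∀ z ∈ Y, C.act h2 X' s * z * (C.act h2 X' s)⁻¹ ∈ Y := fun s z hz =>
      hnorm _ (C.act_comm h2 x hX s) z hz
    have hscA : ∃ c : F, fA g = c • 1 := by
      obtain ⟨c, -, hc⟩ := block_scalar h2 (by omega : 3 ≤ a) (C.act h2 X') fA.toHomUnits Y hodd hcomm
        (fun s hs => by
          obtain ⟨c, hc0, hc⟩ := hker s hs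
          refine ⟨c, hc0, ?_⟩
          show ((s : GL κ F) : Mκ).toBlocks₁₁ = _
          rw [hc]; ext i j; simp [toBlocks₁₁, Matrix.one_apply])
        (fun s => by simpa [TIso, fA] using (hblock s).1)
        (fun h _ hh => by
          obtain ⟨w, hw, hw'⟩ := split_up (t := t) C hG (show (h : Matrix (Fin a) (Fin a) F)ᵀ * h = 1 by
            simpa [TIso] using hh) (show (1 : Matrix (Fin b) (Fin b) F)ᵀ * 1 = 1 by simp)
          refine ⟨⟨w, hw⟩, Units.ext ?_, hnorm' _⟩
          show (w : Mκ).toBlocks₁₁ = _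
          rw [hw', toBlocks_fromBlocks₁₁])
        g hgY
      exact ⟨c, hc⟩
    have hscB : ∃ c : F, fB g = c • 1 := by
      rcases (show b = 1 ∨ 3 ≤ b by obtain ⟨j, hj⟩ := hb; omega) with hb' | hb'
      · subst hb'
        refine ⟨fB g 0 0, ?_⟩
        ext i j
        rw [Subsingleton.elim i 0, Subsingleton.elim j 0]
        simp
      obtain ⟨c, -, hc⟩ := block_scalar h2 hb' (C.act h2 X') fB.toHomUnits Y hodd hcomm
        (fun s hs => by
          obtain ⟨c, hc0, hc⟩ := hker s hs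
          refine ⟨c, hc0, ?_⟩
          show ((s : GL κ F) : Mκ).toBlocks₂₂ = _
          rw [hc]; ext i j; simp [toBlocks₂₂, Matrix.one_apply])
        (fun s => by simpa [TIso, fB] using (hblock s).2.1)
        (fun h _ hh => by
          obtain ⟨w, hw, hw'⟩ := split_up (t := t) C hG (show (1 : Matrix (Fin a) (Fin a) F)ᵀ * 1 = 1 by simp)
            (show (h : Matrix (Fin b) (Fin b) F)ᵀ * h = 1 by simpa [TIso] using hh)
          refine ⟨⟨w, hw⟩, Units.ext ?_, hnorm' _⟩
          show (w : Mκ).toBlocks₂₂ = _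
          rw [hw', toBlocks_fromBlocks₂₂])
        g hgY
      exact ⟨c, hc⟩
    obtain ⟨cA, hcA⟩ := hscA
    obtain ⟨cB, hcB⟩ := hscB
    change ((g : GL κ F) : Mκ).toBlocks₁₁ = cA • 1 at hcA
    change ((g : GL κ F) : Mκ).toBlocks₂₂ = cB • 1 at hcB
    obtain ⟨hA, hB, hdec⟩ := hblock g
    have hgg : g * g = 1 := by
      refine Subtype.ext (Units.ext ?_)
      rw [Subgroup.coe_mul, Units.val_mul, hdec]
      rw [fromBlocks_multiply]
      rw [hcA, transpose_smul, transpose_one] at hA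
      rw [hcB, transpose_smul, transpose_one] at hB
      simp only [hcA, hcB, Matrix.mul_zero, Matrix.zero_mul, add_zero, zero_add, hA, hB]
      simp [fromBlocks_one]
    have h4 : y * y * (y * y) = 1 := by rw [← hg, ← map_mul, hgg, map_one]
    exact eq_one_of_sq hodd hy (eq_one_of_sq hodd (Y.mul_mem hy hy) h4)
  · intro n hnC hno hnJ
    haveI : Nonempty κ := ⟨Sum.inr ⟨0, hb1⟩⟩
    refine C.odd_centralizer_trivial h2 hd hn x hrng hX ?_ (Subgroup.mem_centralizer_singleton_iff.1 hnC) hno hnJ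
    rintro z θ N hN hθN ⟨Z, hZ⟩ hrel hinv hform -
    -- diagonal
    have hsep : ∀ {R : Matrix (Fin a) (Fin a) F} {S : Matrix (Fin b) (Fin b) F} (ε : Fin a → F) (η : Fin b → F),
        Rᵀ * R = 1 → Sᵀ * S = 1 → R * R = diagonal ε → S * S = diagonal η → (∀ k, ε k = 1 ∨ ε k = -1) →
        (∀ k, η k = 1 ∨ η k = -1) → ∀ p q, Sum.elim ε η p ≠ Sum.elim ε η q → z p q = 0 := by
      intro R S ε η hR hS hRR hSS hε hη p q hpq
      obtain ⟨w, hw, hw'⟩ := split_up (t := t) C hG hR hS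
      have hW : (w : Mκ) * (w : Mκ) = diagonal (Sum.elim ε η) := by
        rw [hw', fromBlocks_multiply]
        simp [hRR, hSS, fromBlocks_diagonal]
      have hpm : ∀ p, Sum.elim ε η p = 1 ∨ Sum.elim ε η p = -1 := fun p => by
        rcases p with k | k
        exacts [hε k, hη k]
      have h := hinv w hw (fun ρ => by
        rw [hW, diagonal_map (map_zero ρ)]
        congr 1
        funext k
        rcases hpm k with e | e <;> simp [e]) (by
        rw [hW, diagonal_mul_diagonal, ← diagonal_one]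
        congr 1
        funext k
        rcases hpm k with e | e <;> simp [e])
      rw [hW] at h
      have := congrFun (congrFun h p) q
      rw [mul_diagonal, diagonal_mul] at this
      by_contra hne
      exact hpq (mul_right_cancel₀ hne ((mul_comm _ _).trans this).symm)
    have h11 : ∀ k : Fin a, (if k = k then (1 : F) else 0) = 1 := fun k => if_pos rfl
    have hoffA : ∀ (i : Fin a) q, q ≠ Sum.inl i → z (Sum.inl i) q = 0 ∧ z q (Sum.inl i) = 0 := by
      intro i q hq
      obtain ⟨j, hji, hjq⟩ : ∃ j, j ≠ i ∧ Sum.inl j ≠ q := by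
        rcases q with k | k
        · obtain ⟨j, hj1, hj2⟩ := third (by omega : 3 ≤ a) i k
          exact ⟨j, hj1, fun h => hj2 (Sum.inl.inj h)⟩
        · obtain ⟨j, hj1, -⟩ := third (by omega : 3 ≤ a) i i
          exact ⟨j, hj1, by simp⟩
      obtain ⟨R, hR, hRR⟩ := exists_sign_square (F := F) hji.symm
      have key := hsep (R := R) (S := 1) _ (fun _ => 1) hR (by simp) hRR (by simp)
        (fun k => by by_cases h : k = i ∨ k = j <;> simp [h]) (fun _ => Or.inl rfl)
      have hne : (-1 : F) ≠ 1 := fun h => h2 (by linear_combination -h)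
      have hqv : Sum.elim (fun k => if k = i ∨ k = j then (-1 : F) else 1) (fun _ : Fin b => (1 : F)) q = 1 := by
        rcases q with k | k
        · simp only [Sum.elim_inl]
          rw [if_neg]
          rintro (h | h)
          · exact hq (congrArg Sum.inl h)
          · exact hjq (congrArg Sum.inl h.symm)
        · rfl
      refine ⟨key _ _ ?_, key _ _ ?_⟩ <;> rw [hqv] <;> simp [hne, hne.symm]
    have hoffB : ∀ i k : Fin b, i ≠ k → z (Sum.inr i) (Sum.inr k) = 0 := by
      intro i k hik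
      have hb3 : 3 ≤ b := by
        obtain ⟨j, hj⟩ := hb
        rcases Nat.eq_zero_or_pos j with rfl | hj0
        · exact absurd (Fin.ext (by omega)) hik
        · omega
      obtain ⟨j, hji, hjk⟩ := third hb3 i k
      obtain ⟨S, hS, hSS⟩ := exists_sign_square (F := F) hji.symm
      refine hsep (R := 1) (S := S) (fun _ => 1) _ (by simp) hS (by simp) hSS (fun _ => Or.inl rfl)
        (fun k => by by_cases h : k = i ∨ k = j <;> simp [h]) _ _ ?_
      have hne : (-1 : F) ≠ 1 := fun h => h2 (by linear_combination -h)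
      simp [hik.symm, hjk.symm, hne]
    set d : κ → F := fun p => z p p with hdz
    have hz : z = diagonal d := by
      ext p q
      rcases eq_or_ne p q with rfl | hpq
      · simp [d]
      rw [diagonal_apply_ne _ hpq]
      rcases p with i | i
      · exact (hoffA i q hpq.symm).1
      rcases q with k | k
      · exact (hoffA k _ hpq).2
      · exact hoffB i k fun h => hpq (congrArg _ h)
    have hd0 : ∀ p, d p ≠ 0 := fun p hp => by
      have := congrFun (congrFun hZ p) p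
      rw [hz, diagonal_mul, hp, zero_mul, Matrix.one_apply_eq] at this
      exact zero_ne_one this
    -- relations
    have hWrel : ∀ {R : Matrix (Fin a) (Fin a) F} {S : Matrix (Fin b) (Fin b) F}, Rᵀ * R = 1 → Sᵀ * S = 1 →
        (∃ r, (fromBlocks (R * R) 0 0 (S * S) : Mκ) r r = 1) →
        ∀ p q, d p * θ ((fromBlocks (R * R) 0 0 (S * S) : Mκ) p q) =
          (fromBlocks (R * R) 0 0 (S * S) : Mκ) p q * d q := by
      intro R S hR hS hr p q
      obtain ⟨r, hr⟩ := hr
      obtain ⟨w, hw, hw'⟩ := split_up (t := t) C hG hR hS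
      obtain ⟨l, hl⟩ := hrel w hw
      have hW : (w : Mκ) * (w : Mκ) = fromBlocks (R * R) 0 0 (S * S) := by
        rw [hw', fromBlocks_multiply]; simp
      rw [hW, hz] at hl
      have e := fun p q => congrFun (congrFun hl p) q
      simp only [diagonal_mul, mul_diagonal, Matrix.smul_apply, smul_eq_mul, Matrix.map_apply] at e
      have hl1 : l = 1 := by
        have := e r r
        rw [hr, map_one, mul_one, one_mul] at this
        exact mul_right_cancel₀ (hd0 r) (this.symm.trans (one_mul _).symm)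
      have := e p q
      rwa [hl1, one_mul] at this
    obtain ⟨hcA, hfix⟩ := block_relation (by omega : 3 ≤ a) h2 θ (fun i => d (Sum.inl i)) fun R hR _ p q => by
      have := hWrel (S := 1) hR (by simp) ⟨Sum.inr ⟨0, hb1⟩, by simp⟩ (Sum.inl p) (Sum.inl q)
      simpa [mul_comm] using this
    have hθ : θ = 1 := eq_one_of_circle h2 θ hN hθN (hfix ⟨⟨0, by omega⟩, hd0 _⟩)
    have hcB : ∀ i j, d (Sum.inr i) = d (Sum.inr j) := by
      intro i j
      rcases (show b = 1 ∨ 3 ≤ b by obtain ⟨k, hk⟩ := hb; omega) with hb' | hb'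
      · subst hb'; rw [Subsingleton.elim i j]
      refine (block_relation hb' h2 θ (fun i => d (Sum.inr i)) fun S hS _ p q => ?_).1 i j
      have := hWrel (R := 1) (by simp) hS ⟨Sum.inl ⟨0, by omega⟩, by simp⟩ (Sum.inr p) (Sum.inr q)
      simpa [mul_comm] using this
    obtain ⟨μ, hμ0, hμ⟩ := hform hθ
    refine ⟨hθ, μ, hμ0, ?_⟩
    rw [hz, hG, diagonal_transpose] at hμ
    rw [hz, diagonal_mul_diagonal, Matrix.smul_one_eq_diagonal]
    congr 1
    funext p
    have := congrFun (congrFun hμ p) p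
    rw [mul_diagonal, diagonal_mul] at this
    rcases p with i | i <;>
      simp only [Matrix.fromBlocks_apply₁₁, Matrix.fromBlocks_apply₂₂, Matrix.smul_apply, Matrix.one_apply_eq,
        smul_eq_mul, mul_one] at this
    · exact mul_right_cancel₀ h1 (by linear_combination this)
    · exact mul_right_cancel₀ h3 (by linear_combination this)

/-- Coordinates adapted to an involutive isometry with odd eigenspaces. -/
theorem exists_split_coord (h2 : (2 : F) ≠ 0) (hd : (M + Mᵀ).det ≠ 0) {H : Matrix ι ι F}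
    (hHH : H * H = 1) (hH : Hᵀ * (M + Mᵀ) * H = M + Mᵀ)
    (ha : Odd (Module.finrank F (fixEigen (Matrix.toLin' H))))
    (hb : Odd (Module.finrank F (negEigen (Matrix.toLin' H)))) :
    ∃ (a b : ℕ) (C : Coord M (Fin a ⊕ Fin b)) (c₁ c₂ : F),
      a = Module.finrank F (fixEigen (Matrix.toLin' H)) ∧ b = Module.finrank F (negEigen (Matrix.toLin' H)) ∧
      c₁ ≠ 0 ∧ c₂ ≠ 0 ∧ C.form = fromBlocks (c₁ • 1) 0 0 (c₂ • 1) ∧ C.pull H = fromBlocks 1 0 0 (-1) := by
  classical
  have hff : ∀ v, Matrix.toLin' H (Matrix.toLin' H v) = v := fun v => by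
    rw [Matrix.toLin'_apply, Matrix.toLin'_apply, mulVec_mulVec, hHH, one_mulVec]
  have hc := isCompl_fix_neg h2 hff
  set U := fixEigen (Matrix.toLin' H)
  set W := negEigen (Matrix.toLin' H)
  set a := Module.finrank F U with hadef
  set b := Module.finrank F W with hbdef
  let bb : Module.Basis (Fin a ⊕ Fin b) F (ι → F) :=
    ((Module.finBasis F U).prod (Module.finBasis F W)).map (Submodule.prodEquivOfIsCompl U W hc)
  obtain ⟨C, hcol⟩ : ∃ C : Coord M (Fin a ⊕ Fin b), ∀ p i, C.P i p = bb p i :=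
    ⟨⟨(Pi.basisFun F ι).toMatrix bb, bb.toMatrix (Pi.basisFun F ι),
      Module.Basis.toMatrix_mul_toMatrix_flip _ _, Module.Basis.toMatrix_mul_toMatrix_flip _ _⟩,
      fun p i => by simp [Module.Basis.toMatrix_apply]⟩
  have hPH : H * C.P = C.P * fromBlocks 1 0 0 (-1) := by
    ext i p
    have hcol' : (fun k => C.P k p) = bb p := funext (hcol p)
    rw [Matrix.mul_apply', show (fun k => C.P k p) = bb p from hcol']
    change (H *ᵥ bb p) i = _
    erw [show (fromBlocks 1 0 0 (-1) : Matrix (Fin a ⊕ Fin b) (Fin a ⊕ Fin b) F) =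
      diagonal (Sum.elim (fun _ => 1) (fun _ => -1)) by rw [← fromBlocks_diagonal, diagonal_one, ← diagonal_neg, diagonal_one],
      mul_diagonal]
    rw [hcol]
    rcases p with k | k
    · have h' : Matrix.toLin' H (bb (Sum.inl k)) = bb (Sum.inl k) := mem_fixEigen.1 (by simp [bb, U])
      rw [← Matrix.toLin'_apply, h']
      simp
    · have h' : Matrix.toLin' H (bb (Sum.inr k)) = -bb (Sum.inr k) := mem_negEigen.1 (by simp [bb, W])
      rw [← Matrix.toLin'_apply, h']
      simp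
  have hpull : C.pull H = fromBlocks 1 0 0 (-1) := by
    show C.P' * H * C.P = _
    rw [Matrix.mul_assoc, hPH]
    exact C.cancel _
  set G := C.form with hGdef
  have hGsym : Gᵀ = G := by
    rw [hGdef, Coord.form, transpose_mul, transpose_mul, transpose_transpose, transpose_add, transpose_transpose,
      add_comm Mᵀ, Matrix.mul_assoc]
  have hinv : (fromBlocks 1 0 0 (-1) : Matrix (Fin a ⊕ Fin b) (Fin a ⊕ Fin b) F) * fromBlocks 1 0 0 (-1) = 1 := by
    rw [fromBlocks_multiply]; simp [fromBlocks_one]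
  have hGcomm : (fromBlocks 1 0 0 (-1) : Matrix (Fin a ⊕ Fin b) (Fin a ⊕ Fin b) F) * G = G * fromBlocks 1 0 0 (-1) := by
    have h' : (fromBlocks 1 0 0 (-1) : Matrix (Fin a ⊕ Fin b) (Fin a ⊕ Fin b) F)ᵀ * G * fromBlocks 1 0 0 (-1) = G := by
      calc (fromBlocks 1 0 0 (-1) : Matrix (Fin a ⊕ Fin b) (Fin a ⊕ Fin b) F)ᵀ * G * fromBlocks 1 0 0 (-1)
          = (C.P * (fromBlocks 1 0 0 (-1) : Matrix (Fin a ⊕ Fin b) (Fin a ⊕ Fin b) F))ᵀ * (M + Mᵀ) * (C.P * (fromBlocks 1 0 0 (-1) : Matrix (Fin a ⊕ Fin b) (Fin a ⊕ Fin b) F)) := by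
            rw [hGdef, Coord.form, transpose_mul]; simp only [Matrix.mul_assoc]
        _ = C.Pᵀ * (Hᵀ * (M + Mᵀ) * H) * C.P := by
            erw [← hPH]
            rw [transpose_mul]; simp only [Matrix.mul_assoc]
        _ = G := by rw [hH, hGdef, Coord.form]
    rw [fromBlocks_transpose] at h'
    simp only [transpose_one, transpose_zero, transpose_neg] at h'
    conv_lhs => rw [← h']
    rw [← Matrix.mul_assoc, ← Matrix.mul_assoc, hinv, Matrix.one_mul]
  obtain ⟨h12, h21⟩ := split_commute h2 (one_ne_zero (α := F)) (g := G)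
    (by rw [one_smul]; exact hGcomm.symm)
  have hdec : G = fromBlocks G.toBlocks₁₁ 0 0 G.toBlocks₂₂ := by
    conv_lhs => rw [← fromBlocks_toBlocks G, h12, h21]
  have hGdet : G.det ≠ 0 := by
    intro h0
    have e : C.P'ᵀ * G * C.P' = M + Mᵀ := by
      calc C.P'ᵀ * G * C.P' = (C.P * C.P')ᵀ * (M + Mᵀ) * (C.P * C.P') := by
            rw [hGdef, Coord.form, transpose_mul]; simp only [Matrix.mul_assoc]
        _ = _ := by rw [C.right_inv, transpose_one, Matrix.one_mul, Matrix.mul_one]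
    obtain ⟨v, hv0, hv⟩ := Matrix.exists_mulVec_eq_zero_iff.2 h0
    refine hd (Matrix.exists_mulVec_eq_zero_iff.1 ⟨C.P *ᵥ v, fun h => hv0 ?_, ?_⟩)
    · have := congrArg (C.P' *ᵥ ·) h
      simpa [mulVec_mulVec, C.left_inv] using this
    · rw [← e, mulVec_mulVec, Matrix.mul_assoc, C.left_inv, Matrix.mul_one, ← mulVec_mulVec, hv, mulVec_zero]
  rw [hdec, fromBlocks_transpose] at hGsym
  obtain ⟨hsA, -, -, hsB⟩ := fromBlocks_inj.1 hGsym
  rw [hdec, det_fromBlocks_zero₁₂] at hGdet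
  obtain ⟨PA, c₁, hc₁, hPA⟩ := exists_congr_scalar h2 (by simpa using ha) hsA (left_ne_zero_of_mul hGdet)
  obtain ⟨PB, c₂, hc₂, hPB⟩ := exists_congr_scalar h2 (by simpa using hb) hsB (right_ne_zero_of_mul hGdet)
  have hR : fromBlocks ((PA⁻¹ : GL (Fin a) F) : Matrix (Fin a) (Fin a) F) 0 0 ((PB⁻¹ : GL (Fin b) F) : Matrix (Fin b) (Fin b) F) *
      fromBlocks (PA : Matrix (Fin a) (Fin a) F) 0 0 (PB : Matrix (Fin b) (Fin b) F) = (1 : Matrix (Fin a ⊕ Fin b) (Fin a ⊕ Fin b) F) := by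
    rw [fromBlocks_multiply]; simp [fromBlocks_one]
  let R : GL (Fin a ⊕ Fin b) F := ⟨fromBlocks (PA : Matrix (Fin a) (Fin a) F) 0 0 (PB : Matrix (Fin b) (Fin b) F),
    fromBlocks ((PA⁻¹ : GL (Fin a) F) : Matrix (Fin a) (Fin a) F) 0 0 ((PB⁻¹ : GL (Fin b) F) : Matrix (Fin b) (Fin b) F),
    mul_eq_one_comm.1 hR, hR⟩
  refine ⟨a, b, C.comp R, c₁, c₂, rfl, rfl, hc₁, hc₂, ?_, ?_⟩
  · rw [C.comp_form, ← hGdef, hdec]
    show (fromBlocks (PA : Matrix (Fin a) (Fin a) F) 0 0 (PB : Matrix (Fin b) (Fin b) F))ᵀ * _ *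
      fromBlocks (PA : Matrix (Fin a) (Fin a) F) 0 0 (PB : Matrix (Fin b) (Fin b) F) = _
    rw [fromBlocks_transpose, fromBlocks_multiply, fromBlocks_multiply]
    simp [hPA, hPB]
  · rw [C.comp_pull, hpull]
    show fromBlocks ((PA⁻¹ : GL (Fin a) F) : Matrix (Fin a) (Fin a) F) 0 0 ((PB⁻¹ : GL (Fin b) F) : Matrix (Fin b) (Fin b) F) *
      _ * fromBlocks (PA : Matrix (Fin a) (Fin a) F) 0 0 (PB : Matrix (Fin b) (Fin b) F) = _
    rw [fromBlocks_multiply, fromBlocks_multiply]
    simp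

end CfsgLib.FgsC.LocalBalance
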