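import Cfsg.Agent.Lib.FgsC.LocalBalance.Abstract
import Cfsg.Agent.Lib.KnownB.PSLAut.FieldAut
import Cfsg.Agent.Lib.Geometry.GraphPSL.Cent

/-!
Commutation of automorphisms of `PSL_n` with conjugations.
-/

set_option autoImplicit false

namespace CfsgLib.FgsC.LocalBalance

open Matrix CfsgLib.KnownB.PSLAut

variable {n : ℕ} {F : Type*} [Field F]

local notation "PSLn" => Matrix.ProjectiveSpecialLinearGroup (Fin n) F
local notation "Mn" => Matrix (Fin n) (Fin n) F
local notation "gmap" => fun (σ : F ≃+* F) => Matrix.GeneralLinearGroup.map (n := Fin n) (σ : F →+* F)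

theorem gal_comm [Finite F] (σ τ : F ≃+* F) : σ * τ = τ * σ := by
  have := Fintype.ofFinite F
  obtain ⟨f, hp, hF⟩ := FiniteField.card F (ringChar F)
  haveI : Fact (ringChar F).Prime := ⟨hp⟩
  haveI := isCyclic_gal (p := ringChar F) f.pos hF
  letI : CommGroup (F ≃+* F) := IsCyclic.commGroup
  exact mul_comm σ τ

theorem fld_comm_fld [Finite F] (σ τ : F ≃+* F) :
    (fld σ * fld τ : MulAut PSLn) = fld τ * fld σ := by
  rw [← map_mul, gal_comm, map_mul]

theorem mem_δ_centralizer_comm (hn : 2 ≤ n) {g h : GL (Fin n) F} {τ : F ≃+* F}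
    (hc : (δ g * fld τ : MulAut PSLn) * δ h = δ h * (δ g * fld τ)) :
    ∃ c : F, c ≠ 0 ∧ (h : Mn) * (g : Mn) = c • ((g : Mn) * (h : Mn).map τ) := by
  rw [mul_assoc, fld_δ, ← mul_assoc, ← map_mul, ← mul_assoc, ← map_mul, mul_left_inj, δ_eq_iff hn,
    Units.val_mul, Units.val_mul, map_coe] at hc
  exact hc

theorem mem_δ_centralizer_comm_it (hn : 2 ≤ n) {g h : GL (Fin n) F} {τ : F ≃+* F}
    (hc : (δ g * fld τ * it : MulAut PSLn) * δ h = δ h * (δ g * fld τ * it)) :
    ∃ c : F, c ≠ 0 ∧ (h : Mn) * (g : Mn) = c • ((g : Mn) * (((h⁻¹ : GL (Fin n) F) : Mn).map τ)ᵀ) := by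
  rw [mul_assoc, it_δ, ← mul_assoc, mul_assoc (δ g), fld_δ, ← mul_assoc, ← map_mul, mul_assoc, ← mul_assoc (δ h),
    ← mul_assoc (δ h), ← map_mul, mul_assoc (δ (h * g)), mul_left_inj, δ_eq_iff hn, Units.val_mul,
    Units.val_mul, map_itGL_coe] at hc
  exact hc

/-- A multiplier between unipotent elements is `1`. -/
theorem mult_eq_one (hn : 1 ≤ n) {r : ℕ} [Fact r.Prime] [CharP F r] {g h h' : GL (Fin n) F} {c : F}
    (hh : h ^ r = 1) (hh' : h' ^ r = 1) (he : (h : Mn) * g = c • ((g : Mn) * h')) : c = 1 := by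
  have : NeZero n := ⟨by omega⟩
  have hk : ∀ k : ℕ, (h : Mn) ^ k * g = c ^ k • ((g : Mn) * (h' : Mn) ^ k) := fun k => by
    induction k with
    | zero => simp
    | succ k ih =>
      rw [pow_succ (h : Mn), mul_assoc, he, Matrix.mul_smul, ← mul_assoc, ih, Matrix.smul_mul, smul_smul, mul_assoc,
        ← pow_succ, ← pow_succ']
  have h1 := hk r
  rw [← Units.val_pow_eq_pow_val, ← Units.val_pow_eq_pow_val, hh, hh', Units.val_one, one_mul, mul_one] at h1
  have h2 : (c ^ r - 1) • (g : Mn) = 0 := by rw [sub_smul, one_smul, ← h1, sub_self]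
  have h3 : (c - 1) ^ r = 0 := by
    rw [sub_pow_char (R := F) c 1, one_pow]
    exact (smul_eq_zero.1 h2).resolve_right g.isUnit.ne_zero
  exact sub_eq_zero.1 (eq_zero_of_pow_eq_zero h3)

/-- An elementary transvection. -/
def trSL {i j : Fin n} (h : i ≠ j) (a : F) : Matrix.SpecialLinearGroup (Fin n) F :=
  ⟨Matrix.transvection i j a, det_transvection_of_ne i j h a⟩

theorem trSL_toGL {i j : Fin n} (h : i ≠ j) (a : F) :
    ((Matrix.SpecialLinearGroup.toGL (trSL h a) : GL (Fin n) F) : Mn) = 1 + Matrix.single i j a := rfl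

theorem trSL_pow {i j : Fin n} (h : i ≠ j) (a : F) (k : ℕ) : trSL h a ^ k = trSL h ((k : F) * a) := by
  induction k with
  | zero =>
    rw [pow_zero]
    exact Subtype.ext (by simp [trSL])
  | succ k ih =>
    rw [pow_succ, ih]
    refine Subtype.ext ?_
    show transvection i j _ * transvection i j a = transvection i j _
    rw [transvection_mul_transvection_same i j h]
    push_cast
    ring_nf

theorem trSL_inv {i j : Fin n} (h : i ≠ j) (a : F) : (trSL h a)⁻¹ = trSL h (-a) := by
  refine inv_eq_of_mul_eq_one_right (Subtype.ext ?_)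
  show transvection i j a * transvection i j (-a) = 1
  rw [transvection_mul_transvection_same i j h, add_neg_cancel, transvection_zero]

theorem trSL_toGL_pow {r : ℕ} [CharP F r] {i j : Fin n} (h : i ≠ j) (a : F) :
    (Matrix.SpecialLinearGroup.toGL (trSL h a) : GL (Fin n) F) ^ r = 1 := by
  rw [← map_pow, trSL_pow, CharP.cast_eq_zero, zero_mul, show trSL h (0 : F) = 1 from
    Subtype.ext (transvection_zero i j), map_one]

theorem trSL_map {i j : Fin n} (h : i ≠ j) (a : F) (τ : F ≃+* F) :
    (1 + Matrix.single i j a : Mn).map τ = 1 + Matrix.single i j (τ a) := by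
  rw [Matrix.map_add τ (map_add τ), Matrix.map_one τ τ.map_zero τ.map_one, Matrix.map_single]

/-- An automorphism centralising elementary transvections over a subset containing `1` is a field automorphism
fixing the subset. -/
theorem fix_roots [Finite F] (hn : 2 ≤ n) {r : ℕ} [Fact r.Prime] [CharP F r] (S : F → Prop) (h1 : S 1)
    {α : MulAut PSLn}
    (hα : ∀ i j (h : i ≠ j) a, S a →
      α * δ (Matrix.SpecialLinearGroup.toGL (trSL h a)) = δ (Matrix.SpecialLinearGroup.toGL (trSL h a)) * α) :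
    ∃ τ : F ≃+* F, (∀ a, S a → τ a = a) ∧ α = fld τ := by
  classical
  obtain ⟨g, τ, e, he, rfl⟩ := decomp hn α
  rcases he with rfl | ⟨rfl, hn3⟩
  · simp only [mul_one] at hα ⊢
    have key : ∀ i j, i ≠ j → ∀ a, S a → ∀ r' s, (if r' = i then a * (g : Mn) j s else 0) =
        (if s = j then τ a * (g : Mn) r' i else 0) := by
      intro i j hij a ha r' s
      obtain ⟨c, -, hc⟩ := mem_δ_centralizer_comm hn (hα i j hij a ha)
      have hp : (Matrix.SpecialLinearGroup.toGL (trSL hij (τ a)) : GL (Fin n) F) ^ r = 1 := trSL_toGL_pow hij _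
      rw [trSL_toGL, trSL_map hij] at hc
      have hc1 : c = 1 := mult_eq_one (by omega) (trSL_toGL_pow (r := r) hij a) hp hc
      rw [hc1, one_smul, add_mul, one_mul, mul_add, mul_one] at hc
      have := congrFun (congrFun (add_left_cancel (G := Mn) hc) r') s
      by_cases h1 : r' = i <;> by_cases h2 : s = j <;>
        simp [Matrix.single_mul_apply_of_ne, Matrix.mul_single_apply_of_ne, h1, h2, mul_comm] at this ⊢ <;>
        assumption
    have hoff : ∀ r' i, r' ≠ i → (g : Mn) r' i = 0 := by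
      intro r' i hri
      have h := key i r' hri.symm 1 h1 r' r'
      rw [if_neg hri, if_pos rfl, map_one, one_mul] at h
      exact h.symm
    have hdiag : ∀ i j, (g : Mn) i i = (g : Mn) j j := by
      intro i j
      rcases eq_or_ne i j with rfl | hij
      · rfl
      have h := key i j hij 1 h1 i j
      rw [if_pos rfl, if_pos rfl, map_one, one_mul, one_mul] at h
      exact h.symm
    have : NeZero n := ⟨by omega⟩
    have hg00 : ∀ i, (g : Mn) i i ≠ 0 := fun i h0 => (GeneralLinearGroup.det g).ne_zero (by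
      rw [GeneralLinearGroup.val_det_apply]
      exact det_eq_zero_of_row_eq_zero i fun j => by
        rcases eq_or_ne i j with rfl | h
        · exact h0
        · exact hoff i j h)
    refine ⟨τ, fun a ha => ?_, ?_⟩
    · have hij : (⟨0, by omega⟩ : Fin n) ≠ ⟨1, by omega⟩ := by simp [Fin.ext_iff]
      have h := key _ _ hij a ha ⟨0, by omega⟩ ⟨1, by omega⟩
      rw [if_pos rfl, if_pos rfl, hdiag ⟨1, by omega⟩ ⟨0, by omega⟩] at h
      exact (mul_right_cancel₀ (hg00 _) h).symm
    · rw [(δ_eq_one_iff hn g).2 ⟨(g : Mn) 0 0, hg00 0, ?_⟩, one_mul]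
      ext i j
      rcases eq_or_ne i j with rfl | hij
      · simp [hdiag i 0]
      · simp [hij, hoff i j hij]
  · exfalso
    have key : ∀ i j, i ≠ j → ∀ r', r' ≠ i → (g : Mn) r' j = 0 := by
      intro i j hij r' hr'
      obtain ⟨c, -, hc⟩ := mem_δ_centralizer_comm_it hn (hα i j hij 1 h1)
      rw [← map_inv, trSL_inv, trSL_toGL, trSL_toGL, trSL_map hij, map_neg, map_one, transpose_add, transpose_one,
        transpose_single] at hc
      have hc1 : c = 1 := mult_eq_one (by omega) (trSL_toGL_pow (r := r) hij (1 : F))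
        (trSL_toGL_pow (r := r) hij.symm (-1 : F)) hc
      rw [hc1, one_smul, add_mul, one_mul, mul_add, mul_one] at hc
      have := congrFun (congrFun (add_left_cancel (G := Mn) hc) r') i
      simpa [Matrix.single_mul_apply_of_ne, hr'] using this.symm
    have hij : (⟨0, by omega⟩ : Fin n) ≠ ⟨1, by omega⟩ := by simp [Fin.ext_iff]
    have hkj : (⟨2, by omega⟩ : Fin n) ≠ ⟨1, by omega⟩ := by simp [Fin.ext_iff]
    refine (GeneralLinearGroup.det g).ne_zero ?_
    rw [GeneralLinearGroup.val_det_apply]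
    refine det_eq_zero_of_column_eq_zero ⟨1, by omega⟩ fun r' => ?_
    by_cases h : r' = ⟨0, by omega⟩
    · exact key _ _ hkj r' (by rw [h]; simp [Fin.ext_iff])
    · exact key _ _ hij r' h

theorem conj_injective (hn : 2 ≤ n) :
    Function.Injective (MulAut.conj : PSLn →* MulAut PSLn) := by
  rw [← MonoidHom.ker_eq_bot_iff, Subgroup.eq_bot_iff_forall]
  intro x hx
  induction x using QuotientGroup.induction_on with
  | H s =>
    have h : (δ (Matrix.SpecialLinearGroup.toGL s) : MulAut PSLn) = 1 := by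
      have h' : δ (Matrix.SpecialLinearGroup.toGL s) = MulAut.conj (QuotientGroup.mk s : PSLn) := by
        refine MulEquiv.ext fun y => ?_
        induction y using QuotientGroup.induction_on with
        | H t =>
          rw [MulAut.conj_apply, δ_mk, ← QuotientGroup.mk_inv, ← QuotientGroup.mk_mul, ← QuotientGroup.mk_mul]
          refine congrArg _ (Subtype.ext ?_)
          rw [Matrix.SpecialLinearGroup.coe_mul, Matrix.SpecialLinearGroup.coe_mul, inv_coe_GL]
          rfl
      rw [h']; exact hx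
    obtain ⟨c, -, hc⟩ := (δ_eq_one_iff hn _).1 h
    rw [QuotientGroup.eq_one_iff, Subgroup.mem_center_iff]
    intro t
    refine Subtype.ext ?_
    change (t : Mn) * (s : Mn) = (s : Mn) * (t : Mn)
    rw [show (s : Mn) = c • 1 from hc, Matrix.mul_smul, Matrix.smul_mul, mul_one, one_mul]

theorem δ_mem_inn_of_det_one {g : GL (Fin n) F} (hg : (g : Mn).det = 1) : (δ g : MulAut PSLn) ∈ Cfsg.Inn PSLn := by
  rw [inn_eq]
  exact ⟨⟨(g : Mn), hg⟩, congrArg δ (Units.ext rfl)⟩

theorem exists_of_mem_inn {y : MulAut PSLn} (hy : y ∈ Cfsg.Inn PSLn) :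
    ∃ g : GL (Fin n) F, (g : Mn).det = 1 ∧ y = δ g := by
  rw [inn_eq] at hy
  obtain ⟨s, rfl⟩ := hy
  exact ⟨Matrix.SpecialLinearGroup.toGL s, s.2, rfl⟩

end CfsgLib.FgsC.LocalBalance
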