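import Cfsg.Agent.Lib.FgsC.LocalBalance.PSLBasic
import Cfsg.Agent.Lib.Geometry.GraphPSL.Std
import Cfsg.Agent.Lib.Geometry.GraphPSL.Classes
import Cfsg.Agent.Lib.Classical.SympSimple

/-!
The centraliser of a symplectic graph involution of `PSL_n` has no nontrivial normal subgroup of odd order.
-/

set_option autoImplicit false

namespace CfsgLib.FgsC.LocalBalance

open Matrix CfsgLib.KnownB.PSLAut CfsgLib.Geometry.GraphPSL

variable {n m : ℕ} {F : Type*} [Field F]

local notation "PSLn" => Matrix.ProjectiveSpecialLinearGroup (Fin n) F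
local notation "Mn" => Matrix (Fin n) (Fin n) F
local notation "M2" => Matrix (Fin m ⊕ Fin m) (Fin m ⊕ Fin m) F

/-- The symplectic unipotent `[[1, S], [0, 1]]`. -/
def upperM (S : Matrix (Fin m) (Fin m) F) : M2 := fromBlocks 1 S 0 1

/-- The symplectic unipotent `[[1, 0], [S, 1]]`. -/
def lowerM (S : Matrix (Fin m) (Fin m) F) : M2 := fromBlocks 1 0 S 1

theorem upperM_pow (S : Matrix (Fin m) (Fin m) F) (k : ℕ) : upperM S ^ k = upperM (k • S) := by
  induction k with
  | zero => simp [upperM, fromBlocks_one]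
  | succ k ih => rw [pow_succ, ih, upperM, upperM, fromBlocks_multiply]; simp [upperM, add_mul, add_comm]

theorem lowerM_pow (S : Matrix (Fin m) (Fin m) F) (k : ℕ) : lowerM S ^ k = lowerM (k • S) := by
  induction k with
  | zero => simp [lowerM, fromBlocks_one]
  | succ k ih => rw [pow_succ, ih, lowerM, lowerM, fromBlocks_multiply]; simp [lowerM, add_mul, add_comm]

theorem upperM_mem {S : Matrix (Fin m) (Fin m) F} (hS : Sᵀ = S) :
    upperM S ∈ Matrix.symplecticGroup (Fin m) F := by
  refine SymplecticGroup.mem_iff'.2 ?_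
  simp [upperM, Matrix.J, fromBlocks_transpose, fromBlocks_multiply, hS]

theorem lowerM_mem {S : Matrix (Fin m) (Fin m) F} (hS : Sᵀ = S) :
    lowerM S ∈ Matrix.symplecticGroup (Fin m) F := by
  refine SymplecticGroup.mem_iff'.2 ?_
  simp [lowerM, Matrix.J, fromBlocks_transpose, fromBlocks_multiply, hS]

/-- The inclusion of the symplectic group in `GL`. -/
def spGL : Matrix.symplecticGroup (Fin m) F →* GL (Fin m ⊕ Fin m) F where
  toFun s := ⟨s.1, (s⁻¹).1, congrArg Subtype.val (mul_inv_cancel s), congrArg Subtype.val (inv_mul_cancel s)⟩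
  map_one' := Units.ext rfl
  map_mul' _ _ := Units.ext rfl

theorem spGL_val (s : Matrix.symplecticGroup (Fin m) F) : ((spGL s : GL (Fin m ⊕ Fin m) F) : M2) = s.1 := rfl

theorem blocks_cases (g : M2) : ∃ A B C D, g = fromBlocks A B C D :=
  ⟨_, _, _, _, (fromBlocks_toBlocks g).symm⟩

/-- A matrix intertwining the unipotents with their twists is scalar and the twist is trivial. -/
theorem sp_scalar (hm : 0 < m) {g : M2} (hg : g.det ≠ 0) (τ : F ≃+* F)
    (hu : ∀ S : Matrix (Fin m) (Fin m) F, Sᵀ = S → upperM S * g = g * upperM (S.map τ) ∧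
      lowerM S * g = g * lowerM (S.map τ)) :
    τ = 1 ∧ ∃ c : F, c ≠ 0 ∧ g = c • 1 := by
  classical
  obtain ⟨A, B, C, D, rfl⟩ := blocks_cases g
  have key : ∀ S : Matrix (Fin m) (Fin m) F, Sᵀ = S → S * C = 0 ∧ S * D = A * S.map τ ∧ S * B = 0 := by
    intro S hS
    obtain ⟨h1, h2⟩ := hu S hS
    simp only [upperM, lowerM, fromBlocks_multiply, one_mul, mul_one, mul_zero, zero_mul, zero_add, add_zero,
      fromBlocks_inj] at h1 h2
    refine ⟨?_, ?_, ?_⟩
    · exact add_left_cancel (G := Matrix (Fin m) (Fin m) F) (h1.1.trans (add_zero A).symm)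
    · have := h1.2.1
      rw [add_comm (A * _) B] at this
      exact add_left_cancel (G := Matrix (Fin m) (Fin m) F) this
    · exact add_right_cancel (G := Matrix (Fin m) (Fin m) F) (h2.2.2.2.trans (zero_add D).symm)
  have h1 := key 1 transpose_one
  have hC : C = 0 := by simpa using h1.1
  have hB : B = 0 := by simpa using h1.2.2
  have hD : D = A := by simpa [Matrix.map_one τ τ.map_zero τ.map_one] using h1.2.1
  subst hB hC hD
  have hA : D.det ≠ 0 := fun h => hg (by rw [det_fromBlocks_zero₂₁, h, zero_mul])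
  have hdiag : ∀ i k, k ≠ i → D i k = 0 := by
    intro i k hk
    have h := (key (Matrix.single i i 1) (by rw [transpose_single])).2.1
    rw [Matrix.map_single, map_one] at h
    have := congrFun (congrFun h i) k
    simpa [Matrix.single_mul_apply_of_ne, Matrix.mul_single_apply_of_ne, hk, hk.symm] using this
  have hnz : ∀ i, D i i ≠ 0 := fun i h0 => hA (det_eq_zero_of_row_eq_zero i fun k => by
    rcases eq_or_ne k i with rfl | hk
    · exact h0
    · exact hdiag i k hk)
  have heq : ∀ i j, D i i = D j j := by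
    intro i j
    rcases eq_or_ne i j with rfl | hij
    · rfl
    have h := (key (Matrix.single i j 1 + Matrix.single j i 1) (by
      rw [transpose_add, transpose_single, transpose_single, add_comm])).2.1
    rw [Matrix.map_add τ (map_add τ), Matrix.map_single, Matrix.map_single, map_one, add_mul, mul_add] at h
    have := congrFun (congrFun h i) j
    simp [Matrix.single_mul_apply_of_ne, Matrix.mul_single_apply_of_ne, hij, hij.symm] at this
    exact this.symm
  refine ⟨RingEquiv.ext fun a => ?_, D ⟨0, hm⟩ ⟨0, hm⟩, hnz _, ?_⟩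
  · have h := (key (Matrix.single ⟨0, hm⟩ ⟨0, hm⟩ a) (by rw [transpose_single])).2.1
    rw [Matrix.map_single] at h
    have := congrFun (congrFun h ⟨0, hm⟩) ⟨0, hm⟩
    simp at this
    rw [mul_comm a] at this
    exact (mul_left_cancel₀ (hnz _) this).symm
  · rw [← fromBlocks_one, fromBlocks_smul, smul_zero]
    congr 1 <;>
    · ext i k
      rcases eq_or_ne i k with rfl | h
      · simp [heq i ⟨0, hm⟩]
      · simp [h, hdiag i k h.symm]

theorem fix_sp [Finite F] (hn : 2 ≤ n) (hm : 0 < m) {r : ℕ} [Fact r.Prime] [CharP F r]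
    (e : Fin m ⊕ Fin m ≃ Fin n) {g : GL (Fin n) F} {τ : F ≃+* F}
    (h : ∀ s : Matrix.symplecticGroup (Fin m) F,
      (δ g * fld τ : MulAut PSLn) * δ (glMap e (spGL s)) = δ (glMap e (spGL s)) * (δ g * fld τ)) :
    (δ g * fld τ : MulAut PSLn) = 1 := by
  obtain ⟨g', rfl⟩ := (glMap e (F := F)).surjective g
  have key : ∀ (s t : Matrix.symplecticGroup (Fin m) F), s.1.map τ = t.1 → s ^ r = 1 → t ^ r = 1 →
      s.1 * (g' : M2) = (g' : M2) * t.1 := by
    intro s t hst hs ht
    obtain ⟨c, -, hc⟩ := mem_δ_centralizer_comm hn (h s)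
    have hm' : ((glMap e (spGL s) : GL (Fin n) F) : Mn).map τ = ((glMap e (spGL t) : GL (Fin n) F) : Mn) := by
      rw [glMap_val, glMap_val, ← submatrix_map, spGL_val, spGL_val, hst]
    rw [hm'] at hc
    have hc1 : c = 1 := mult_eq_one (r := r) (by omega) (by rw [← map_pow, ← map_pow, hs, map_one, map_one])
      (by rw [← map_pow, ← map_pow, ht, map_one, map_one]) hc
    rw [hc1, one_smul, glMap_val, glMap_val, glMap_val, submatrix_mul_equiv, submatrix_mul_equiv, spGL_val,
      spGL_val] at hc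
    exact (Matrix.reindex e e).injective hc
  have hz : ∀ S : Matrix (Fin m) (Fin m) F, r • S = 0 := fun S => by
    rw [← Nat.cast_smul_eq_nsmul F, CharP.cast_eq_zero, zero_smul]
  have hu : ∀ (S : Matrix (Fin m) (Fin m) F) (hS : Sᵀ = S),
      (⟨_, upperM_mem hS⟩ : Matrix.symplecticGroup (Fin m) F) ^ r = 1 := fun S hS => Subtype.ext (by
    rw [SubmonoidClass.coe_pow, OneMemClass.coe_one, upperM_pow, hz, upperM, fromBlocks_one])
  have hl : ∀ (S : Matrix (Fin m) (Fin m) F) (hS : Sᵀ = S),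
      (⟨_, lowerM_mem hS⟩ : Matrix.symplecticGroup (Fin m) F) ^ r = 1 := fun S hS => Subtype.ext (by
    rw [SubmonoidClass.coe_pow, OneMemClass.coe_one, lowerM_pow, hz, lowerM, fromBlocks_one])
  have hmapT : ∀ {S : Matrix (Fin m) (Fin m) F}, Sᵀ = S → (S.map τ)ᵀ = S.map τ := fun {S} hS => by
    rw [← transpose_map, hS]
  obtain ⟨rfl, c, hc0, hc⟩ := sp_scalar hm (GeneralLinearGroup.det g').ne_zero τ fun S hS =>
    ⟨key ⟨_, upperM_mem hS⟩ ⟨_, upperM_mem (hmapT hS)⟩
        (by simp [upperM, fromBlocks_map, Matrix.map_one τ τ.map_zero τ.map_one]) (hu S hS) (hu _ (hmapT hS)),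
      key ⟨_, lowerM_mem hS⟩ ⟨_, lowerM_mem (hmapT hS)⟩
        (by simp [lowerM, fromBlocks_map, Matrix.map_one τ τ.map_zero τ.map_one]) (hl S hS) (hl _ (hmapT hS))⟩
  rw [map_one, mul_one, δ_eq_one_iff hn]
  refine ⟨c, hc0, ?_⟩
  rw [glMap_val, hc, submatrix_smul, Pi.smul_apply, Pi.smul_apply, submatrix_one_equiv]

/-- No odd core in the centraliser of a symplectic graph involution. -/
theorem core_symp [Fintype F] (hn : 2 ≤ n) (hm : 2 ≤ m) (h2 : (2 : F) ≠ 0) {r : ℕ} [Fact r.Prime] [CharP F r]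
    (e : Fin m ⊕ Fin m ≃ Fin n) (A : Subgroup (MulAut PSLn)) (hinn : ∀ k : PSLn, MulAut.conj k ∈ A) :
    Cfsg.pPrimeCore 2 ↥(A ⊓ Subgroup.centralizer {gaut (stdK (stdJ m F) e (det_stdJ_ne_zero m))}) = ⊥ := by
  classical
  haveI : Finite (MulAut PSLn) := Finite.of_injective _ DFunLike.coe_injective
  set x : MulAut PSLn := gaut (stdK (stdJ m F) e (det_stdJ_ne_zero m)) with hx
  refine core_eq_bot _ fun N hNH hN hNp => ?_
  have hodd : Odd (Nat.card N) := Nat.coprime_two_right.1 hNp
  set J : Subgroup (MulAut PSLn) := Cfsg.Inn PSLn ⊓ Subgroup.centralizer {x}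
  let φ : Matrix.symplecticGroup (Fin m) F →* MulAut PSLn :=
    ((δ : GL (Fin n) F →* MulAut PSLn).comp (glMap e).toMonoidHom).comp spGL
  have hiso : ∀ s : Matrix.symplecticGroup (Fin m) F, spGL s ∈ simJ (stdJ m F) := fun s => mem_simJ.2 ⟨1, by
    rw [Units.val_one, one_smul]
    exact SymplecticGroup.mem_iff'.1 s.2⟩
  have hLJ : φ.range ≤ J := by
    rintro _ ⟨s, rfl⟩
    refine ⟨δ_mem_inn_of_det_one ?_, ?_⟩
    · show ((glMap e (spGL s) : GL (Fin n) F) : Mn).det = 1
      rw [glMap_val, det_submatrix_equiv_self]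
      exact SymplecticGroup.det_eq_one s.2
    · refine Subgroup.mem_centralizer_singleton_iff.2 ((mem_cent_iff hn _ _).2 ?_)
      rw [stdK_val]
      exact (mem_simJ_glMap e).2 (hiso s)
  have hLn : ∀ y ∈ J, ∀ l ∈ φ.range, y * l * y⁻¹ ∈ φ.range := by
    rintro y ⟨hy, hyc⟩ _ ⟨s, rfl⟩
    obtain ⟨g, -, rfl⟩ := exists_of_mem_inn hy
    replace hyc : δ g * x = x * δ g := Subgroup.mem_centralizer_singleton_iff.1 hyc
    rw [hx, mem_cent_iff hn, stdK_val] at hyc
    obtain ⟨h, rfl⟩ := (glMap e (F := F)).surjective g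
    obtain ⟨c, hc⟩ := mem_simJ.1 ((mem_simJ_glMap e).1 hyc)
    set k := h * spGL s * h⁻¹ with hk
    have hkval : (k : M2) * (h : M2) = (h : M2) * s.1 := by
      rw [← Units.val_mul, hk, inv_mul_cancel_right, Units.val_mul, spGL_val]
    have hmem : (k : M2) ∈ Matrix.symplecticGroup (Fin m) F := by
      refine SymplecticGroup.mem_iff'.2 ?_
      have h1 : ((k : M2) * (h : M2))ᵀ * stdJ m F * ((k : M2) * (h : M2)) = (c : F) • stdJ m F := by
        rw [hkval, transpose_mul, show (s.1ᵀ * (h : M2)ᵀ) * stdJ m F * ((h : M2) * s.1) =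
            s.1ᵀ * ((h : M2)ᵀ * stdJ m F * (h : M2)) * s.1 by simp only [Matrix.mul_assoc], hc, Matrix.mul_smul,
          Matrix.smul_mul, show s.1ᵀ * stdJ m F * s.1 = stdJ m F from SymplecticGroup.mem_iff'.1 s.2]
      rw [← hc, transpose_mul, show ((h : M2)ᵀ * (k : M2)ᵀ) * stdJ m F * ((k : M2) * (h : M2)) =
        (h : M2)ᵀ * ((k : M2)ᵀ * stdJ m F * (k : M2)) * (h : M2) by simp only [Matrix.mul_assoc]] at h1
      have hu : IsUnit ((h : M2)ᵀ) := by
        rw [Matrix.isUnit_iff_isUnit_det, det_transpose, ← Matrix.isUnit_iff_isUnit_det]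
        exact h.isUnit
      exact hu.mul_right_injective (h.isUnit.mul_left_injective h1)
    refine ⟨⟨_, hmem⟩, ?_⟩
    show δ (glMap e (spGL ⟨_, hmem⟩)) = δ (glMap e h) * δ (glMap e (spGL s)) * (δ (glMap e h))⁻¹
    rw [show spGL (⟨_, hmem⟩ : Matrix.symplecticGroup (Fin m) F) = k from Units.ext rfl, hk, map_mul (glMap e),
      map_mul (glMap e), map_inv (glMap e), map_mul, map_mul, map_inv]
  have hF3 : 3 ≤ Nat.card F := by
    rw [Nat.card_eq_fintype_card]
    by_contra hlt
    have h1 : 1 < Fintype.card F := Fintype.one_lt_card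
    have : ((2 : ℕ) : F) = 0 := by rw [show 2 = Fintype.card F by omega]; exact Nat.cast_card_eq_zero F
    exact h2 (by exact_mod_cast this)
  -- `N` meets the image trivially
  have hNL : N ⊓ φ.range = ⊥ := by
    set M : Subgroup (Matrix.symplecticGroup (Fin m) F) := N.comap φ with hM
    haveI : M.Normal := ⟨fun a ha b => by
      rw [hM, Subgroup.mem_comap, map_mul, map_mul, map_inv]
      exact hN _ (inn_inf_le A hinn x (hLJ ⟨b, rfl⟩)) _ ha⟩
    haveI : Nonempty (Fin m) := ⟨⟨0, by omega⟩⟩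
    rw [Subgroup.eq_bot_iff_forall]
    rintro _ ⟨hy, s, rfl⟩
    rcases Classical.normal_sp_le_center_or_eq_top (by rw [Fintype.card_fin]; exact hm)
      (Classical.sp_commutator_eq_top' (Or.inr (Or.inl ⟨by rw [Fintype.card_fin]; exact hm, hF3⟩))) M with h | h
    · refine (δ_eq_one_iff hn _).2 ?_
      rcases Classical.mem_center_sp_iff.1 (h (show s ∈ M from hy)) with h' | h'
      · exact ⟨1, one_ne_zero, by
          show ((glMap e (spGL s) : GL (Fin n) F) : Mn) = _
          rw [glMap_val, spGL_val, h', submatrix_one_equiv, one_smul]⟩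
      · refine ⟨-1, neg_ne_zero.2 one_ne_zero, ?_⟩
        show ((glMap e (spGL s) : GL (Fin n) F) : Mn) = _
        rw [glMap_val, spGL_val, h', submatrix_neg, neg_one_smul]
        simp only [Pi.neg_apply, submatrix_one_equiv]
    · exfalso
      let d : Fin m ⊕ Fin m → F := fun i => if i = Sum.inl ⟨0, by omega⟩ ∨ i = Sum.inr ⟨0, by omega⟩ then -1 else 1
      have hd : Matrix.diagonal d ∈ Matrix.symplecticGroup (Fin m) F := by
        refine SymplecticGroup.mem_iff'.2 ?_
        ext i j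
        rw [diagonal_transpose, Matrix.mul_diagonal, Matrix.diagonal_mul]
        rcases i with i | i <;> rcases j with j | j <;> simp [Matrix.J, d, Matrix.one_apply] <;>
          split_ifs <;> simp_all
      have hmemN : φ ⟨_, hd⟩ ∈ N := (h ▸ Subgroup.mem_top _ : (⟨_, hd⟩ : Matrix.symplecticGroup (Fin m) F) ∈ M)
      have hdsq : φ ⟨_, hd⟩ * φ ⟨_, hd⟩ = 1 := by
        rw [← map_mul, show (⟨_, hd⟩ : Matrix.symplecticGroup (Fin m) F) * ⟨_, hd⟩ = 1 from Subtype.ext (by
          show Matrix.diagonal d * Matrix.diagonal d = 1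
          rw [Matrix.diagonal_mul_diagonal, ← Matrix.diagonal_one]
          congr 1
          funext i
          simp only [d]
          split_ifs <;> simp), map_one]
      obtain ⟨c, -, hc⟩ := (δ_eq_one_iff hn _).1 (eq_one_of_sq hodd hmemN hdsq)
      have e0 := congrFun (congrFun hc (e (Sum.inl ⟨0, by omega⟩))) (e (Sum.inl ⟨0, by omega⟩))
      have e1 := congrFun (congrFun hc (e (Sum.inl ⟨1, by omega⟩))) (e (Sum.inl ⟨1, by omega⟩))
      change Matrix.diagonal d (e.symm _) (e.symm _) = _ at e0 e1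
      simp [d, Fin.ext_iff] at e0 e1
      exact h2 (by linear_combination e1 - e0)
  refine eq_bot_two_step _ J φ.range N hNH hN (inn_inf_le A hinn x) (inn_inf_normalized A x) hLJ hLn hNL ?_
  have plain : ∀ (g : GL (Fin n) F) (τ : F ≃+* F),
      (∀ l ∈ φ.range, (δ g * fld τ : MulAut PSLn) * l = l * (δ g * fld τ)) →
      (δ g * fld τ : MulAut PSLn) = 1 := fun g τ h =>
    fix_sp (r := r) hn (by omega) e fun s => h _ ⟨s, rfl⟩
  intro y hyN hyL
  obtain ⟨g, τ, ee, he, rfl⟩ := decomp hn y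
  rcases he with rfl | ⟨rfl, -⟩
  · rw [mul_one] at hyL ⊢
    exact plain g τ hyL
  · refine eq_one_of_sq hodd hyN ?_
    have e' : (δ g * fld τ * it : MulAut PSLn) * (δ g * fld τ * it) =
        δ (g * Matrix.GeneralLinearGroup.map (τ : F →+* F) (itGL g)) * fld (τ * τ) := by
      calc (δ g * fld τ * it : MulAut PSLn) * (δ g * fld τ * it)
          = δ g * fld τ * (it * δ g) * (fld τ * it) := by simp only [mul_assoc]
        _ = δ g * (fld τ * δ (itGL g)) * it * (fld τ * it) := by rw [it_δ]; simp only [mul_assoc]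
        _ = δ g * δ (Matrix.GeneralLinearGroup.map (τ : F →+* F) (itGL g)) * fld τ * (it * fld τ) * it := by
            rw [fld_δ]; simp only [mul_assoc]
        _ = _ := by
            rw [it_fld, map_mul, map_mul (fld (n := n) (F := F))]
            simp only [mul_assoc, it_mul_self, mul_one]
    rw [e']
    refine plain _ _ fun l hl => ?_
    rw [← e', mul_assoc, hyL l hl, ← mul_assoc, hyL l hl, mul_assoc]

end CfsgLib.FgsC.LocalBalance
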