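import Cfsg.Agent.Lib.FgsC.LocalBalance.Field
import Cfsg.Agent.Lib.FgsC.LocalBalance.Graph
import Cfsg.Agent.Lib.FgsC.LocalBalance.Symp

/-!
Local balance failure in `PSL_n`: when a prime order automorphism outside the inner-diagonal group has a
centraliser with nontrivial `p'`-core.
-/

set_option autoImplicit false

namespace CfsgLib.FgsC.LocalBalance

open Matrix CfsgLib.KnownB.PSLAut CfsgLib.Geometry.GraphPSL

universe u

variable {n : ℕ} {F : Type u} [Field F]

local notation "PSLn" => Matrix.ProjectiveSpecialLinearGroup (Fin n) F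
local notation "Mn" => Matrix (Fin n) (Fin n) F

theorem stdGraph_one (u : Fin n → Fˣ) : stdGraph (1 : F ≃+* F) u = gaut (diagGL u) := by
  rw [stdGraph, map_one, mul_one, gaut]

theorem stdGraph_field (σ : F ≃+* F) : stdGraph σ (1 : Fin n → Fˣ) = fld σ * it := by
  rw [stdGraph, show (diagGL (1 : Fin n → Fˣ) : GL (Fin n) F) = 1 from Units.ext (by simp [diagGL]), inv_one,
    map_one, one_mul, it_fld]

/-- Symmetric forms are congruent, up to a scalar, to the standard diagonal ones. -/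
theorem exists_std_diag [Finite F] (hn : 3 ≤ n) (h2 : (2 : F) ≠ 0) {K : GL (Fin n) F} (hK : (K : Mn)ᵀ = (K : Mn)) :
    ∃ (u : Fin n → Fˣ) (o : Fin n), (n = 3 → u = 1) ∧ (∀ i, i ≠ o → u i = 1) ∧
      Cfsg.IsConjUnder (Cfsg.inndiagPSL n F) (gaut K) (gaut (diagGL u)) := by
  classical
  set δ₀ := GeneralLinearGroup.det K
  rcases Nat.even_or_odd n with he | ho
  · refine ⟨Function.update 1 ⟨0, by omega⟩ δ₀, ⟨0, by omega⟩, fun h => absurd he (by rw [h]; decide),
      fun i hi => by simp [hi], conj_of_congr (by omega) one_ne_zero ?_⟩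
    rw [one_smul]
    refine congr_of_disc h2 (by rw [diagGL_val, diagonal_transpose]) hK
      (by rw [← GeneralLinearGroup.val_det_apply]; exact Units.ne_zero _) δ₀.ne_zero ?_
    refine ⟨(K : Mn).det, ?_⟩
    congr 1
    rw [diagGL_val, det_diagonal, Finset.prod_eq_single ⟨0, by omega⟩ (fun i _ hi => by simp [hi]) (by simp)]
    simp [δ₀]
  · refine ⟨1, ⟨0, by omega⟩, fun _ => rfl, fun _ _ => rfl, conj_of_congr (by omega) δ₀.ne_zero ?_⟩
    have h1 : ((diagGL (1 : Fin n → Fˣ) : GL (Fin n) F) : Mn) = 1 := by simp [diagGL]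
    rw [h1]
    refine congr_of_disc h2 (by rw [transpose_smul, transpose_one]) hK ?_ δ₀.ne_zero ?_
    · rw [det_smul, det_one, mul_one]
      exact pow_ne_zero _ δ₀.ne_zero
    · obtain ⟨k, hk⟩ := ho
      refine ⟨(δ₀ : F) ^ (k + 1), ?_⟩
      subst hk
      rw [det_smul, det_one, mul_one, Fintype.card_fin, ← GeneralLinearGroup.val_det_apply]
      ring

theorem local_balance_psl (F : Type u) [Field F] [Fintype F] (r : ℕ) [Fact r.Prime] [hchar : CharP F r] (n : ℕ) (hn : 2 ≤ n)
    (A : Subgroup (MulAut (Matrix.ProjectiveSpecialLinearGroup (Fin n) F)))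
    (hinn : ∀ k : Matrix.ProjectiveSpecialLinearGroup (Fin n) F, MulAut.conj k ∈ A)
    (p : ℕ) [Fact p.Prime] (hpr : p ≠ r) (β : MulAut (Matrix.ProjectiveSpecialLinearGroup (Fin n) F)) (_ : β ∈ A)
    (hord : orderOf β = p) (hnot : ¬ Cfsg.IsInnerDiagonalAutPSL β) :
    Cfsg.pPrimeCore p ↥(A ⊓ Subgroup.centralizer {β}) ≠ ⊥ ↔
      ((∃ γ φ : MulAut (Matrix.ProjectiveSpecialLinearGroup (Fin n) F), Cfsg.IsInnerDiagonalAutPSL γ ∧
          Cfsg.IsFieldAutPSL φ ∧ β = φ.trans γ) ∧
        Nat.Coprime p (Nat.card ↥(MonoidHom.eqLocus β.toMonoidHom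
          (MonoidHom.id (Matrix.ProjectiveSpecialLinearGroup (Fin n) F))))) := by
  classical
  have hp : p.Prime := Fact.out
  haveI := range_δ_normal (F := F) hn
  obtain ⟨g, σ, e, he, hβ⟩ := decomp hn β
  rcases he with rfl | ⟨rfl, hn3⟩
  · -- field type
    rw [mul_one] at hβ
    have hσ1 : σ ≠ 1 := by
      rintro rfl
      exact hnot ((isInnerDiagonalAutPSL_iff β).2 ⟨g, by rw [hβ, map_one, mul_one]⟩)
    have hσp : orderOf σ = p := by
      have h1 : (QuotientGroup.mk' (δ : GL (Fin n) F →* MulAut _).range) (β ^ p) = 1 := by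
        rw [← hord, pow_orderOf_eq_one, map_one]
      rw [map_pow, hβ, map_mul, show (QuotientGroup.mk' (δ : GL (Fin n) F →* MulAut _).range) (δ g) = 1 from
        (QuotientGroup.eq_one_iff _).2 ⟨g, rfl⟩, one_mul, ← map_pow, ← map_pow] at h1
      exact orderOf_eq_prime (fld_mem_range hn ((QuotientGroup.eq_one_iff _).1 h1)) hσ1
    obtain ⟨a, -, ha⟩ := field_coset hn hp.pos hσp (δ g) ⟨g, rfl⟩ (by rw [← hβ, hord])
    have hcrit : Cfsg.pPrimeCore p ↥(A ⊓ Subgroup.centralizer {β}) ≠ ⊥ ↔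
        Nat.Coprime p (Nat.card ↥(MonoidHom.eqLocus β.toMonoidHom (MonoidHom.id _))) := by
      refine CfsgLib.Geometry.criterion_transport a⁻¹ β A p hinn fun A' hA' => ?_
      rw [show a⁻¹ * β * a⁻¹⁻¹ = fld σ by rw [hβ, ha]; group]
      exact core_field hn hpr hσp A' hA'
    rw [hcrit]
    refine ⟨fun h => ⟨⟨δ g, fld σ, (isInnerDiagonalAutPSL_iff _).2 ⟨g, rfl⟩, ⟨σ, ?_⟩, hβ⟩, h⟩, fun h => h.2⟩
    exact (isStdFieldAutPSL_iff σ _).2 rfl
  · -- graph type
    have hcomm : ∀ (g' : GL (Fin n) F) (σ' : F ≃+* F),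
        δ g * fld σ * it ≠ (δ g' * fld σ' : MulAut (Matrix.ProjectiveSpecialLinearGroup (Fin n) F)) := by
      intro g' σ' h
      refine δ_fld_ne_it hn3 (Matrix.GeneralLinearGroup.map ((σ⁻¹ : F ≃+* F) : F →+* F) (g⁻¹ * g')) (σ⁻¹ * σ') ?_
      rw [map_mul (fld (n := n) (F := F)), ← mul_assoc, ← fld_δ, map_inv, map_mul, map_inv, mul_assoc, mul_assoc,
        ← h]
      simp only [mul_assoc, inv_mul_cancel_left]
    have hp2 : p = 2 := by
      rcases hp.eq_two_or_odd' with h | ⟨k, hk⟩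
      · exact h
      exfalso
      have h1 : β ^ (2 * k + 1) = 1 := by rw [← hk, ← hord, pow_orderOf_eq_one]
      obtain ⟨G, T, hGT⟩ : ∃ (G : GL (Fin n) F) (T : F ≃+* F), β * β = δ G * fld T := by
        refine ⟨g * Matrix.GeneralLinearGroup.map (σ : F →+* F) (itGL g), σ * σ, ?_⟩
        calc β * β = δ g * fld σ * (it * δ g) * (fld σ * it) := by rw [hβ]; simp only [mul_assoc]
          _ = δ g * (fld σ * δ (itGL g)) * (it * fld σ) * it := by rw [it_δ]; simp only [mul_assoc]
          _ = _ := by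
            rw [fld_δ, it_fld, map_mul, map_mul (fld (n := n) (F := F))]
            simp only [mul_assoc, it_mul_self, mul_one]
      have h2 : ∀ j : ℕ, ∃ (G' : GL (Fin n) F) (T' : F ≃+* F), (δ G * fld T) ^ j = (δ G' * fld T' : MulAut _) := by
        intro j
        induction j with
        | zero => exact ⟨1, 1, by simp⟩
        | succ j ih =>
          obtain ⟨G', T', hj⟩ := ih
          refine ⟨G' * Matrix.GeneralLinearGroup.map (T' : F →+* F) G, T' * T, ?_⟩
          rw [pow_succ, hj, mul_assoc, ← mul_assoc (fld T'), fld_δ, mul_assoc, ← map_mul (fld (n := n) (F := F)),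
            ← mul_assoc, ← map_mul]
      obtain ⟨G', T', hj⟩ := h2 (k + 1)
      refine hcomm G' T' ?_
      rw [← hβ, ← hj, ← hGT, ← sq, ← pow_mul, show 2 * (k + 1) = 2 * k + 1 + 1 by ring, pow_succ, h1, one_mul]
    subst hp2
    have hF2 : (2 : F) ≠ 0 := by
      intro h
      exact hpr (CharP.eq F (charTwo_of h) hchar)
    have hbot : Cfsg.pPrimeCore 2 ↥(A ⊓ Subgroup.centralizer {β}) = ⊥ := by
      have hsq : δ g * (fld σ * it) * (δ g * (fld σ * it)) =
          (1 : MulAut (Matrix.ProjectiveSpecialLinearGroup (Fin n) F)) := by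
        rw [show δ g * (fld σ * it) = β by rw [hβ, mul_assoc], ← sq, ← hord, pow_orderOf_eq_one]
      have hσ2 : σ * σ = 1 := by
        rw [mul_assoc, ← mul_assoc (fld σ * it), fld_it_δ, mul_assoc (δ (GeneralLinearGroup.map _ _)),
          (show Commute (fld σ : MulAut _) it from (it_fld σ).symm).symm.mul_mul_mul_comm, it_mul_self, mul_one,
          ← map_mul (fld (n := n) (F := F)), ← mul_assoc, ← map_mul] at hsq
        exact (δ_fld_eq_one hn hsq).2
      by_cases hσ : σ = 1
      · subst hσ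
        have hgr : Cfsg.IsGraphAutClassPSL β := ⟨hn3, δ g, it, (isInnerDiagonalAutPSL_iff _).2 ⟨g, rfl⟩,
          (isInverseTransposeAutPSL_iff _).2 rfl, by rw [hβ, map_one, mul_one]⟩
        obtain ⟨K, hK, hKs⟩ := exists_gaut hn3 hgr hord
        rcases hKs with hKs | hKs
        · obtain ⟨u, o, h31, ho, a, -, ha⟩ := exists_std_diag hn3 hF2 hKs
          refine core_centralizer_conj a β A 2 hinn fun A' hA' => ?_
          rw [hK, ← ha, ← stdGraph_one]
          exact core_graph hn3 hF2 (fun a => rfl) (Or.inl rfl) h31 ho A' hA'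
        · obtain ⟨m, hnm⟩ : Even n := by
            by_contra he
            exact not_skew_odd hF2 (Nat.not_even_iff_odd.1 he) K hKs
          let e : Fin m ⊕ Fin m ≃ Fin n := Fintype.equivFinOfCardEq (by simp; omega)
          have hdiag : ∀ i, (K : Matrix (Fin n) (Fin n) F) i i = 0 := fun i => by
            have := congrFun (congrFun hKs i) i
            rw [transpose_apply, Matrix.neg_apply, eq_neg_iff_add_eq_zero, ← two_mul] at this
            exact (mul_eq_zero.1 this).resolve_left hF2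
          obtain ⟨a, -, ha⟩ := conj_of_congr (F := F) hn (K := K) (K' := stdK (stdJ m F) e (det_stdJ_ne_zero m))
            one_ne_zero (by
              rw [one_smul, stdK_val]
              exact (congr_alt hKs hdiag (GeneralLinearGroup.det K).ne_zero e).symm)
          refine core_centralizer_conj a β A 2 hinn fun A' hA' => ?_
          rw [hK, ← ha]
          exact core_symp hn (by omega) hF2 (r := r) e A' hA'
      · have ho2 : orderOf σ = 2 := orderOf_eq_prime (by rw [sq]; exact hσ2) hσ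
        obtain ⟨a, -, ha⟩ := graphField_coset hn3 ho2 (δ g) ⟨g, rfl⟩ (by rw [← mul_assoc, ← hβ, hord])
        refine core_centralizer_conj a⁻¹ β A 2 hinn fun A' hA' => ?_
        rw [show a⁻¹ * β * a⁻¹⁻¹ = fld σ * it by rw [hβ, mul_assoc (δ g), ha]; group, ← stdGraph_field]
        exact core_graph hn3 hF2 (sq_eq_of_orderOf_two ho2) (Or.inr rfl) (fun _ => rfl) (o := ⟨0, by omega⟩)
          (fun _ _ => rfl) A' hA'
    refine ⟨fun h => absurd hbot h, ?_⟩
    rintro ⟨⟨γ, φ, hγ, hφ, hb⟩, -⟩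
    obtain ⟨g', rfl⟩ := (isInnerDiagonalAutPSL_iff γ).1 hγ
    obtain ⟨σ', hσ'⟩ := hφ
    obtain rfl := (isStdFieldAutPSL_iff σ' φ).1 hσ'
    exact absurd (hβ.symm.trans hb) (hcomm g' σ')

end CfsgLib.FgsC.LocalBalance
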