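import Cfsg.Agent.Lib.FgsC.LocalBalance.PSLBasic
import Cfsg.Agent.Lib.KnownB.PSUAut.Field
import Cfsg.Agent.Lib.KnownB.PSUAut.Rows
import Cfsg.Agent.Lib.Classical.PSU32

/-!
Commutation of automorphisms of `PSU_n` with conjugations.
-/

set_option autoImplicit false

namespace CfsgLib.FgsC.LocalBalance

open Matrix CfsgLib.Classical CfsgLib.Classical.Unitary CfsgLib.KnownB.PSUAut

variable {n p q : ℕ} {F : Type*} [Field F] [Finite F] {σ : F →+* F}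

local notation "PU" => Cfsg.PSU n F q
local notation "Mn" => Matrix (Fin n) (Fin n) F

theorem psu_three_two_not_simple (hF : Nat.card F = q ^ 2) (hK : IsSimpleGroup (Cfsg.PSU n F q)) :
    ¬ (n = 3 ∧ q = 2) := by
  rintro ⟨rfl, hq⟩
  obtain ⟨hcard, N, hN, hN9, -, -⟩ := psu32_structure hF hq
  rcases hN.eq_bot_or_eq_top with h | h
  · rw [h, Subgroup.card_bot] at hN9; omega
  · rw [h, Subgroup.card_top, hcard] at hN9; omega

theorem exists_setting_of_card [Fintype F] {r : ℕ} [Fact r.Prime] [CharP F r] (hF : Fintype.card F = q ^ 2)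
    (hn : 3 ≤ n) : ∃ (f : ℕ) (σ : F →+* F), q = r ^ f ∧ 1 ≤ f ∧ Setting F σ r q n := by
  obtain ⟨k, -, hk⟩ := FiniteField.card F r
  obtain ⟨f, hfk, hf⟩ : ∃ f ≤ (k : ℕ), q = r ^ f :=
    (Nat.dvd_prime_pow (Fact.out : r.Prime)).1 (hk ▸ hF ▸ dvd_pow_self q two_ne_zero)
  have hf1 : 1 ≤ f := by
    by_contra h
    have hf0 : f = 0 := by omega
    have := Fintype.one_lt_card (α := F)
    rw [hF, hf, hf0, pow_zero, one_pow] at this
    omega
  obtain ⟨σ, S⟩ := exists_setting (F := F) hf hf1 hF hn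
  exact ⟨f, σ, hf, hf1, S⟩

theorem δ_eq_smul (S : Setting F σ p q n) (hn : 3 ≤ n) {g h : Cfsg.GU n F q}
    (he : (δ g : MulAut PU) = δ h) : ∃ c : F, c ≠ 0 ∧ h.1.1 = c • g.1.1 := by
  obtain ⟨u, hu⟩ := (S.δ_eq_one_iff hn (h * g⁻¹)).1 (by rw [map_mul, map_inv, he, mul_inv_cancel])
  refine ⟨((u : Fˣ) : F), Units.ne_zero _, ?_⟩
  rw [← scalarGU_val, ← mul_inv_eq_iff_eq_mul.1 hu]

theorem δ_one_of_scalar {g : Cfsg.GU n F q} {c : F} (hc : c ≠ 0) (hg : g.1.1 = c • (1 : Mn)) :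
    (δ g : MulAut PU) = 1 := by
  refine δ_scalar (Units.mk0 c hc) g (Units.ext ?_)
  rw [hg]
  show _ = Matrix.scalar (Fin n) c
  rw [Matrix.scalar_apply, ← Matrix.smul_one_eq_diagonal]

theorem psu_comm (S : Setting F σ p q n) (hn : 3 ≤ n) {g h : Cfsg.GU n F q} {υ : F ≃+* F}
    (hc : (δ g * fld υ : MulAut PU) * δ h = δ h * (δ g * fld υ)) :
    ∃ c : F, c ≠ 0 ∧ h.1.1 * g.1.1 = c • (g.1.1 * h.1.1.map υ) := by
  rw [mul_assoc, fld_δ', ← mul_assoc, ← map_mul δ, ← mul_assoc, ← map_mul δ, mul_left_inj] at hc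
  obtain ⟨c, hc0, he⟩ := δ_eq_smul S hn hc
  exact ⟨c, hc0, he⟩

theorem psu_conj_injective (S : Setting F σ p q n) (hn : 3 ≤ n) :
    Function.Injective (MulAut.conj : PU →* MulAut PU) := by
  rw [← MonoidHom.ker_eq_bot_iff, Subgroup.eq_bot_iff_forall]
  intro x hx
  obtain ⟨s, rfl⟩ := π_surjective x
  rw [MonoidHom.mem_ker, conj_π] at hx
  obtain ⟨c, -, hc⟩ := δ_eq_smul S hn (hx.trans (map_one δ).symm).symm
  rw [π_eq_one_iff, Subgroup.mem_center_iff]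
  intro t
  refine Subtype.ext (Subtype.ext ?_)
  show t.1.1 * s.1.1 = s.1.1 * t.1.1
  rw [show s.1.1 = c • (1 : Mn) from hc, Matrix.mul_smul, Matrix.smul_mul, mul_one, one_mul]

theorem psu_mem_inn_iff_rep {y : MulAut PU} :
    y ∈ Cfsg.Inn PU ↔ ∃ h : Cfsg.GU n F q, h.1.1.det = 1 ∧ y = δ h := by
  rw [KnownB.PSUAut.inn_eq]
  constructor
  · rintro ⟨s, rfl⟩
    exact ⟨toGU s, s.1.2, rfl⟩
  · rintro ⟨h, hd, rfl⟩
    exact ⟨⟨⟨h.1.1, hd⟩, h.2⟩, congrArg δ (Subtype.ext (Units.ext rfl))⟩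

end CfsgLib.FgsC.LocalBalance
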