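import Cfsg.Agent.Lib.FgsC.LocalBalance.PSUBasic
import Cfsg.Agent.Lib.FgsC.LocalBalance.Monomial

/-!
The core of the centraliser of a standard field automorphism of `PSU_n`.
-/

set_option autoImplicit false

namespace CfsgLib.FgsC.LocalBalance

open Matrix CfsgLib.Classical CfsgLib.Classical.Unitary CfsgLib.KnownB.PSUAut

variable {n p q : ℕ} {F : Type*} [Field F] [Finite F] {σ : F →+* F}
variable {F₀ : Type*} [Field F₀] [Finite F₀] {q₀ e : ℕ} {σ₀ : F₀ →+* F₀} {ι : F₀ →+* F} {τ : F ≃+* F}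

local notation "PU" => Cfsg.PSU n F q
local notation "Mn" => Matrix (Fin n) (Fin n) F

/-- Ratios of norm `-1` elements fixed by an automorphism force it to fix the whole field. -/
theorem fixes_all {K L : Type*} [Field K] [Field L] (j : K →+* L) (υ : L ≃+* L) {σ₁ : K →+* K}
    (hσ2 : ∀ a, σ₁ (σ₁ a) = a) (hσ : σ₁ ≠ RingHom.id K) {a₀ : K} (ha₀ : a₀ * σ₁ a₀ = -1)
    (h : ∀ a, a * σ₁ a = -1 → υ (j a) = j a) : ∀ v, υ (j v) = j v := by
  have hout : ∀ v : K, σ₁ v ≠ v → υ (j v) = j v := by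
    intro v hv
    have hv0 : v ≠ 0 := by rintro rfl; exact hv (map_zero _)
    have hv1 : v + 1 ≠ 0 := fun e => hv (by rw [show v = -1 by linear_combination e, map_neg, map_one])
    have ha00 : a₀ ≠ 0 := fun e => by simp [e] at ha₀
    have hratio : ∀ w : K, w ≠ 0 → υ (j (w / σ₁ w)) = j (w / σ₁ w) := by
      intro w hw
      have hσw : σ₁ w ≠ 0 := (map_ne_zero σ₁).2 hw
      have hw1 := h (a₀ * (w / σ₁ w)) (by
        rw [map_mul, map_div₀, hσ2]
        field_simp
        linear_combination ha₀)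
      rw [map_mul, map_mul, h a₀ ha₀] at hw1
      exact mul_left_cancel₀ ((map_ne_zero j).2 ha00) hw1
    have h1 := hratio v hv0
    have h3 := hratio (v + 1) hv1
    have hσv : σ₁ v ≠ 0 := (map_ne_zero σ₁).2 hv0
    have hσv1 : σ₁ v + 1 ≠ 0 := by
      have := (map_ne_zero σ₁).2 hv1
      rwa [map_add, map_one] at this
    rw [map_add σ₁, map_one] at h3
    have hne : v / σ₁ v - (v + 1) / (σ₁ v + 1) ≠ 0 := by
      intro e
      field_simp at e
      exact hv (by linear_combination -e)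
    have hσv' : σ₁ v = ((v + 1) / (σ₁ v + 1) - 1) / (v / σ₁ v - (v + 1) / (σ₁ v + 1)) := by
      rw [eq_div_iff hne]
      field_simp
      ring
    have hs : υ (j (σ₁ v)) = j (σ₁ v) := by
      rw [hσv', map_div₀ j, map_div₀ υ, map_sub j, map_sub υ, map_sub j, map_sub υ, h1, h3, map_one, map_one]
    have e : j v = j (v / σ₁ v) * j (σ₁ v) := by rw [← map_mul, div_mul_cancel₀ v hσv]
    rw [e, map_mul, h1, hs]
  obtain ⟨w₀, hw₀⟩ : ∃ w, σ₁ w ≠ w := by
    by_contra e
    push Not at e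
    exact hσ (RingHom.ext e)
  intro v
  by_cases hv : σ₁ v = v
  · have h1 := hout (v + w₀) (by rw [map_add, hv]; exact fun e => hw₀ (add_left_cancel e))
    rw [map_add, map_add, hout w₀ hw₀] at h1
    exact add_right_cancel h1
  · exact hout v hv

/-- An automorphism centralising the special unitary group of a subfield is a field automorphism fixing it. -/
theorem psu_fix (S : Setting F σ p q n) (hn : 3 ≤ n) (B : Sub τ e q σ₀ q₀ ι) {g : Cfsg.GU n F q} {υ : F ≃+* F}
    (h : ∀ s : Cfsg.SU n F₀ q₀, (δ g * fld υ : MulAut PU) * δ (B.incl S.frob S.q_ne (toGU s)) =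
      δ (B.incl S.frob S.q_ne (toGU s)) * (δ g * fld υ)) :
    (∀ a, υ (ι a) = ι a) ∧ (δ g : MulAut PU) = 1 := by
  classical
  haveI := S.char
  haveI := Fact.mk S.prime
  haveI : CharP F₀ p := (RingHom.charP_iff_charP ι p).2 inferInstance
  obtain ⟨c, hc0, hc⟩ := exists_skew B.frob
  -- the key relation
  have key : ∀ v : Fin n → F₀, v ≠ 0 → uh σ₀ v v = 0 →
      ∃ α : F, g.1.1 *ᵥ (fun i => υ (ι (v i))) = α • (fun i => ι (v i)) := by
    intro v hv hvv
    set s := utv B.frob v c hvv hc with hs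
    obtain ⟨l, -, hl⟩ := psu_comm S hn (h s)
    set E : Matrix (Fin n) (Fin n) F₀ := c • r1 σ₀ v v with hE
    have hE2 : E * E = 0 := by
      rw [hE, r1, Matrix.mul_smul, Matrix.smul_mul, smul_smul, vecMulVec_mul_vecMulVec]
      have : (σ₀ ∘ v) ⬝ᵥ v = 0 := by rw [dotProduct_comm]; exact hvv
      rw [this, zero_smul, Matrix.vecMulVec_zero, smul_zero]
    have hsv : (B.incl S.frob S.q_ne (toGU s)).1.1 = 1 + E.map ι := by
      rw [Sub.incl_val]
      show (tMat σ₀ v c).map ι = _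
      rw [tMat, Matrix.map_add ι (map_add ι), Matrix.map_one ι ι.map_zero ι.map_one]
    have hpow : ∀ k : ℕ, ∀ A : Mn, A * A = 0 → (1 + A) ^ k = 1 + (k : F) • A := by
      intro k A hA
      induction k with
      | zero => simp
      | succ k ih =>
        rw [pow_succ, ih, add_mul, mul_add, mul_add, one_mul, mul_one, Matrix.smul_mul, hA, smul_zero, add_zero,
          Nat.cast_succ, add_smul, one_smul, one_mul, add_assoc, add_comm A]
    have hA2 : ∀ φ : F₀ →+* F, (E.map φ) * (E.map φ) = 0 := fun φ => by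
      rw [← Matrix.map_mul, hE2, Matrix.map_zero φ φ.map_zero]
    rw [hsv, Matrix.map_add υ (map_add υ), Matrix.map_one υ υ.map_zero υ.map_one, Matrix.map_map] at hl
    have hE' : (E.map (υ ∘ ι)) = E.map ((υ : F →+* F).comp ι) := rfl
    rw [hE'] at hl
    have hl1 : l = 1 := by
      have hu : ∀ φ : F₀ →+* F, IsUnit (1 + E.map φ) := fun φ => by
        refine IsUnit.of_mul_eq_one (1 - E.map φ) ?_
        rw [add_mul, mul_sub, mul_sub, one_mul, mul_one, hA2, one_mul, sub_zero, sub_add_cancel]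
      have hr : ∀ φ : F₀ →+* F, ((hu φ).unit : GL (Fin n) F) ^ p = 1 := fun φ => Units.ext (by
        rw [Units.val_pow_eq_pow_val, IsUnit.unit_spec, hpow p _ (hA2 φ), CharP.cast_eq_zero, zero_smul, add_zero,
          Units.val_one])
      exact mult_eq_one (r := p) (g := g.1) (h := (hu ι).unit) (h' := (hu ((υ : F →+* F).comp ι)).unit) (by omega)
        (hr _) (hr _) hl
    rw [hl1, one_smul, add_mul, one_mul, mul_add, mul_one] at hl
    have h2 := add_left_cancel (G := Mn) hl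
    have hmap : ∀ φ : F₀ →+* F, E.map φ = φ c • vecMulVec (fun i => φ (v i)) (fun i => φ (σ₀ (v i))) := fun φ => by
      ext i j
      simp [hE, r1, vecMulVec_apply, mul_assoc]
    rw [hmap, hmap, Matrix.smul_mul, Matrix.mul_smul, vecMulVec_mul, mul_vecMulVec] at h2
    obtain ⟨j, hj⟩ := Function.ne_iff.1 hv
    set φ := (υ : F →+* F).comp ι with hφ
    have hd : φ c * φ (σ₀ (v j)) ≠ 0 :=
      mul_ne_zero ((map_ne_zero φ).2 hc0) ((map_ne_zero φ).2 ((map_ne_zero σ₀).2 hj))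
    refine ⟨(φ c * φ (σ₀ (v j)))⁻¹ * (ι c * ((fun i => ι (σ₀ (v i))) ᵥ* g.1.1) j), funext fun i => ?_⟩
    have h3 := congrFun (congrFun h2 i) j
    simp only [Matrix.smul_apply, vecMulVec_apply, smul_eq_mul] at h3
    show (g.1.1 *ᵥ fun i => φ (v i)) i = _
    rw [Pi.smul_apply, smul_eq_mul, mul_assoc, mul_assoc, eq_inv_mul_iff_mul_eq₀ hd]
    linear_combination -h3
  -- two isotropic points on each coordinate line
  have hm1 : ((-1 : F₀)) ^ q₀ = -1 := by rw [← B.frob.pow, map_neg, map_one]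
  obtain ⟨a₀, ha₀⟩ := exists_pow_succ_eq B.card hm1
  have ha₀' : a₀ * σ₀ a₀ = -1 := by rw [B.frob.pow, ← pow_succ']; exact ha₀
  have ha00 : a₀ ≠ 0 := fun e => by simp [e] at ha₀'
  obtain ⟨a₁, ha₁', hne⟩ : ∃ a₁, a₁ * σ₀ a₁ = -1 ∧ a₁ ≠ a₀ := by
    obtain ⟨ω, hω, hω1⟩ := exists_normOne_sq_ne_one B.card
    refine ⟨ω * a₀, ?_, fun e => hω1 ?_⟩
    · rw [map_mul, B.frob.pow ω]
      calc ω * a₀ * (ω ^ q₀ * σ₀ a₀) = ω ^ (q₀ + 1) * (a₀ * σ₀ a₀) := by ring
        _ = -1 := by rw [hω, ha₀', one_mul]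
    · have : ω = 1 := mul_right_cancel₀ ha00 (e.trans (one_mul a₀).symm)
      rw [this, one_pow]
  have hrel : ∀ i j, i ≠ j → ∀ a : F₀, a * σ₀ a = -1 →
      ∃ α : F, ∀ r, g.1.1 r i + υ (ι a) * g.1.1 r j = α * ((if r = i then 1 else 0) + ι a * if r = j then 1 else 0) := by
    intro i j hij a ha
    let v : Fin n → F₀ := Pi.single i 1 + Pi.single j a
    have hv : v ≠ 0 := fun e => by simpa [v, hij] using congrFun e i
    obtain ⟨α, hα⟩ := key v hv (by
      simp only [v, uh_add_left, uh_add_right, uh_single_left, Pi.single_eq_same, Pi.single_eq_of_ne hij,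
        Pi.single_eq_of_ne hij.symm, map_zero, mul_zero, map_one, mul_one, add_zero, zero_add]
      linear_combination ha)
    refine ⟨α, fun r => ?_⟩
    have h1 := congrFun hα r
    have hfun : (fun i => υ (ι (v i))) = Pi.single i 1 + Pi.single j (υ (ι a)) := by
      funext k
      simp only [v, Pi.add_apply, map_add, Pi.single_apply]
      split_ifs <;> simp
    rw [hfun, mulVec_add, Pi.add_apply, mulVec_single, mulVec_single, Pi.smul_apply] at h1
    simp only [v, Pi.add_apply, map_add, Pi.single_apply, Pi.smul_apply, smul_eq_mul, MulOpposite.smul_eq_mul_unop,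
      MulOpposite.unop_op, apply_ite ι, map_one, map_zero, mul_one, Matrix.col_apply] at h1
    rw [mul_comm (υ (ι a))]
    convert h1 using 2
    split_ifs <;> simp
  have hι : υ (ι a₁) - υ (ι a₀) ≠ 0 :=
    sub_ne_zero.2 fun e => hne (ι.injective (υ.injective e))
  have hoff : ∀ r i, r ≠ i → g.1.1 r i = 0 := by
    intro r i hri
    obtain ⟨j, hji, hjr⟩ := KnownB.PSLAut.third hn i r
    obtain ⟨α₀, h0⟩ := hrel i j hji.symm a₀ ha₀'
    obtain ⟨α₁, h1⟩ := hrel i j hji.symm a₁ ha₁'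
    have e0 := h0 r
    have e1 := h1 r
    rw [if_neg hri, if_neg hjr.symm, mul_zero, add_zero, mul_zero] at e0 e1
    have h3 : (υ (ι a₁) - υ (ι a₀)) * g.1.1 r j = 0 := by linear_combination e1 - e0
    rw [(mul_eq_zero.1 h3).resolve_left hι, mul_zero, add_zero] at e0
    exact e0
  set t := fun i => g.1.1 i i with ht
  have hpair : ∀ i j, i ≠ j → ∀ a, a * σ₀ a = -1 → υ (ι a) * t j = t i * ι a := by
    intro i j hij a ha
    obtain ⟨α, hα⟩ := hrel i j hij a ha
    have e1 := hα i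
    have e2 := hα j
    rw [hoff i j hij, if_pos rfl, if_neg hij, mul_zero, add_zero, mul_zero, add_zero, mul_one] at e1
    rw [hoff j i hij.symm, if_pos rfl, if_neg hij.symm, zero_add, mul_one, zero_add] at e2
    rw [e2, ← e1]
  have hgd : g.1.1 = diagonal t := by
    ext r s
    rcases eq_or_ne r s with rfl | hrs
    · simp [t]
    · simp [hrs, hoff r s hrs]
  have ht0 := fun i => (fun h0 : t i = 0 => (GeneralLinearGroup.det g.1).ne_zero (by
    rw [GeneralLinearGroup.val_det_apply, hgd, det_diagonal]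
    exact Finset.prod_eq_zero (Finset.mem_univ i) h0))
  have hι0 : ι a₀ ≠ 0 := (map_ne_zero ι).2 ha00
  have hυ0 : υ (ι a₀) ≠ 0 := (map_ne_zero υ).2 hι0
  have heq : ∀ i j, t i = t j := by
    intro i j
    rcases eq_or_ne i j with rfl | hij
    · rfl
    obtain ⟨k, hki, hkj⟩ := KnownB.PSLAut.third hn i j
    have h1 := hpair i k hki.symm a₀ ha₀'
    have h2 := hpair j k hkj.symm a₀ ha₀'
    exact mul_right_cancel₀ hι0 (h1.symm.trans h2)
  have hfix : ∀ a, a * σ₀ a = -1 → υ (ι a) = ι a := by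
    intro a ha
    have hij : (⟨0, by omega⟩ : Fin n) ≠ ⟨1, by omega⟩ := by simp [Fin.ext_iff]
    have h1 := hpair _ _ hij a ha
    rw [heq ⟨1, by omega⟩ ⟨0, by omega⟩, mul_comm] at h1
    exact mul_left_cancel₀ (ht0 _) h1
  refine ⟨fixes_all ι υ B.frob.invol B.frob.ne ha₀' hfix, δ_one_of_scalar (c := t ⟨0, by omega⟩) (ht0 _) ?_⟩
  rw [hgd, Matrix.smul_one_eq_diagonal]
  congr 1
  funext i
  exact heq i _

/-- The criterion for the standard field automorphism of `PSU_n`. -/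
theorem core_field_psu (S : Setting F σ p q n) (hn : 3 ≤ n) (h32 : n = 3 → 3 ≤ q) {r : ℕ} [Fact r.Prime]
    (hodd : Odd r) (hrp : r ≠ p) (B : Sub τ r q σ₀ q₀ ι) (A : Subgroup (MulAut PU))
    (hinn : ∀ k : PU, MulAut.conj k ∈ A) :
    Cfsg.pPrimeCore r ↥(A ⊓ Subgroup.centralizer {(fld τ : MulAut PU)}) ≠ ⊥ ↔
      Nat.Coprime r (Nat.card ↥(MonoidHom.eqLocus (fld τ : MulAut PU).toMonoidHom (MonoidHom.id PU))) := by
  classical
  have hr : r.Prime := Fact.out
  haveI : NeZero n := ⟨by omega⟩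
  haveI : Finite (MulAut PU) := Finite.of_injective _ DFunLike.coe_injective
  haveI : Finite (Cfsg.GU n F₀ q₀) := inferInstance
  set x : MulAut PU := fld τ with hx
  rw [card_fixed (psu_conj_injective S hn) x]
  set J : Subgroup (MulAut PU) := Cfsg.Inn PU ⊓ Subgroup.centralizer {x}
  have hJH := inn_inf_le A hinn x
  have hJn := inn_inf_normalized A x
  let ψ : Cfsg.GU n F₀ q₀ →* MulAut PU := δ.comp (B.incl S.frob S.q_ne)
  let φ : Cfsg.SU n F₀ q₀ →* MulAut PU := ψ.comp toGU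
  have hincl : ∀ h : Cfsg.GU n F₀ q₀, (B.incl S.frob S.q_ne h).1.1.det = ι h.1.1.det := fun h => by
    rw [Sub.incl_val, ← RingHom.mapMatrix_apply, ← RingHom.map_det]
  have hLJ : φ.range ≤ J := by
    rintro _ ⟨s, rfl⟩
    refine ⟨psu_mem_inn_iff_rep.2 ⟨_, ?_, rfl⟩, Subgroup.mem_centralizer_singleton_iff.2
      ((S.fixed_GU hn B _).2 ⟨1, toGU s, by rw [map_one, one_mul]⟩)⟩
    rw [hincl, show (toGU s).1.1.det = 1 from s.1.2, map_one]
  have hJrep : ∀ y ∈ J, ∃ h : Cfsg.GU n F₀ q₀, y = ψ h := by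
    rintro y ⟨hy, hyc⟩
    obtain ⟨g, -, rfl⟩ := psu_mem_inn_iff_rep.1 hy
    obtain ⟨w, h, hh⟩ := (S.fixed_GU hn B g).1 (Subgroup.mem_centralizer_singleton_iff.1 hyc)
    refine ⟨h, ?_⟩
    show _ = δ (B.incl S.frob S.q_ne h)
    rw [hh, map_mul, (S.δ_eq_one_iff hn _).2 ⟨w, rfl⟩, one_mul]
  have hLn : ∀ y ∈ J, ∀ l ∈ φ.range, y * l * y⁻¹ ∈ φ.range := by
    rintro y hy _ ⟨s, rfl⟩
    obtain ⟨h, rfl⟩ := hJrep y hy
    refine ⟨conjSU h s, ?_⟩
    show ψ (toGU (conjSU h s)) = ψ h * ψ (toGU s) * (ψ h)⁻¹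
    rw [← map_inv, ← map_mul, ← map_mul]
    exact congrArg ψ (Subtype.ext (Units.ext rfl))
  have hscal : ∀ s, φ s = 1 → ∃ c : F₀, s.1.1 = c • (1 : Matrix (Fin n) (Fin n) F₀) := by
    intro s hs
    obtain ⟨c, -, hc⟩ := δ_eq_smul S hn (hs.trans (map_one δ).symm).symm
    refine ⟨s.1.1 0 0, Matrix.ext fun i j => ι.injective ?_⟩
    have e : ∀ i j, ι (s.1.1 i j) = c * (1 : Mn) i j := fun i j => by
      have := congrFun (congrFun hc i) j
      rw [Sub.incl_val, Matrix.map_apply, Matrix.smul_apply, smul_eq_mul] at this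
      exact this
    rw [Matrix.smul_apply, smul_eq_mul, map_mul, e, e, Matrix.one_apply_eq, mul_one]
    rcases eq_or_ne i j with rfl | h <;> simp [*]
  have hτn : ∀ υ : F ≃+* F, (∀ a, υ (ι a) = ι a) → (fld υ : MulAut PU) ^ r = 1 := by
    intro υ hυ
    obtain ⟨i, rfl⟩ := Subgroup.mem_zpowers_iff.1
      (CfsgLib.KnownB.PSpAut.mem_zpowers_of_fix τ υ fun a ha => by
        obtain ⟨y, rfl⟩ := (B.fix a).1 ha
        exact hυ y)
    rw [← map_pow, ← zpow_natCast, ← _root_.zpow_mul, mul_comm, _root_.zpow_mul, zpow_natCast, ← B.order,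
      pow_orderOf_eq_one, _root_.one_zpow, map_one]
  have hfix : ∀ α : MulAut PU, (∀ l ∈ φ.range, α * l = l * α) → α ^ r = 1 := by
    intro α hα
    obtain ⟨g, υ, rfl⟩ := S.decomp hn h32 α
    obtain ⟨h1, h2⟩ := psu_fix S hn B fun s => hα _ ⟨s, rfl⟩
    rw [h2, one_mul]
    exact hτn υ h1
  obtain ⟨c₀, hc₀0, hc₀⟩ := exists_skew B.frob
  have hm1 : ((-1 : F₀)) ^ q₀ = -1 := by rw [← B.frob.pow, map_neg, map_one]
  obtain ⟨a₀, ha₀⟩ := exists_pow_succ_eq B.card hm1
  obtain ⟨i0, i1, hij⟩ : ∃ a b : Fin n, a ≠ b := ⟨⟨0, by omega⟩, ⟨1, by omega⟩, by simp [Fin.ext_iff]⟩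
  constructor
  swap
  · intro hcop
    refine core_ne_bot _ J hJH hJn hcop.symm fun hJ => ?_
    let v : Fin n → F₀ := Pi.single i0 1 + Pi.single i1 a₀
    have hv : uh σ₀ v v = 0 := by
      simp only [v, uh_add_left, uh_add_right, uh_single_left, Pi.single_eq_same, Pi.single_eq_of_ne hij,
        Pi.single_eq_of_ne hij.symm, map_zero, mul_zero, map_one, mul_one, add_zero, zero_add]
      rw [B.frob.pow, ← pow_succ', ha₀]
      ring
    have h1 : φ (utv B.frob v c₀ hv hc₀) ∈ J := hLJ ⟨_, rfl⟩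
    rw [hJ, Subgroup.mem_bot] at h1
    obtain ⟨c, hc⟩ := hscal _ h1
    have h2 := congrFun (congrFun hc i0) i1
    simp only [utv, tMat, r1, v, Matrix.add_apply, Matrix.smul_apply, vecMulVec_apply, Matrix.one_apply, hij,
      if_false, Function.comp_apply, Pi.add_apply, Pi.single_eq_same, Pi.single_eq_of_ne hij.symm,
      Pi.single_eq_of_ne hij, add_zero, zero_add, smul_eq_mul, mul_zero, one_mul] at h2
    have ha00 : σ₀ a₀ ≠ 0 := (map_ne_zero σ₀).2 fun e => by simp [e, zero_pow] at ha₀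
    exact mul_ne_zero hc₀0 ha00 h2
  intro hne
  by_contra hcop
  have hrJ : r ∣ Nat.card J := by
    by_contra hd
    exact hcop (hr.coprime_iff_not_dvd.2 hd)
  refine hne (core_eq_bot _ fun N hNH hN hNp => eq_bot_two_step _ J φ.range N hNH hN hJH hJn hLJ hLn ?_
    fun m hm hmc => eq_one_of_pow_eq_one hNp hm (hfix m hmc))
  -- `r` divides the order of the image
  have hrL : r ∣ Nat.card φ.range := by
    set M := Nat.card (normOne F₀ q₀)
    by_cases hM : r ∣ M
    · obtain ⟨ζ, hζ⟩ := exists_prime_orderOf_dvd_card' r hM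
      let t : Fin n → F₀ := fun i => if i = i0 then ((ζ : F₀ˣ) : F₀) else if i = i1 then ((ζ⁻¹ : normOne F₀ q₀) : F₀ˣ) else 1
      have htd : (Matrix.diagonal t).det = 1 := by
        rw [det_diagonal, ← Finset.prod_subset (Finset.subset_univ {i0, i1}) (fun i _ hi => by
          simp only [Finset.mem_insert, Finset.mem_singleton, not_or] at hi
          simp [t, hi.1, hi.2]), Finset.prod_pair hij]
        simp [t, hij.symm]
      have hN1 : ∀ u : normOne F₀ q₀, ((u : F₀ˣ) : F₀) ^ (q₀ + 1) = 1 := fun u =>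
        congrArg Units.val (MonoidHom.mem_ker.1 u.2)
      let d : Cfsg.SU n F₀ q₀ := ⟨⟨_, htd⟩, diagonal_mem_SU (fun i => by
        simp only [t]
        split_ifs
        · exact hN1 ζ
        · exact hN1 ζ⁻¹
        · exact one_pow _) htd⟩
      have hdp : φ d ^ r = 1 := by
        rw [← map_pow, show d ^ r = 1 from ?_, map_one]
        refine Subtype.ext (Subtype.ext ?_)
        show ((d.1 ^ r : Matrix.SpecialLinearGroup (Fin n) F₀) : Matrix (Fin n) (Fin n) F₀) = 1
        rw [Matrix.SpecialLinearGroup.coe_pow, show (d.1 : Matrix (Fin n) (Fin n) F₀) = diagonal t from rfl,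
          diagonal_pow, ← diagonal_one]
        congr 1
        funext i
        simp only [Pi.pow_apply, t]
        split_ifs <;> simp [← Units.val_pow_eq_pow_val, ← SubmonoidClass.coe_pow, ← hζ, pow_orderOf_eq_one]
      have hdne : φ d ≠ 1 := by
        intro h
        obtain ⟨c, hc⟩ := hscal d h
        have e0 := congrFun (congrFun hc i0) i0
        have e1 := congrFun (congrFun hc i1) i1
        simp only [d, Matrix.diagonal_apply_eq, t, if_pos, if_neg hij.symm, Matrix.smul_apply, Matrix.one_apply_eq,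
          smul_eq_mul, mul_one] at e0 e1
        have h3 : ζ * ζ = 1 := by
          have : (ζ : F₀ˣ) = ((ζ⁻¹ : normOne F₀ q₀) : F₀ˣ) := Units.ext (e0.trans e1.symm)
          nth_rewrite 2 [Subtype.ext this]
          exact mul_inv_cancel ζ
        have h4 : orderOf ζ ∣ 2 := orderOf_dvd_of_pow_eq_one (by rw [sq, h3])
        rw [hζ, Nat.prime_dvd_prime_iff_eq hr Nat.prime_two] at h4
        exact absurd (h4 ▸ hodd) (by decide)
      have ho : orderOf (φ d) = r := orderOf_eq_prime hdp hdne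
      rw [← ho, ← Subgroup.orderOf_mk _ (show φ d ∈ φ.range from ⟨d, rfl⟩)]
      exact orderOf_dvd_natCard _
    · obtain ⟨y, hy⟩ := exists_prime_orderOf_dvd_card' r hrJ
      obtain ⟨h, hh⟩ := hJrep y y.2
      have hyr : orderOf (y : MulAut PU) = r := by rw [Subgroup.orderOf_coe, hy]
      have hpow : (y : MulAut PU) ^ M ∈ φ.range := by
        have hd : (h ^ M : Cfsg.GU n F₀ q₀).1.1.det = 1 := by
          have h1 := congrArg (fun u : normOne F₀ q₀ => ((u : F₀ˣ) : F₀))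
            (show detN B.card (by omega : 1 ≤ n) (h ^ M) = 1 by rw [map_pow, pow_card_eq_one'])
          exact h1
        refine ⟨⟨⟨(h ^ M : Cfsg.GU n F₀ q₀).1.1, hd⟩, (h ^ M).2⟩, ?_⟩
        rw [hh, ← map_pow]
        exact congrArg ψ (Subtype.ext (Units.ext rfl))
      have hymem : (y : MulAut PU) ∈ φ.range := by
        obtain ⟨a, ha⟩ := exists_pow_eq_self_of_coprime (x := (y : MulAut PU)) (n := M)
          (by rw [hyr]; exact (hr.coprime_iff_not_dvd.2 hM).symm)
        rw [← ha]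
        exact pow_mem hpow a
      rw [← hyr, ← Subgroup.orderOf_mk _ hymem]
      exact orderOf_dvd_natCard _
  -- `N` meets the image trivially
  set M : Subgroup (Cfsg.SU n F₀ q₀) := N.comap φ with hM
  haveI hMn : M.Normal := ⟨fun a ha b => by
    rw [hM, Subgroup.mem_comap, map_mul, map_mul, map_inv]
    exact hN _ (hJH (hLJ ⟨b, rfl⟩)) _ ha⟩
  have hcen : ∀ s, s ∈ Subgroup.center (Cfsg.SU n F₀ q₀) → φ s = 1 := by
    intro s hs
    obtain ⟨c, hc, -, hsc⟩ := SU_center_scalar B.card (by omega) hs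
    have hc0 : c ≠ 0 := fun e => by simp [e] at hc
    refine δ_one_of_scalar ((map_ne_zero ι).2 hc0) ?_
    rw [Sub.incl_val]
    show s.1.1.map ι = _
    rw [hsc]
    ext i j
    rcases eq_or_ne i j with rfl | h <;> simp [*]
  have hdvd : ¬ φ.range ≤ N := fun hle =>
    hr.coprime_iff_not_dvd.1 hNp.symm (hrL.trans (Subgroup.card_dvd_of_le hle))
  rw [Subgroup.eq_bot_iff_forall]
  rintro _ ⟨hy, s, rfl⟩
  by_cases hbig : n = 3 → 3 ≤ q₀
  · rcases normal_su_le_center_or_eq_top B.card B.frob hn hbig M with h | h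
    · exact hcen s (h hy)
    · exact absurd (by rintro _ ⟨t, rfl⟩; exact (h ▸ Subgroup.mem_top t : t ∈ M)) hdvd
  · simp only [Classical.not_imp, not_le] at hbig
    obtain ⟨rfl, hq₀⟩ := hbig
    have hq2 : q₀ = 2 := by have := two_le_q B.card; omega
    subst hq2
    -- `p = 2`
    have hF₀2 : (2 : F₀) = 0 := two_eq_zero_of_q_two B.card rfl
    haveI hchar2 : CharP F₀ 2 := CharTwo.of_one_ne_zero_of_two_eq_zero one_ne_zero hF₀2
    obtain ⟨σ₀', -⟩ := exists_uFrob B.card
    have S₀ : Setting F₀ σ₀ 2 2 3 := ⟨B.card, B.frob, hchar2, Nat.prime_two, by norm_num⟩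
    have hp2 : p = 2 := by
      haveI := S.char
      haveI : CharP F₀ p := (RingHom.charP_iff_charP ι p).2 inferInstance
      exact CharP.eq F₀ ‹CharP F₀ p› hchar2
    have hr3 : Nat.card (Cfsg.SU 3 F₀ 2) = 216 := by
      have h1 := card_SU_mul B.card (n := 3) (by norm_num)
      rw [card_GU B.card] at h1
      simp [Finset.prod_range_succ] at h1
      omega
    have hr3' : r = 3 := by
      have : r ∣ 2 ^ 3 * 3 ^ 3 := by
        refine hrL.trans ((Subgroup.card_range_dvd φ).trans ?_)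
        rw [hr3]; norm_num
      rcases (Nat.Prime.dvd_mul hr).1 this with h | h
      · exact absurd ((Nat.prime_dvd_prime_iff_eq hr Nat.prime_two).1 (hr.dvd_of_dvd_pow h)) (hp2 ▸ hrp)
      · exact (Nat.prime_dvd_prime_iff_eq hr Nat.prime_three).1 (hr.dvd_of_dvd_pow h)
    have hpow8 : ∀ m ∈ M, φ m ^ 8 = 1 := by
      intro m hm
      have h1 : orderOf (φ m) ∣ 2 ^ 3 * 3 ^ 3 := by
        rw [← Subgroup.orderOf_mk _ (show φ m ∈ φ.range from ⟨m, rfl⟩)]
        refine (orderOf_dvd_natCard _).trans ((Subgroup.card_range_dvd φ).trans ?_)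
        rw [hr3]; norm_num
      have hmem : φ m ∈ N := hm
      have hmk := orderOf_dvd_natCard (⟨φ m, hmem⟩ : N)
      rw [← Subgroup.orderOf_coe] at hmk
      have h2 := hNp.coprime_dvd_left hmk
      rw [hr3'] at h2
      exact orderOf_dvd_iff_pow_eq_one.1 ((h2.pow_right 3).dvd_of_dvd_mul_right h1)
    have hker : ∀ m, φ m = 1 → m ∈ Subgroup.center (Cfsg.SU 3 F₀ 2) := fun m hm => by
      obtain ⟨c, hc⟩ := hscal m hm
      refine Subgroup.mem_center_iff.2 fun t => Subtype.ext (Subtype.ext ?_)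
      show t.1.1 * m.1.1 = m.1.1 * t.1.1
      rw [hc, Matrix.mul_smul, Matrix.smul_mul, mul_one, one_mul]
    have hP : IsPGroup 2 (M.map (π 3 F₀ 2)) := by
      rintro ⟨_, m, hm, rfl⟩
      refine ⟨3, Subtype.ext ?_⟩
      show π 3 F₀ 2 m ^ 8 = 1
      rw [← map_pow, π_eq_one_iff]
      exact hker _ (by rw [map_pow]; exact hpow8 m hm)
    obtain ⟨R, hR, hRmap⟩ := S₀.exists_lift _ hP
    have hRn : ∀ g, ∀ a ∈ R, g * a * g⁻¹ ∈ R := by
      intro g a ha
      obtain ⟨m, hm, hme⟩ : π 3 F₀ 2 a ∈ M.map (π 3 F₀ 2) := hRmap ▸ ⟨a, ha, rfl⟩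
      obtain ⟨a', ha', hae⟩ : π 3 F₀ 2 (g * m * g⁻¹) ∈ R.map (π 3 F₀ 2) :=
        hRmap.symm ▸ ⟨_, hMn.conj_mem m hm g, rfl⟩
      have h1 : g * a * g⁻¹ = a' := S₀.pel_ext ((PEl.of_mem hR ha).conj g) (PEl.of_mem hR ha') (by
        rw [hae, map_mul, map_mul, map_mul, map_mul, hme])
      rw [h1]
      exact ha'
    -- a fixed vector
    haveI : Fact (Nat.Prime 2) := ⟨Nat.prime_two⟩
    letI : MulAction R (Fin 3 → F₀) :=
      { smul := fun g z => g.1.1.1 *ᵥ z
        one_smul := fun z => su_one_mulVec z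
        mul_smul := fun g k z => su_mul_mulVec g.1 k.1 z }
    have hdv : 2 ∣ Nat.card (Fin 3 → F₀) := by
      rw [Nat.card_fun, B.card, Nat.card_eq_fintype_card, Fintype.card_fin]
      norm_num
    obtain ⟨v, hv, hv0⟩ := hR.exists_fixed_point_of_prime_dvd_card_of_fixed_point (Fin 3 → F₀) hdv
      (a := (0 : Fin 3 → F₀)) fun g => mulVec_zero g.1.1.1
    have hfixv : ∀ a ∈ R, a.1.1 *ᵥ v = v := fun a ha => hv ⟨a, ha⟩
    have hinv : ∀ (g : Cfsg.SU 3 F₀ 2) (w : Fin 3 → F₀), (∀ a ∈ R, a.1.1 *ᵥ w = w) →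
        ∀ a ∈ R, a.1.1 *ᵥ (g.1.1 *ᵥ w) = g.1.1 *ᵥ w := by
      intro g w hw a ha
      rw [← su_mul_mulVec, show a * g = g * (g⁻¹ * a * g) by group, su_mul_mulVec, hw _ (by
        simpa using hRn g⁻¹ a ha)]
    obtain ⟨ω, hω, hω3, hωσ⟩ := exists_omega B.card B.frob rfl
    have hω0 : ω ≠ 0 := fun e => by simp [e] at hω3
    have htd : (Matrix.diagonal ![ω, ω ^ 2, (1 : F₀)]).det = 1 := by
      simp [det_diagonal, Fin.prod_univ_three]
      linear_combination hω3
    let dd : Cfsg.SU 3 F₀ 2 := ⟨⟨_, htd⟩, diagonal_mem_SU (fun i => by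
      fin_cases i <;> simp
      · linear_combination hω3
      · linear_combination (ω ^ 3 + 1) * hω3) htd⟩
    have hone : ∀ (i : Fin 3), v i ≠ 0 → ∀ a ∈ R, a.1.1 *ᵥ Pi.single i 1 = Pi.single i 1 := by
      intro i hi a ha
      have h1 := hinv dd v hfixv
      have h2 := hinv dd _ h1
      have key : ∀ (c₁ c₂ : F₀), a.1.1 *ᵥ (v + c₁ • (dd.1.1 *ᵥ v) + c₂ • (dd.1.1 *ᵥ (dd.1.1 *ᵥ v))) =
          v + c₁ • (dd.1.1 *ᵥ v) + c₂ • (dd.1.1 *ᵥ (dd.1.1 *ᵥ v)) := fun c₁ c₂ => by
        rw [mulVec_add, mulVec_add, mulVec_smul, mulVec_smul, hfixv a ha, h1 a ha, h2 a ha]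
      set t : Fin 3 → F₀ := ![ω, ω ^ 2, (1 : F₀)] with ht
      have e : v + (t i)⁻¹ • (dd.1.1 *ᵥ v) + ((t i)⁻¹) ^ 2 • (dd.1.1 *ᵥ (dd.1.1 *ᵥ v)) = v i • Pi.single i 1 := by
        have hdd : ∀ w : Fin 3 → F₀, dd.1.1 *ᵥ w = fun j => t j * w j := fun w => funext fun j => mulVec_diagonal _ _ _
        rw [hdd, hdd]
        funext j
        fin_cases i <;> fin_cases j <;> simp [t, hω0] <;> field_simp <;>
          first
            | linear_combination (v 0) * hω | linear_combination (v 1) * hω | linear_combination (v 2) * hω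
            | linear_combination (v 0) * hF₀2 | linear_combination (v 1) * hF₀2 | linear_combination (v 2) * hF₀2
            | linear_combination (v 0) * ω ^ 2 * hω | linear_combination (v 1) * ω ^ 2 * hω
            | linear_combination (v 2) * ω ^ 2 * hω
            | linear_combination (v 0) * hω + (v 0) * ω * hω3 | linear_combination (v 1) * hω + (v 1) * ω * hω3
            | linear_combination (v 2) * hω + (v 2) * ω * hω3
      have h3 := key (t i)⁻¹ ((t i)⁻¹ ^ 2)
      rw [e, mulVec_smul] at h3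
      exact smul_right_injective _ hi h3
    obtain ⟨i₀, hi₀⟩ := Function.ne_iff.1 hv0.symm
    have hall : ∀ j, ∀ a ∈ R, a.1.1 *ᵥ Pi.single j 1 = Pi.single j 1 := by
      intro j a ha
      have hall3 : ∀ a b : Fin 3, ∃ k : Equiv.Perm (Fin 3), k a = b ∧ Equiv.Perm.sign k = 1 := by decide
      obtain ⟨k, hk, hkk⟩ := hall3 i₀ j
      have hkd : ((KnownB.PSLAut.permGL k : GL (Fin 3) F₀) : Matrix (Fin 3) (Fin 3) F₀).det = 1 := permGL_det k hkk
      have hmem : KnownB.PSLAut.permGL k ∈ Cfsg.GU 3 F₀ 2 := by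
        rw [mem_GU_iff_mat B.frob (by norm_num)]
        ext a b
        simp [Matrix.mul_apply, permGL_val, Matrix.one_apply, apply_ite σ₀, eq_comm (a := b)]
      let g : Cfsg.SU 3 F₀ 2 := ⟨⟨_, hkd⟩, hmem⟩
      have e : g.1.1 *ᵥ Pi.single i₀ 1 = Pi.single j 1 := by
        funext x
        show (((KnownB.PSLAut.permGL k : GL (Fin 3) F₀) : Matrix (Fin 3) (Fin 3) F₀) *ᵥ Pi.single i₀ 1) x = _
        simp [permGL_val, Pi.single_apply, hk]
      rw [← e]
      exact hinv g _ (hone i₀ hi₀) a ha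
    have hR1 : ∀ a ∈ R, a = 1 := fun a ha => su_ext fun w => by
      rw [su_one_mulVec]
      have : a.1.1 = 1 := Matrix.ext fun x y => by
        have := congrFun (hall y a ha) x
        rw [mulVec_single_one] at this
        simpa [Matrix.one_apply, Pi.single_apply] using this
      rw [this, one_mulVec]
    refine hcen s ?_
    rw [← π_eq_one_iff]
    obtain ⟨a, ha, hae⟩ : π 3 F₀ 2 s ∈ R.map (π 3 F₀ 2) := hRmap.symm ▸ ⟨s, hy, rfl⟩
    rw [← hae, hR1 a ha, map_one]

end CfsgLib.FgsC.LocalBalance
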