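import Cfsg.Agent.Lib.FgsC.LocalBalance.PSUBasic
import Cfsg.Agent.Lib.FgsC.LocalBalance.Symp
import Cfsg.Agent.Lib.FgsC.LocalBalance.Graph
import Cfsg.Agent.Lib.Geometry.GraphPSU.Corr

/-!
The centraliser of an involutory graph automorphism of `PSU_n` has no nontrivial normal subgroup of odd order.
-/

set_option autoImplicit false

namespace CfsgLib.FgsC.LocalBalance

open Matrix CfsgLib.Classical CfsgLib.Classical.Unitary CfsgLib.KnownB CfsgLib.KnownB.PSUAut
  CfsgLib.Geometry.GraphPSU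

variable {F F₀ : Type*} [Field F] [Field F₀] {n p q : ℕ} {σ : F →+* F} {τ : F ≃+* F} {ι : F₀ →+* F}

local notation "PU" => Cfsg.PSU n F q
local notation "Mn" => Matrix (Fin n) (Fin n) F
local notation "Mn₀" => Matrix (Fin n) (Fin n) F₀
local notation "PSL₀" => Matrix.ProjectiveSpecialLinearGroup (Fin n) F₀

/-- A frame descending `K` to the form `Γ`. -/
structure Frame (τ : F ≃+* F) (ι : F₀ →+* F) (K : Cfsg.GU n F q) (Γ : GL (Fin n) F₀) (P : GL (Fin n) F)
    (t μ : F) : Prop where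
  t0 : t ≠ 0
  μ0 : μ ≠ 0
  kp : K.1.1 * (P : Mn) = t • (P : Mn).map τ
  gram : (P : Mn)ᵀ * (P : Mn).map τ = μ • (Γ : Mn₀).map ι

theorem map_smul_hom {L : Type*} [Field L] {m : Type*} (f : F →+* L) (c : F) (A : Matrix m m F) :
    (c • A).map f = f c • A.map f := by
  ext i j
  simp

/-- A congruent form has a frame. -/
theorem Frame.congr (D : Pair σ τ ι p q n) {K : Cfsg.GU n F q} {Γ Γ' : GL (Fin n) F₀} {P : GL (Fin n) F} {t μ : F}
    (Fr : Frame τ ι K Γ P t μ) {d : F₀} (hd : d ≠ 0) {R : GL (Fin n) F₀}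
    (he : (R : Mn₀)ᵀ * (Γ : Mn₀) * (R : Mn₀) = d • (Γ' : Mn₀)) :
    Frame τ ι K Γ' (P * GeneralLinearGroup.map ι R) t (μ * ι d) := by
  have hR : ((GeneralLinearGroup.map ι R : GL (Fin n) F) : Mn) = (R : Mn₀).map ι := rfl
  refine ⟨Fr.t0, mul_ne_zero Fr.μ0 ((map_ne_zero ι).2 hd), ?_, ?_⟩
  · rw [Units.val_mul, hR, Matrix.map_mul, D.map_ι, ← mul_assoc, Fr.kp, smul_mul_assoc]
  · rw [Units.val_mul, hR, Matrix.map_mul, D.map_ι, transpose_mul,
      show ((R : Mn₀).map ι)ᵀ * (P : Mn)ᵀ * ((P : Mn).map τ * (R : Mn₀).map ι) =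
        ((R : Mn₀).map ι)ᵀ * ((P : Mn)ᵀ * (P : Mn).map τ) * (R : Mn₀).map ι by simp only [mul_assoc],
      Fr.gram, mul_smul_comm, smul_mul_assoc, ← Matrix.transpose_map, ← Matrix.map_mul, ← Matrix.map_mul, he,
      map_smul_hom, smul_smul]

/-- The isometry group of a form matrix. -/
def isoGrp (Γ : Mn₀) : Subgroup (GL (Fin n) F₀) where
  carrier := {B | (B : Mn₀)ᵀ * Γ * (B : Mn₀) = Γ}
  one_mem' := by simp
  mul_mem' := by
    intro a b ha hb
    simp only [Set.mem_setOf_eq, Units.val_mul, transpose_mul] at ha hb ⊢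
    rw [show (b : Mn₀)ᵀ * (a : Mn₀)ᵀ * Γ * ((a : Mn₀) * (b : Mn₀)) =
      (b : Mn₀)ᵀ * ((a : Mn₀)ᵀ * Γ * (a : Mn₀)) * (b : Mn₀) by simp only [mul_assoc], ha, hb]
  inv_mem' := by
    intro a ha
    simp only [Set.mem_setOf_eq] at ha ⊢
    conv_lhs => rw [← ha]
    rw [show ((a⁻¹ : GL (Fin n) F₀) : Mn₀)ᵀ * ((a : Mn₀)ᵀ * Γ * (a : Mn₀)) * ((a⁻¹ : GL (Fin n) F₀) : Mn₀) =
      ((a : Mn₀) * ((a⁻¹ : GL (Fin n) F₀) : Mn₀))ᵀ * Γ * ((a : Mn₀) * ((a⁻¹ : GL (Fin n) F₀) : Mn₀)) by
        rw [transpose_mul]; simp only [mul_assoc], Units.mul_inv, transpose_one, one_mul, mul_one]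

/-- `g` is, in the coordinates `P`, a multiple of the matrix `A` over the fixed field. -/
def Shape (ι : F₀ →+* F) (P : GL (Fin n) F) (g : Cfsg.GU n F q) (a : F) (A : GL (Fin n) F₀) : Prop :=
  a ≠ 0 ∧ g.1.1 * (P : Mn) = a • ((P : Mn) * (A : Mn₀).map ι)

theorem shape_one (P : GL (Fin n) F) : Shape ι P (1 : Cfsg.GU n F q) 1 1 :=
  ⟨one_ne_zero, by simp [Matrix.map_one ι ι.map_zero ι.map_one]⟩

theorem Shape.mul {P : GL (Fin n) F} {g g' : Cfsg.GU n F q} {a a' : F} {A A' : GL (Fin n) F₀}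
    (h : Shape ι P g a A) (h' : Shape ι P g' a' A') : Shape ι P (g * g') (a * a') (A * A') := by
  refine ⟨mul_ne_zero h.1 h'.1, ?_⟩
  rw [Subgroup.coe_mul, Units.val_mul, Units.val_mul, mul_assoc, h'.2, mul_smul_comm, ← mul_assoc, h.2,
    smul_mul_assoc, smul_smul, mul_comm a', Matrix.map_mul, mul_assoc]

theorem Shape.pow {P : GL (Fin n) F} {g : Cfsg.GU n F q} {a : F} {A : GL (Fin n) F₀} (h : Shape ι P g a A) (k : ℕ) :
    Shape ι P (g ^ k) (a ^ k) (A ^ k) := by
  induction k with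
  | zero => simp only [pow_zero]; exact shape_one P
  | succ k ih => simp only [pow_succ]; exact ih.mul h

/-- The coordinates of a semilinear map. -/
def coord (P : GL (Fin n) F) (g : Cfsg.GU n F q) (υ : F ≃+* F) : Mn :=
  ((P⁻¹ : GL (Fin n) F) : Mn) * g.1.1 * (P : Mn).map υ

theorem mul_coord (P : GL (Fin n) F) (g : Cfsg.GU n F q) (υ : F ≃+* F) :
    g.1.1 * (P : Mn).map υ = (P : Mn) * coord P g υ := by
  rw [coord, ← mul_assoc, ← mul_assoc, Units.mul_inv, one_mul]

theorem coord_det_ne (P : GL (Fin n) F) (g : Cfsg.GU n F q) (υ : F ≃+* F) : (coord P g υ).det ≠ 0 := by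
  rw [coord, det_mul, det_mul]
  refine mul_ne_zero (mul_ne_zero (GeneralLinearGroup.det P⁻¹).ne_zero (GeneralLinearGroup.det g.1).ne_zero) ?_
  exact (GeneralLinearGroup.det (GeneralLinearGroup.map (υ : F →+* F) P)).ne_zero

theorem coord_mul (P : GL (Fin n) F) (g : Cfsg.GU n F q) (υ : F ≃+* F) :
    coord P g υ * (coord P g υ).map υ = coord P (g * mapGU υ g) (υ * υ) := by
  have hP : (P : Mn).map υ * ((P⁻¹ : GL (Fin n) F) : Mn).map υ = 1 := by
    rw [← Matrix.map_mul, Units.mul_inv, Matrix.map_one υ υ.map_zero υ.map_one]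
  have hm : ((P : Mn).map υ).map υ = (P : Mn).map ⇑(υ * υ) := by ext i j; rfl
  rw [coord, coord, Matrix.map_mul, Matrix.map_mul, hm, Subgroup.coe_mul, Units.val_mul, mapGU_val]
  calc ((P⁻¹ : GL (Fin n) F) : Mn) * g.1.1 * (P : Mn).map υ *
        (((P⁻¹ : GL (Fin n) F) : Mn).map υ * g.1.1.map υ * (P : Mn).map ⇑(υ * υ))
      = ((P⁻¹ : GL (Fin n) F) : Mn) * g.1.1 * ((P : Mn).map υ * ((P⁻¹ : GL (Fin n) F) : Mn).map υ) *
        (g.1.1.map υ * (P : Mn).map ⇑(υ * υ)) := by simp only [mul_assoc]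
    _ = _ := by rw [hP, mul_one]; simp only [mul_assoc]

/-- A matrix intertwining the unipotents over a subfield with their twists is scalar and the twist fixes it. -/
theorem sp_scalar_sub {m : ℕ} (hm : 0 < m) {g : Matrix (Fin m ⊕ Fin m) (Fin m ⊕ Fin m) F} (hg : g.det ≠ 0)
    (j j' : F₀ →+* F)
    (hu : ∀ S : Matrix (Fin m) (Fin m) F₀, Sᵀ = S → upperM (S.map j) * g = g * upperM (S.map j') ∧
      lowerM (S.map j) * g = g * lowerM (S.map j')) :
    j' = j ∧ ∃ c : F, c ≠ 0 ∧ g = c • 1 := by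
  classical
  obtain ⟨A, B, C, D, rfl⟩ := blocks_cases g
  have key : ∀ S : Matrix (Fin m) (Fin m) F₀, Sᵀ = S →
      S.map j * C = 0 ∧ S.map j * D = A * S.map j' ∧ S.map j * B = 0 := by
    intro S hS
    obtain ⟨h1, h2⟩ := hu S hS
    simp only [upperM, lowerM, fromBlocks_multiply, one_mul, mul_one, mul_zero, zero_mul, zero_add, add_zero,
      fromBlocks_inj] at h1 h2
    refine ⟨?_, ?_, ?_⟩
    · exact add_left_cancel (G := Matrix (Fin m) (Fin m) F) (h1.1.trans (add_zero A).symm)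
    · have := h1.2.1
      rw [add_comm (A * _) B] at this
      exact add_left_cancel (G := Matrix (Fin m) (Fin m) F) this
    · exact add_right_cancel (G := Matrix (Fin m) (Fin m) F) (h2.2.2.2.trans (zero_add D).symm)
  have h1 := key 1 transpose_one
  rw [Matrix.map_one j j.map_zero j.map_one, Matrix.map_one j' j'.map_zero j'.map_one, one_mul, one_mul, one_mul,
    mul_one] at h1
  obtain ⟨hC, hD, hB⟩ := h1
  subst hB hC hD
  have hA : D.det ≠ 0 := fun h => hg (by rw [det_fromBlocks_zero₂₁, h, zero_mul])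
  have hdiag : ∀ i k, k ≠ i → D i k = 0 := by
    intro i k hk
    have h := (key (Matrix.single i i 1) (by rw [transpose_single])).2.1
    rw [Matrix.map_single, Matrix.map_single, map_one, map_one] at h
    have := congrFun (congrFun h i) k
    simpa [Matrix.single_mul_apply_of_ne, Matrix.mul_single_apply_of_ne, hk, hk.symm] using this
  have hnz : ∀ i, D i i ≠ 0 := fun i h0 => hA (det_eq_zero_of_row_eq_zero i fun k => by
    rcases eq_or_ne k i with rfl | hk
    · exact h0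
    · exact hdiag i k hk)
  have heq : ∀ i k, D i i = D k k := by
    intro i k
    rcases eq_or_ne i k with rfl | hij
    · rfl
    have h := (key (Matrix.single i k 1 + Matrix.single k i 1) (by
      rw [transpose_add, transpose_single, transpose_single, add_comm])).2.1
    rw [Matrix.map_add j (map_add j), Matrix.map_add j' (map_add j'), Matrix.map_single, Matrix.map_single,
      Matrix.map_single, Matrix.map_single, map_one, map_one, add_mul, mul_add] at h
    have := congrFun (congrFun h i) k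
    simp [Matrix.single_mul_apply_of_ne, Matrix.mul_single_apply_of_ne, hij, hij.symm] at this
    exact this.symm
  refine ⟨RingHom.ext fun a => ?_, D ⟨0, hm⟩ ⟨0, hm⟩, hnz _, ?_⟩
  · have h := (key (Matrix.single ⟨0, hm⟩ ⟨0, hm⟩ a) (by rw [transpose_single])).2.1
    rw [Matrix.map_single, Matrix.map_single] at h
    have := congrFun (congrFun h ⟨0, hm⟩) ⟨0, hm⟩
    simp at this
    rw [mul_comm (j a)] at this
    exact (mul_left_cancel₀ (hnz _) this).symm
  · rw [← fromBlocks_one, fromBlocks_smul, smul_zero]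
    congr 1 <;>
    · ext i k
      rcases eq_or_ne i k with rfl | h
      · simp [heq i ⟨0, hm⟩]
      · simp [h, hdiag i k h.symm]

variable [Finite F] {K : Cfsg.GU n F q} {Γ : GL (Fin n) F₀} {P : GL (Fin n) F} {t μ : F}

theorem Frame.shape (D : Pair σ τ ι p q n) (Fr : Frame τ ι K Γ P t μ) {g : Cfsg.GU n F q}
    (hg : (δ g : MulAut PU) ∈ Subgroup.centralizer {gautU τ K}) :
    ∃ (a : F) (A : GL (Fin n) F₀) (e : F₀), Shape ι P g a A ∧
      (A : Mn₀)ᵀ * (Γ : Mn₀) * (A : Mn₀) = e • (Γ : Mn₀) := by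
  obtain ⟨c, hc, he⟩ := (comm_iff D g K).1 hg
  obtain ⟨a, A, ha, hA, hN⟩ := cent_shape D Fr.t0 Fr.μ0 Fr.kp Fr.gram hc he
  obtain ⟨y, hy⟩ := (D.fix (a * τ a)).1 (by rw [map_mul, D.invol, mul_comm])
  have hy0 : y ≠ 0 := fun h0 => mul_ne_zero ha ((map_ne_zero τ).2 ha) (by rw [← hy, h0, map_zero])
  rw [← hy, ← map_ι_smul] at hN
  refine ⟨a, A, y⁻¹, ⟨ha, hA⟩, ?_⟩
  have h2 := Matrix.map_injective ι.injective hN
  conv_rhs => rw [← h2, smul_smul, inv_mul_cancel₀ hy0, one_smul]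

theorem Shape.eq_one_of_left (D : Pair σ τ ι p q n) {g : Cfsg.GU n F q} {a : F} {A : GL (Fin n) F₀}
    (h : Shape ι P g a A) (hg : (δ g : MulAut PU) = 1) : (PSLAut.δ A : MulAut PSL₀) = 1 := by
  obtain ⟨c, hc, he⟩ := δ_eq_smul D.setting D.three (hg.trans (map_one δ).symm).symm
  have h1 : c • ((P : Mn) * ((1 : GL (Fin n) F₀) : Mn₀).map ι) = a • ((P : Mn) * (A : Mn₀).map ι) := by
    rw [← h.2, he, Units.val_one, Matrix.map_one ι ι.map_zero ι.map_one, mul_one, smul_mul_assoc]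
    show _ = c • ((1 : Mn) * _)
    rw [one_mul]
  have h2 := shape_unique D (P := P) hc h1
  rw [inv_one, one_mul] at h2
  obtain ⟨e, he'⟩ := (Cfsg.Geo.mem_scalars_iff A).1 h2
  exact (PSLAut.δ_eq_one_iff (by have := D.three; omega) A).2 ⟨(e : F₀), e.ne_zero, he'⟩

theorem Shape.eq_one_of_right (D : Pair σ τ ι p q n) {g : Cfsg.GU n F q} {a : F} {A : GL (Fin n) F₀}
    (h : Shape ι P g a A) (hA : (PSLAut.δ A : MulAut PSL₀) = 1) : (δ g : MulAut PU) = 1 := by
  obtain ⟨c, hc, he⟩ := (PSLAut.δ_eq_one_iff (by have := D.three; omega) A).1 hA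
  refine δ_one_of_scalar (c := a * ι c) (mul_ne_zero h.1 ((map_ne_zero ι).2 hc)) (P.isUnit.mul_right_cancel ?_)
  rw [h.2, he, map_smul_hom, Matrix.map_one ι ι.map_zero ι.map_one, mul_smul_comm, mul_one, smul_smul,
    smul_mul_assoc, one_mul]

theorem Frame.lift_exists (D : Pair σ τ ι p q n) (Fr : Frame τ ι K Γ P t μ) (B : isoGrp (Γ : Mn₀)) :
    ∃ h : Cfsg.GU n F q, (δ h : MulAut PU) ∈ Subgroup.centralizer {gautU τ K} ∧
      h.1.1 * (P : Mn) = (P : Mn) * (B.1 : Mn₀).map ι := by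
  obtain ⟨h, hh, hv⟩ := cent_lift D Fr.t0 Fr.μ0 Fr.kp Fr.gram (B := B.1) (e := 1)
    (by rw [Units.val_one, one_smul]; exact B.2) (b := 1) one_ne_zero (by simp)
  exact ⟨h, hh, by rw [hv, one_smul]⟩

/-- The lift of the isometries of the form. -/
noncomputable def Frame.liftU (D : Pair σ τ ι p q n) (Fr : Frame τ ι K Γ P t μ) :
    isoGrp (Γ : Mn₀) →* Cfsg.GU n F q :=
  MonoidHom.mk' (fun B => (Fr.lift_exists D B).choose) fun B C => by
    refine Subtype.ext (Units.ext (P.isUnit.mul_right_cancel ?_))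
    rw [(Fr.lift_exists D (B * C)).choose_spec.2, Subgroup.coe_mul, Subgroup.coe_mul, Units.val_mul, Units.val_mul,
      mul_assoc, (Fr.lift_exists D C).choose_spec.2, ← mul_assoc, (Fr.lift_exists D B).choose_spec.2,
      Matrix.map_mul, mul_assoc]

theorem Frame.liftU_val (D : Pair σ τ ι p q n) (Fr : Frame τ ι K Γ P t μ) (B : isoGrp (Γ : Mn₀)) :
    (Fr.liftU D B).1.1 * (P : Mn) = (P : Mn) * (B.1 : Mn₀).map ι :=
  (Fr.lift_exists D B).choose_spec.2

theorem Frame.liftU_shape (D : Pair σ τ ι p q n) (Fr : Frame τ ι K Γ P t μ) (B : isoGrp (Γ : Mn₀)) :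
    Shape ι P (Fr.liftU D B) 1 B.1 := ⟨one_ne_zero, by rw [one_smul, Fr.liftU_val D]⟩

theorem Frame.liftU_mem (D : Pair σ τ ι p q n) (Fr : Frame τ ι K Γ P t μ) (B : isoGrp (Γ : Mn₀))
    (hB : (B.1 : Mn₀).det = 1) :
    (δ (Fr.liftU D B) : MulAut PU) ∈ Cfsg.Inn PU ⊓ Subgroup.centralizer {gautU τ K} := by
  refine ⟨psu_mem_inn_iff_rep.2 ⟨_, ?_, rfl⟩, (Fr.lift_exists D B).choose_spec.1⟩
  refine mul_right_cancel₀ (GeneralLinearGroup.det P).ne_zero ?_
  show (Fr.liftU D B).1.1.det * (P : Mn).det = 1 * (P : Mn).det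
  rw [← det_mul, Fr.liftU_val D, det_mul, ← RingHom.mapMatrix_apply, ← RingHom.map_det, hB, map_one, mul_comm]

/-- The relation expressing commutation with a lifted isometry, in coordinates. -/
theorem Frame.comm_rel (D : Pair σ τ ι p q n) (Fr : Frame τ ι K Γ P t μ) {g : Cfsg.GU n F q} {υ : F ≃+* F}
    {B : isoGrp (Γ : Mn₀)}
    (h : (δ g * fld υ : MulAut PU) * δ (Fr.liftU D B) = δ (Fr.liftU D B) * (δ g * fld υ)) :
    ∃ c : F, c ≠ 0 ∧
      (B.1 : Mn₀).map ι * coord P g υ = c • (coord P g υ * (B.1 : Mn₀).map ((υ : F →+* F).comp ι)) := by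
  obtain ⟨c, hc, he⟩ := psu_comm D.setting D.three h
  refine ⟨c, hc, P.isUnit.mul_left_cancel ?_⟩
  have hυ : (Fr.liftU D B).1.1.map υ * (P : Mn).map υ =
      (P : Mn).map υ * (B.1 : Mn₀).map ((υ : F →+* F).comp ι) := by
    rw [← Matrix.map_mul, Fr.liftU_val D, Matrix.map_mul, Matrix.map_map]
    rfl
  rw [← mul_assoc, ← Fr.liftU_val D, mul_assoc, ← mul_coord, ← mul_assoc, he, smul_mul_assoc, mul_assoc, hυ,
    mul_smul_comm, ← mul_assoc, ← mul_assoc (P : Mn), ← mul_coord]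

/-- An even number of fixed points. -/
theorem Frame.even_card (D : Pair σ τ ι p q n) (Fr : Frame τ ι K Γ P t μ) (B : isoGrp (Γ : Mn₀))
    (hd : (B.1 : Mn₀).det = 1) (h2 : B * B = 1) (hne : ∀ c : F₀, (B.1 : Mn₀) ≠ c • 1) :
    2 ∣ Nat.card ↥(Cfsg.Inn PU ⊓ Subgroup.centralizer {gautU τ K}) := by
  haveI : Finite (MulAut PU) := Finite.of_injective _ DFunLike.coe_injective
  set z : MulAut PU := δ (Fr.liftU D B)
  have hz : orderOf z = 2 := by
    refine orderOf_eq_prime (by rw [sq, ← map_mul, ← map_mul, h2, map_one, map_one]) fun h => ?_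
    obtain ⟨c, -, hc⟩ := (PSLAut.δ_eq_one_iff (by have := D.three; omega) B.1).1
      ((Fr.liftU_shape D B).eq_one_of_left D h)
    exact hne c hc
  have := orderOf_dvd_natCard (⟨z, Fr.liftU_mem D B hd⟩ : ↥(Cfsg.Inn PU ⊓ Subgroup.centralizer {gautU τ K}))
  rw [← Subgroup.orderOf_coe] at this
  rwa [← hz]

/-- An automorphism fixing the fixed field is `1` or `τ`. -/
theorem fix_cases (D : Pair σ τ ι p q n) {υ : F ≃+* F} (h : ∀ a, υ (ι a) = ι a) : υ = 1 ∨ υ = τ := by
  by_cases h1 : υ = 1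
  · exact Or.inl h1
  refine Or.inr (eq_of_sq D ?_ h1)
  obtain ⟨i, rfl⟩ := Subgroup.mem_zpowers_iff.1
    (PSpAut.mem_zpowers_of_fix τ υ fun a ha => by
      obtain ⟨y, rfl⟩ := (D.fix a).1 ha
      exact h y)
  rw [← zpow_natCast, ← _root_.zpow_mul, mul_comm, _root_.zpow_mul, zpow_natCast,
    show τ ^ 2 = 1 from D.order ▸ pow_orderOf_eq_one τ, _root_.one_zpow]

/-- The last step: an element over the fixed field with the prescribed coordinates squares to `1`. -/
theorem Frame.finish (D : Pair σ τ ι p q n) (Fr : Frame τ ι K Γ P t μ) (hx2 : gautU τ K * gautU τ K = 1)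
    {g : Cfsg.GU n F q} {υ : F ≃+* F} (hfix : ∀ a, υ (ι a) = ι a)
    (hm : (δ g * fld υ : MulAut PU) ∈ Subgroup.centralizer {gautU τ K})
    (hz : ∀ (z : Cfsg.GU n F q) (c : F), c ≠ 0 → (δ z : MulAut PU) ∈ Subgroup.centralizer {gautU τ K} →
      z.1.1 * (P : Mn) = c • ((P : Mn) * coord P g υ) → (δ z : MulAut PU) * δ z = 1) :
    (δ g * fld υ : MulAut PU) * (δ g * fld υ) = 1 := by
  rcases fix_cases D hfix with h | h <;> subst υ
  · rw [map_one, mul_one] at hm ⊢
    refine hz g 1 one_ne_zero hm ?_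
    rw [one_smul, ← mul_coord]
    congr 1
  · have e : (δ g * fld τ : MulAut PU) = δ (g * K) * gautU τ K := by
      rw [gautU, ← mul_assoc, ← map_mul δ, mul_inv_cancel_right]
    rw [e] at hm ⊢
    have hx : gautU τ K ∈ Subgroup.centralizer {gautU τ K} := Subgroup.mem_centralizer_singleton_iff.2 rfl
    have hz' : (δ (g * K) : MulAut PU) ∈ Subgroup.centralizer {gautU τ K} :=
      (Subgroup.mul_mem_cancel_right _ hx).1 hm
    have h1 := hz (g * K) t Fr.t0 hz' (by
      rw [← mul_coord, Subgroup.coe_mul, Units.val_mul, mul_assoc, Fr.kp, mul_smul_comm])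
    have hc : gautU τ K * δ (g * K) = δ (g * K) * gautU τ K :=
      (Subgroup.mem_centralizer_singleton_iff.1 hz').symm
    rw [mul_assoc (δ (g * K) : MulAut PU), ← mul_assoc (gautU τ K), hc, mul_assoc, hx2, mul_one, h1]

theorem mem_isoGrp_of_tiso {d : Fin n → F₀} {B : GL (Fin n) F₀} (hΓ : (Γ : Mn₀) = diagonal d)
    (hB : TIso (1 : F₀ ≃+* F₀) d (B : Mn₀) 1) : B ∈ isoGrp (Γ : Mn₀) := by
  show (B : Mn₀)ᵀ * (Γ : Mn₀) * (B : Mn₀) = (Γ : Mn₀)
  have h := hB
  rw [TIso, one_smul, show (B : Mn₀).map ⇑(1 : F₀ ≃+* F₀) = (B : Mn₀) from Matrix.ext fun _ _ => rfl] at h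
  rw [hΓ]
  exact h

/-- No normal abelian subgroup of odd order in the inner centraliser, diagonal case. -/
theorem Frame.abelian_bot [Finite F₀] (D : Pair σ τ ι p q n) {u : Fin n → F₀ˣ}
    (Fr : Frame τ ι K (KnownB.PSLAut.diagGL u) P t μ) (h2 : (2 : F₀) ≠ 0) (h31 : n = 3 → u = 1) {o : Fin n}
    (ho : ∀ i, i ≠ o → u i = 1) (Y : Subgroup (MulAut PU))
    (hY : Y ≤ Cfsg.Inn PU ⊓ Subgroup.centralizer {gautU τ K})
    (hYn : ∀ a ∈ Cfsg.Inn PU ⊓ Subgroup.centralizer {gautU τ K}, ∀ y ∈ Y, a * y * a⁻¹ ∈ Y)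
    (hYc : ∀ y ∈ Y, ∀ z ∈ Y, y * z = z * y) (hYodd : Odd (Nat.card Y)) : Y = ⊥ := by
  classical
  set d : Fin n → F₀ := fun i => (u i : F₀) with hd
  have hΓ : ((KnownB.PSLAut.diagGL u : GL (Fin n) F₀) : Mn₀) = diagonal d := rfl
  have hd1 : u = 1 → d = 1 := fun h => by funext i; simp [hd, h]
  haveI : Finite (MulAut PSL₀) := Finite.of_injective _ DFunLike.coe_injective
  haveI : Finite (MulAut PU) := Finite.of_injective _ DFunLike.coe_injective
  let S : Set (MulAut PSL₀) := {z | ∃ (g : Cfsg.GU n F q) (a : F) (A : GL (Fin n) F₀),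
    (δ g : MulAut PU) ∈ Y ∧ Shape ι P g a A ∧ z = PSLAut.δ A}
  have hone : (1 : MulAut PSL₀) ∈ S := ⟨1, 1, 1, by rw [map_one]; exact Y.one_mem, shape_one P, (map_one _).symm⟩
  have hmul : ∀ x ∈ S, ∀ y ∈ S, x * y ∈ S := by
    rintro _ ⟨g, a, A, hg, hA, rfl⟩ _ ⟨g', a', A', hg', hA', rfl⟩
    exact ⟨g * g', a * a', A * A', by rw [map_mul]; exact Y.mul_mem hg hg', hA.mul hA', (map_mul _ _ _).symm⟩
  have hinv : ∀ x ∈ S, x⁻¹ ∈ S := by
    intro x hx
    have hpow : ∀ k : ℕ, x ^ k ∈ S := fun k => by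
      induction k with
      | zero => rwa [pow_zero]
      | succ k ih => rw [pow_succ]; exact hmul _ ih _ hx
    rw [show x⁻¹ = x ^ (orderOf x - 1) from inv_eq_of_mul_eq_one_left (by
      rw [← pow_succ, Nat.sub_add_cancel (orderOf_pos x), pow_orderOf_eq_one])]
    exact hpow _
  let Y₀ : Subgroup (MulAut PSL₀) :=
    { carrier := S, mul_mem' := fun hx hy => hmul _ hx _ hy, one_mem' := hone, inv_mem' := fun hx => hinv _ hx }
  have hcent : ∀ {g : Cfsg.GU n F q}, (δ g : MulAut PU) ∈ Y →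
      (δ g : MulAut PU) ∈ Subgroup.centralizer {gautU τ K} := fun hg => (hY hg).2
  have hY₀ : Y₀ = ⊥ := by
    refine Setup.eq_bot (σ := (1 : F₀ ≃+* F₀)) (d := d) (ψ := (PSLAut.δ : GL (Fin n) F₀ →* MulAut PSL₀))
      ⟨D.three, h2, fun a => rfl, fun g h => PSLAut.δ_eq_iff (by have := D.three; omega) g h, ?_, ?_, ?_, ?_,
        Or.inl rfl, fun h => hd1 (h31 h), ⟨o, fun i hi => by simp [hd, ho i hi]⟩, fun i => (u i).ne_zero⟩
    · rintro _ ⟨g, a, A, hg, hA, rfl⟩
      obtain ⟨a', A', e, hA', he⟩ := Fr.shape D (hcent hg)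
      refine ⟨A', e, ?_, ?_⟩
      · obtain ⟨c, hc⟩ := (Cfsg.Geo.mem_scalars_iff _).1
          (shape_unique D (P := P) hA.1 (hA.2.symm.trans hA'.2))
        have h1 : (PSLAut.δ (A⁻¹ * A') : MulAut PSL₀) = 1 :=
          (PSLAut.δ_eq_one_iff (by have := D.three; omega) _).2 ⟨(c : F₀), c.ne_zero, hc⟩
        rw [map_mul, map_inv, inv_mul_eq_one] at h1
        exact h1.symm
      · rw [TIso, show (A' : Mn₀).map ⇑(1 : F₀ ≃+* F₀) = (A' : Mn₀) from Matrix.ext fun _ _ => rfl, ← hΓ]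
        exact he
    · rw [← Nat.not_even_iff_odd, even_iff_two_dvd]
      intro h2d
      obtain ⟨⟨z, g, a, A, hg, hA, rfl⟩, hz⟩ := exists_prime_orderOf_dvd_card' (G := Y₀) 2 h2d
      rw [← Subgroup.orderOf_coe] at hz
      have h1 : (δ (g ^ Nat.card Y) : MulAut PU) = 1 := by
        rw [map_pow]
        exact congrArg Subtype.val (pow_card_eq_one' (G := Y) (x := ⟨_, hg⟩))
      have h3 := (hA.pow (Nat.card Y)).eq_one_of_left D h1
      rw [map_pow] at h3
      have h4 : 2 ∣ Nat.card Y := hz ▸ orderOf_dvd_of_pow_eq_one h3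
      exact (Nat.not_even_iff_odd.2 hYodd) (even_iff_two_dvd.2 h4)
    · rintro _ ⟨g, a, A, hg, hA, rfl⟩ _ ⟨g', a', A', hg', hA', rfl⟩
      rw [← map_mul, ← map_mul]
      have h1 : (δ (g * g') : MulAut PU) = δ (g' * g) := by rw [map_mul, map_mul]; exact hYc _ hg _ hg'
      obtain ⟨c, hc, he⟩ := δ_eq_smul D.setting D.three h1
      obtain ⟨hne, h3⟩ := hA'.mul hA
      rw [he, smul_mul_assoc, (hA.mul hA').2, smul_smul] at h3
      obtain ⟨c', hc'⟩ := (Cfsg.Geo.mem_scalars_iff _).1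
        (shape_unique D (P := P) (mul_ne_zero hc (hA.mul hA').1) h3)
      have h4 : (PSLAut.δ ((A * A')⁻¹ * (A' * A)) : MulAut PSL₀) = 1 :=
        (PSLAut.δ_eq_one_iff (by have := D.three; omega) _).2 ⟨(c' : F₀), c'.ne_zero, hc'⟩
      rw [map_mul, map_inv, inv_mul_eq_one] at h4
      exact h4
    · rintro h hdet hiso _ ⟨g, a, A, hg, hA, rfl⟩
      let B : isoGrp ((KnownB.PSLAut.diagGL u : GL (Fin n) F₀) : Mn₀) := ⟨h, mem_isoGrp_of_tiso hΓ hiso⟩
      refine ⟨Fr.liftU D B * g * Fr.liftU D B⁻¹, 1 * a * 1, B.1 * A * (B⁻¹).1, ?_,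
        ((Fr.liftU_shape D B).mul hA).mul (Fr.liftU_shape D B⁻¹), ?_⟩
      · rw [map_inv, map_mul, map_mul, map_inv]
        exact hYn _ (Fr.liftU_mem D B hdet) _ hg
      · rw [map_mul, map_mul]
        exact congrArg _ (map_inv (PSLAut.δ : GL (Fin n) F₀ →* MulAut PSL₀) h).symm
  rw [Subgroup.eq_bot_iff_forall]
  intro y hy
  obtain ⟨g, -, rfl⟩ := psu_mem_inn_iff_rep.1 (hY hy).1
  obtain ⟨a, A, e, hA, -⟩ := Fr.shape D (hcent hy)
  refine hA.eq_one_of_right D ?_
  have : (PSLAut.δ A : MulAut PSL₀) ∈ Y₀ := ⟨g, a, A, hy, hA, rfl⟩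
  rwa [hY₀, Subgroup.mem_bot] at this

set_option maxHeartbeats 800000 in
/-- No odd core in the centraliser of a graph involution with diagonal descent. -/
theorem core_graph_psu_diag [Finite F₀] (D : Pair σ τ ι p q n) {u : Fin n → F₀ˣ}
    (Fr : Frame τ ι K (KnownB.PSLAut.diagGL u) P t μ) (h2 : (2 : F₀) ≠ 0) (h31 : n = 3 → u = 1) {o : Fin n}
    (ho : ∀ i, i ≠ o → u i = 1) (hx2 : gautU τ K * gautU τ K = 1) (A : Subgroup (MulAut PU))
    (hinn : ∀ k : PU, MulAut.conj k ∈ A) :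
    Cfsg.pPrimeCore 2 ↥(A ⊓ Subgroup.centralizer {gautU τ K}) = ⊥ ∧
      2 ∣ Nat.card ↥(Cfsg.Inn PU ⊓ Subgroup.centralizer {gautU τ K}) := by
  classical
  haveI : NeZero n := ⟨by have := D.three; omega⟩
  haveI : Finite (MulAut PU) := Finite.of_injective _ DFunLike.coe_injective
  have h2F : (2 : F) ≠ 0 := by rw [← map_ofNat ι 2]; exact (map_ne_zero ι).2 h2
  set d : Fin n → F₀ := fun i => (u i : F₀) with hd
  set Γ₀ : GL (Fin n) F₀ := KnownB.PSLAut.diagGL u with hΓ₀
  have hΓ : (Γ₀ : Mn₀) = diagonal d := rfl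
  let sg : ∀ a b : Fin n, isoGrp (Γ₀ : Mn₀) := fun a b => ⟨sgnGL a b, mem_isoGrp_of_tiso hΓ (sgnGL_iso a b)⟩
  obtain ⟨i, j, k, hij, hki, hkj, hdi, hdj⟩ :
      ∃ i j k : Fin n, i ≠ j ∧ k ≠ i ∧ k ≠ j ∧ d i = 1 ∧ d j = 1 := by
    obtain ⟨i, hio, -⟩ := PSLAut.third D.three o o
    obtain ⟨j, hji, hjo⟩ := PSLAut.third D.three i o
    obtain ⟨k, hki, hkj⟩ := PSLAut.third D.three i j
    exact ⟨i, j, k, hji.symm, hki, hkj, by simp [hd, ho i hio], by simp [hd, ho j hjo]⟩
  constructor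
  swap
  · refine Fr.even_card D (sg i j) (sgnGL_det hij) (Subtype.ext (sgnGL_sq i j)) fun c hc => h2 ?_
    have e1 := congrFun (congrFun hc i) i
    have e2 := congrFun (congrFun hc k) k
    simp [sg, sgnGL_val, hki, hkj] at e1 e2
    linear_combination e2 - e1
  set J : Subgroup (MulAut PU) := Cfsg.Inn PU ⊓ Subgroup.centralizer {gautU τ K} with hJdef
  refine core_eq_bot _ fun N hNH hN hNp => ?_
  have hodd : Odd (Nat.card N) := Nat.coprime_two_right.1 hNp
  have hNJ : N ⊓ J = ⊥ := by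
    by_contra hne
    obtain ⟨Y, hYle, hYn, hYc, hYodd, hY1⟩ := exists_abelian J (N ⊓ J) (fun a ha y hy =>
      ⟨hN a (inn_inf_le A hinn _ ha) y hy.1, J.mul_mem (J.mul_mem ha hy.2) (J.inv_mem ha)⟩)
      (hodd.of_dvd_nat (Subgroup.card_dvd_of_le inf_le_left)) hne
    exact hY1 (Fr.abelian_bot D h2 h31 ho Y (hYle.trans inf_le_right) hYn hYc hYodd)
  refine eq_bot_two_step _ J J N hNH hN (inn_inf_le A hinn _) (inn_inf_normalized A _) le_rfl
    (fun y hy l hl => J.mul_mem (J.mul_mem hy hl) (J.inv_mem hy)) hNJ ?_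
  intro m hmN hmJ
  -- the decomposition comes from the inner part of the semilinear group
  obtain ⟨g, υ, rfl⟩ : ∃ (g : Cfsg.GU n F q) (υ : F ≃+* F), m = δ g * fld υ :=
    D.setting.decomp D.three (fun _ => by
      have h := two_le_q D.setting.card
      rcases h.eq_or_lt with h' | h'
      · exfalso
        haveI := D.setting.char
        haveI := Fact.mk D.setting.prime
        have hp2 : p = 2 := (Nat.prime_dvd_prime_iff_eq D.setting.prime Nat.prime_two).1 (by
          rw [h']; exact D.setting.dvd)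
        subst hp2
        exact h2F CharTwo.two_eq_zero
      · omega) m
  set g' := g * mapGU υ g with hg'
  set υ' := υ * υ with hυ'
  have e : (δ g * fld υ : MulAut PU) * (δ g * fld υ) = δ g' * fld υ' := by
    rw [mul_assoc, ← mul_assoc (fld υ), fld_δ', mul_assoc (δ (mapGU υ g)), ← mul_assoc, ← map_mul δ, ← map_mul fld]
  set G : Mn := coord P g υ with hG
  set G' : Mn := coord P g' υ' with hG'
  have hGG : G * G.map υ = G' := coord_mul P g υ
  refine eq_one_of_sq hodd hmN ?_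
  rw [e]
  have hm'N : (δ g' * fld υ' : MulAut PU) ∈ N := e ▸ N.mul_mem hmN hmN
  refine eq_one_of_sq hodd hm'N ?_
  -- the square has diagonal coordinates
  have hdiag : ∀ r s, r ≠ s → G' r s = 0 := by
    intro r s hrs
    obtain ⟨l, hlr, hls⟩ := PSLAut.third D.three r s
    obtain ⟨c, hc0, hc⟩ := Fr.comm_rel D (hmJ _ (Fr.liftU_mem D (sg r l) (sgnGL_det hlr.symm)))
    set T : Fin n → F := fun x => if x = r ∨ x = l then -1 else 1 with hT
    have hS : ∀ φ : F₀ →+* F, ((sg r l).1 : Mn₀).map φ = diagonal T := fun φ => by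
      show ((sgnGL r l : GL (Fin n) F₀) : Mn₀).map φ = _
      rw [sgnGL_val, diagonal_map (map_zero φ)]
      congr 1
      funext x
      simp only [T, Function.comp_apply]
      split_ifs <;> simp
    rw [hS, hS, ← hG] at hc
    set M : Mn := diagonal T with hM
    have hMM : M * M = 1 := by
      rw [hM, diagonal_mul_diagonal, ← diagonal_one]
      congr 1
      funext x
      simp only [T]
      split_ifs <;> simp
    have hG0 : G ≠ 0 := fun h0 => coord_det_ne P g υ (by rw [← hG, h0, det_zero])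
    have hc2 : c * c = 1 := by
      have h1 : (c * c) • G = G := by
        calc (c * c) • G = c • (c • (G * M) * M) := by rw [smul_mul_assoc, mul_assoc, hMM, mul_one, smul_smul]
          _ = c • (M * G * M) := by rw [← hc]
          _ = M * (c • (G * M)) := by rw [mul_smul_comm, mul_assoc]
          _ = G := by rw [← hc, ← mul_assoc, hMM, one_mul]
      have h3 : (c * c - 1) • G = 0 := by rw [sub_smul, one_smul, h1, sub_self]
      exact sub_eq_zero.1 ((smul_eq_zero.1 h3).resolve_right hG0)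
    have hcυ : υ c = c := by rcases mul_self_eq_one_iff.1 hc2 with h | h <;> simp [h]
    have hMυ : M.map υ = M := by
      rw [hM, diagonal_map (map_zero υ)]
      congr 1
      funext x
      simp only [T, Function.comp_apply]
      split_ifs <;> simp
    have hc' : M * G.map υ = c • (G.map υ * M) := by
      have := congrArg (fun X : Mn => X.map υ) hc
      simpa only [Matrix.map_mul, hMυ, Descent.map_smul_mat, hcυ] using this
    have hcom : M * G' * M = G' := by
      rw [← hGG]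
      calc M * (G * G.map υ) * M = M * G * G.map υ * M := by simp only [mul_assoc]
        _ = c • (G * (M * G.map υ) * M) := by rw [hc, smul_mul_assoc, smul_mul_assoc]; simp only [mul_assoc]
        _ = (c * c) • (G * G.map υ * (M * M)) := by
            rw [hc', mul_smul_comm, smul_mul_assoc, smul_smul]; simp only [mul_assoc]
        _ = _ := by rw [hc2, hMM, one_smul, mul_one]
    have h5 := congrFun (congrFun hcom r) s
    rw [hM, mul_diagonal, diagonal_mul] at h5
    simp only [T, eq_self_iff_true, true_or, if_true, hrs.symm, hls.symm, or_self, if_false, mul_one] at h5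
    have h4 : (2 : F) * G' r s = 0 := by linear_combination -h5
    exact (mul_eq_zero.1 h4).resolve_left h2F
  set T' : Fin n → F := fun x => G' x x with hT'
  have hGd : G' = diagonal T' := by
    ext r s
    rcases eq_or_ne r s with rfl | h
    · simp [T']
    · simp [h, hdiag r s h]
  have hT0 : ∀ x, T' x ≠ 0 := fun x h0 => coord_det_ne P g' υ' (by
    rw [← hG', hGd, det_diagonal]; exact Finset.prod_eq_zero (Finset.mem_univ x) h0)
  have hm'J : ∀ l ∈ J, (δ g' * fld υ' : MulAut PU) * l = l * (δ g' * fld υ') := fun l hl => by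
    rw [← e, mul_assoc, hmJ l hl, ← mul_assoc, hmJ l hl, mul_assoc]
  -- the field part fixes the subfield
  have hsq : ∀ v : F₀, 1 + v * v ≠ 0 → υ' (ι (v * v)) = ι (v * v) := by
    intro v hv
    set a := (1 - v * v) / (1 + v * v) with ha
    set b := 2 * v / (1 + v * v) with hb
    have hab : a * (1 : F₀ ≃+* F₀) a + b * (1 : F₀ ≃+* F₀) b = 1 := by
      rw [RingAut.one_apply, RingAut.one_apply, ha, hb, div_mul_div_comm, div_mul_div_comm, ← add_div,
        div_eq_one_iff_eq (mul_ne_zero hv hv)]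
      ring
    have hA := rot_unitary (σ := (1 : F₀ ≃+* F₀)) (fun _ => rfl) hab
    let B : isoGrp (Γ₀ : Mn₀) := ⟨GeneralLinearGroup.mkOfDetNeZero _ (emb_mk_det_ne hij (rot_det hab)),
      mem_isoGrp_of_tiso hΓ (emb_iso i j hij hdi hdj hA)⟩
    obtain ⟨c, -, hc⟩ := Fr.comm_rel D (hm'J _ (Fr.liftU_mem D B
      (show (emb i j _ : Mn₀).det = 1 by rw [emb_det i j hij, rot_det hab])))
    rw [← hG', hGd] at hc
    have ekk := congrFun (congrFun hc k) k
    have eii := congrFun (congrFun hc i) i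
    simp only [Matrix.smul_apply, Matrix.mul_diagonal, Matrix.diagonal_mul, Matrix.map_apply, smul_eq_mul,
      RingHom.coe_comp, Function.comp_apply] at ekk eii
    change ι ((emb i j _ : Mn₀) k k) * _ = c * (_ * υ' (ι ((emb i j _ : Mn₀) k k))) at ekk
    change ι ((emb i j _ : Mn₀) i i) * _ = c * (_ * υ' (ι ((emb i j _ : Mn₀) i i))) at eii
    simp only [emb_apply i j hij, hki, hkj, if_false, if_true, map_one, one_mul, mul_one] at ekk eii
    have hc1 : c = 1 := mul_right_cancel₀ (hT0 k) (ekk.symm.trans (one_mul _).symm)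
    rw [hc1, one_mul] at eii
    simp only [Matrix.of_apply, Matrix.cons_val', Matrix.cons_val_zero, Matrix.cons_val_fin_one] at eii
    have hτa : υ' (ι a) = ι a := mul_left_cancel₀ (hT0 i) (eii.symm.trans (mul_comm _ _))
    rw [ha, map_div₀ ι, map_div₀ υ', map_sub ι, map_add ι, map_one, map_sub υ', map_add υ', map_one] at hτa
    have hv' : 1 + ι (v * v) ≠ 0 := by rw [← map_one ι, ← map_add]; exact (map_ne_zero ι).2 hv
    have hτv : 1 + υ' (ι (v * v)) ≠ 0 := by rw [← map_one υ', ← map_add]; exact (map_ne_zero υ').2 hv'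
    rw [div_eq_div_iff hτv hv'] at hτa
    have h4 : 2 * (υ' (ι (v * v)) - ι (v * v)) = 0 := by linear_combination -hτa
    exact sub_eq_zero.1 ((mul_eq_zero.1 h4).resolve_left h2F)
  have hsq' : ∀ v : F₀, υ' (ι (v * v)) = ι (v * v) := fun v => by
    by_cases hv : 1 + v * v = 0
    · rw [show v * v = -1 by linear_combination hv, map_neg, map_one, map_neg, map_one]
    · exact hsq v hv
  have hfix : ∀ a : F₀, υ' (ι a) = ι a := fun a => by
    have h4 : (2 * 2 : F) * υ' (ι a) = 2 * 2 * ι a := by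
      calc (2 * 2 : F) * υ' (ι a) = υ' (ι ((a + 1) * (a + 1))) - υ' (ι ((a - 1) * (a - 1))) := by
            rw [← map_sub υ', ← map_sub ι, show (a + 1) * (a + 1) - (a - 1) * (a - 1) = 2 * 2 * a by ring, map_mul,
              map_mul, map_mul, map_mul, map_ofNat, map_ofNat]
        _ = _ := by
            rw [hsq', hsq', ← map_sub ι, show (a + 1) * (a + 1) - (a - 1) * (a - 1) = 2 * 2 * a by ring, map_mul,
              map_mul, map_ofNat]
    exact mul_left_cancel₀ (mul_ne_zero h2F h2F) h4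
  refine Fr.finish D hx2 hfix (hNH hm'N).2 fun z c hc0 hz hzP => ?_
  obtain ⟨a, B, f, hB, hBf⟩ := Fr.shape D hz
  rw [← map_mul]
  refine δ_one_of_scalar (c := a * a * ι f) ?_ ?_
  · refine mul_ne_zero (mul_ne_zero hB.1 hB.1) ((map_ne_zero ι).2 fun hf => ?_)
    rw [hf, zero_smul] at hBf
    exact (((Matrix.isUnit_transpose _).2 B.isUnit).mul Γ₀.isUnit).mul B.isUnit |>.ne_zero hBf
  have h1 : c • G' = a • (B : Mn₀).map ι := by
    refine P.isUnit.mul_left_cancel ?_
    rw [mul_smul_comm, mul_smul_comm, ← hzP, hB.2]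
  have hBoff : ∀ r s, r ≠ s → (B : Mn₀) r s = 0 := fun r s hrs => ι.injective (by
    have := congrFun (congrFun h1 r) s
    rw [Matrix.smul_apply, hdiag r s hrs, smul_zero, Matrix.smul_apply, smul_eq_mul, Matrix.map_apply] at this
    rw [map_zero]
    exact (mul_eq_zero.1 this.symm).resolve_left hB.1)
  have hBd : (B : Mn₀) = diagonal fun x => (B : Mn₀) x x := by
    ext r s
    rcases eq_or_ne r s with rfl | h
    · simp
    · simp [h, hBoff r s h]
  have hBB : (B : Mn₀) * (B : Mn₀) = f • 1 := by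
    have h := hBf
    rw [hBd, hΓ, diagonal_transpose, diagonal_mul_diagonal, diagonal_mul_diagonal, ← diagonal_smul] at h
    have h' := diagonal_injective h
    rw [hBd, diagonal_mul_diagonal, Matrix.smul_one_eq_diagonal]
    congr 1
    funext x
    have := congrFun h' x
    simp only [Pi.smul_apply, smul_eq_mul] at this
    refine mul_right_cancel₀ (u x).ne_zero ?_
    linear_combination this
  refine P.isUnit.mul_right_cancel ?_
  rw [(hB.mul hB).2, Units.val_mul, hBB, map_smul_hom, Matrix.map_one ι ι.map_zero ι.map_one, mul_smul_comm, mul_one,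
    smul_smul, smul_mul_assoc, one_mul]

/-- No odd core in the centraliser of a graph involution with alternating descent. -/
theorem core_graph_psu_symp [Finite F₀] (D : Pair σ τ ι p q n) {m : ℕ} (hm : 2 ≤ m) (e : Fin m ⊕ Fin m ≃ Fin n)
    (Fr : Frame τ ι K (Geometry.GraphPSL.stdK (Geometry.GraphPSL.stdJ m F₀) e (Geometry.GraphPSL.det_stdJ_ne_zero m)) P t μ)
    (h2 : (2 : F₀) ≠ 0) (hx2 : gautU τ K * gautU τ K = 1) (A : Subgroup (MulAut PU))
    (hinn : ∀ k : PU, MulAut.conj k ∈ A) :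
    Cfsg.pPrimeCore 2 ↥(A ⊓ Subgroup.centralizer {gautU τ K}) = ⊥ ∧
      2 ∣ Nat.card ↥(Cfsg.Inn PU ⊓ Subgroup.centralizer {gautU τ K}) := by
  classical
  haveI : NeZero n := ⟨by have := D.three; omega⟩
  haveI : Finite (MulAut PU) := Finite.of_injective _ DFunLike.coe_injective
  haveI := D.setting.char
  haveI := Fact.mk D.setting.prime
  haveI hchar₀ : CharP F₀ p := (RingHom.charP_iff_charP ι p).2 inferInstance
  have h2F : (2 : F) ≠ 0 := by rw [← map_ofNat ι 2]; exact (map_ne_zero ι).2 h2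
  set Γ₀ := Geometry.GraphPSL.stdK (Geometry.GraphPSL.stdJ m F₀) e (Geometry.GraphPSL.det_stdJ_ne_zero m) with hΓ₀
  have hiso : ∀ s : Matrix.symplecticGroup (Fin m) F₀, Geometry.GraphPSL.glMap e (spGL s) ∈ isoGrp (Γ₀ : Mn₀) := fun s => by
    show _ * _ * _ = _
    rw [hΓ₀, Geometry.GraphPSL.stdK_val, Geometry.GraphPSL.glMap_val, transpose_submatrix, submatrix_mul_equiv, submatrix_mul_equiv,
      spGL_val, show s.1ᵀ * Geometry.GraphPSL.stdJ m F₀ * s.1 = Geometry.GraphPSL.stdJ m F₀ from SymplecticGroup.mem_iff'.1 s.2]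
  let ε : Matrix.symplecticGroup (Fin m) F₀ →* isoGrp (Γ₀ : Mn₀) :=
    ((Geometry.GraphPSL.glMap e).toMonoidHom.comp spGL).codRestrict _ hiso
  let φ : Matrix.symplecticGroup (Fin m) F₀ →* MulAut PU := (δ.comp (Fr.liftU D)).comp ε
  have hεdet : ∀ s, ((ε s).1 : Mn₀).det = 1 := fun s => by
    show ((Geometry.GraphPSL.glMap e (spGL s) : GL (Fin n) F₀) : Mn₀).det = 1
    rw [Geometry.GraphPSL.glMap_val, det_submatrix_equiv_self]
    exact SymplecticGroup.det_eq_one s.2
  set J : Subgroup (MulAut PU) := Cfsg.Inn PU ⊓ Subgroup.centralizer {gautU τ K} with hJdef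
  have hLJ : φ.range ≤ J := by
    rintro _ ⟨s, rfl⟩
    exact Fr.liftU_mem D _ (hεdet s)
  let d : Fin m ⊕ Fin m → F₀ := fun i => if i = Sum.inl ⟨0, by omega⟩ ∨ i = Sum.inr ⟨0, by omega⟩ then -1 else 1
  have hd : Matrix.diagonal d ∈ Matrix.symplecticGroup (Fin m) F₀ := by
    refine SymplecticGroup.mem_iff'.2 ?_
    ext i j
    rw [diagonal_transpose, Matrix.mul_diagonal, Matrix.diagonal_mul]
    rcases i with i | i <;> rcases j with j | j <;> simp [Matrix.J, d, Matrix.one_apply] <;>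
      split_ifs <;> simp_all
  have hdsq : (⟨_, hd⟩ : Matrix.symplecticGroup (Fin m) F₀) * ⟨_, hd⟩ = 1 := Subtype.ext (by
    show Matrix.diagonal d * Matrix.diagonal d = 1
    rw [Matrix.diagonal_mul_diagonal, ← Matrix.diagonal_one]
    congr 1
    funext i
    simp only [d]
    split_ifs <;> simp)
  have hdne : ∀ c : F₀, ((ε ⟨_, hd⟩).1 : Mn₀) ≠ c • 1 := by
    intro c hc
    have e0 := congrFun (congrFun hc (e (Sum.inl ⟨0, by omega⟩))) (e (Sum.inl ⟨0, by omega⟩))
    have e1 := congrFun (congrFun hc (e (Sum.inl ⟨1, by omega⟩))) (e (Sum.inl ⟨1, by omega⟩))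
    change Matrix.diagonal d (e.symm _) (e.symm _) = _ at e0 e1
    simp [d, Fin.ext_iff] at e0 e1
    exact h2 (by linear_combination e1 - e0)
  refine ⟨?_, Fr.even_card D _ (hεdet _) (by rw [← map_mul, hdsq, map_one]) hdne⟩
  have hF3 : 3 ≤ Nat.card F₀ := by
    letI := Fintype.ofFinite F₀
    rw [Nat.card_eq_fintype_card]
    by_contra hlt
    have h1 : 1 < Fintype.card F₀ := Fintype.one_lt_card
    have : ((2 : ℕ) : F₀) = 0 := by rw [show 2 = Fintype.card F₀ by omega]; exact Nat.cast_card_eq_zero F₀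
    exact h2 (by exact_mod_cast this)
  refine core_eq_bot _ fun N hNH hN hNp => ?_
  have hodd : Odd (Nat.card N) := Nat.coprime_two_right.1 hNp
  have hLn : ∀ y ∈ J, ∀ l ∈ φ.range, y * l * y⁻¹ ∈ φ.range := by
    rintro y ⟨hy, hyc⟩ _ ⟨s, rfl⟩
    obtain ⟨g, -, rfl⟩ := psu_mem_inn_iff_rep.1 hy
    obtain ⟨a, B, f, hB, hBf⟩ := Fr.shape D hyc
    obtain ⟨h, rfl⟩ := (Geometry.GraphPSL.glMap e (F := F₀)).surjective B
    have hf0 : f ≠ 0 := fun hf => by
      rw [hf, zero_smul] at hBf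
      exact (((Matrix.isUnit_transpose _).2 (Units.isUnit _)).mul Γ₀.isUnit).mul (Units.isUnit _) |>.ne_zero hBf
    rw [hΓ₀, Geometry.GraphPSL.stdK_val] at hBf
    obtain ⟨c, hc⟩ := Geometry.GraphPSL.mem_simJ.1
      ((Geometry.GraphPSL.mem_simJ_glMap e).1 (Geometry.GraphPSL.mem_simJ.2 ⟨Units.mk0 f hf0, hBf⟩))
    set k := h * spGL s * h⁻¹ with hk
    have hkval : (k : Matrix _ _ F₀) * (h : Matrix _ _ F₀) = (h : Matrix _ _ F₀) * s.1 := by
      rw [← Units.val_mul, hk, inv_mul_cancel_right, Units.val_mul, spGL_val]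
    have hmem : (k : Matrix _ _ F₀) ∈ Matrix.symplecticGroup (Fin m) F₀ := by
      refine SymplecticGroup.mem_iff'.2 ?_
      have h1 : ((k : Matrix _ _ F₀) * (h : Matrix _ _ F₀))ᵀ * Geometry.GraphPSL.stdJ m F₀ * ((k : Matrix _ _ F₀) * (h : Matrix _ _ F₀)) =
          (c : F₀) • Geometry.GraphPSL.stdJ m F₀ := by
        rw [hkval, transpose_mul, show (s.1ᵀ * (h : Matrix _ _ F₀)ᵀ) * Geometry.GraphPSL.stdJ m F₀ * ((h : Matrix _ _ F₀) * s.1) =
            s.1ᵀ * ((h : Matrix _ _ F₀)ᵀ * Geometry.GraphPSL.stdJ m F₀ * (h : Matrix _ _ F₀)) * s.1 by simp only [Matrix.mul_assoc],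
          hc, Matrix.mul_smul, Matrix.smul_mul,
          show s.1ᵀ * Geometry.GraphPSL.stdJ m F₀ * s.1 = Geometry.GraphPSL.stdJ m F₀ from SymplecticGroup.mem_iff'.1 s.2]
      rw [← hc, transpose_mul, show ((h : Matrix _ _ F₀)ᵀ * (k : Matrix _ _ F₀)ᵀ) * Geometry.GraphPSL.stdJ m F₀ *
        ((k : Matrix _ _ F₀) * (h : Matrix _ _ F₀)) = (h : Matrix _ _ F₀)ᵀ *
          ((k : Matrix _ _ F₀)ᵀ * Geometry.GraphPSL.stdJ m F₀ * (k : Matrix _ _ F₀)) * (h : Matrix _ _ F₀) by
          simp only [Matrix.mul_assoc]] at h1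
      exact ((Matrix.isUnit_transpose _).2 h.isUnit).mul_right_injective (h.isUnit.mul_left_injective h1)
    refine ⟨⟨_, hmem⟩, ?_⟩
    rw [eq_mul_inv_iff_mul_eq]
    show δ (Fr.liftU D (ε ⟨_, hmem⟩)) * δ g = δ g * δ (Fr.liftU D (ε s))
    rw [← map_mul, ← map_mul]
    refine congrArg δ (Subtype.ext (Units.ext (P.isUnit.mul_right_cancel ?_)))
    rw [((Fr.liftU_shape D _).mul hB).2, (hB.mul (Fr.liftU_shape D _)).2, one_mul, mul_one]
    congr 3
    refine congrArg Units.val ?_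
    show Geometry.GraphPSL.glMap e (spGL ⟨_, hmem⟩) * Geometry.GraphPSL.glMap e h = Geometry.GraphPSL.glMap e h * Geometry.GraphPSL.glMap e (spGL s)
    rw [← map_mul, ← map_mul,
      show spGL (⟨_, hmem⟩ : Matrix.symplecticGroup (Fin m) F₀) = k from Units.ext rfl, hk, inv_mul_cancel_right]
  have hNL : N ⊓ φ.range = ⊥ := by
    set M : Subgroup (Matrix.symplecticGroup (Fin m) F₀) := N.comap φ with hM
    haveI : M.Normal := ⟨fun a ha b => by
      rw [hM, Subgroup.mem_comap, map_mul, map_mul, map_inv]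
      exact hN _ (inn_inf_le A hinn _ (hLJ ⟨b, rfl⟩)) _ ha⟩
    haveI : Nonempty (Fin m) := ⟨⟨0, by omega⟩⟩
    rw [Subgroup.eq_bot_iff_forall]
    rintro _ ⟨hy, s, rfl⟩
    rcases Classical.normal_sp_le_center_or_eq_top (by rw [Fintype.card_fin]; exact hm)
      (Classical.sp_commutator_eq_top' (Or.inr (Or.inl ⟨by rw [Fintype.card_fin]; exact hm, hF3⟩))) M with h | h
    · refine (Fr.liftU_shape D (ε s)).eq_one_of_right D ((PSLAut.δ_eq_one_iff (by have := D.three; omega) _).2 ?_)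
      rcases Classical.mem_center_sp_iff.1 (h (show s ∈ M from hy)) with h' | h'
      · exact ⟨1, one_ne_zero, by
          show ((Geometry.GraphPSL.glMap e (spGL s) : GL (Fin n) F₀) : Mn₀) = _
          rw [Geometry.GraphPSL.glMap_val, spGL_val, h', submatrix_one_equiv, one_smul]⟩
      · refine ⟨-1, neg_ne_zero.2 one_ne_zero, ?_⟩
        show ((Geometry.GraphPSL.glMap e (spGL s) : GL (Fin n) F₀) : Mn₀) = _
        rw [Geometry.GraphPSL.glMap_val, spGL_val, h', submatrix_neg, neg_one_smul]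
        simp only [Pi.neg_apply, submatrix_one_equiv]
    · exfalso
      have hmemN : φ ⟨_, hd⟩ ∈ N := (h ▸ Subgroup.mem_top _ : (⟨_, hd⟩ : Matrix.symplecticGroup (Fin m) F₀) ∈ M)
      obtain ⟨c, -, hc⟩ := (PSLAut.δ_eq_one_iff (by have := D.three; omega) _).1
        ((Fr.liftU_shape D (ε ⟨_, hd⟩)).eq_one_of_left D
          (eq_one_of_sq hodd hmemN ((map_mul φ _ _).symm.trans (by rw [hdsq, map_one]))))
      exact hdne c hc
  refine eq_bot_two_step _ J φ.range N hNH hN (inn_inf_le A hinn _) (inn_inf_normalized A _) hLJ hLn hNL ?_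
  intro y hyN hyL
  obtain ⟨g, υ, rfl⟩ : ∃ (g : Cfsg.GU n F q) (υ : F ≃+* F), y = δ g * fld υ :=
    D.setting.decomp D.three (fun h3 => by
      have : Fintype.card (Fin m ⊕ Fin m) = Fintype.card (Fin n) := Fintype.card_congr e
      simp at this
      omega) y
  set G : Mn := coord P g υ with hG
  set j' : F₀ →+* F := (υ : F →+* F).comp ι with hj'
  set G₂ : Matrix (Fin m ⊕ Fin m) (Fin m ⊕ Fin m) F := G.submatrix e e with hG₂
  have hGe : G = G₂.submatrix e.symm e.symm := by simp [hG₂]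
  have hmap : ∀ (s : Matrix.symplecticGroup (Fin m) F₀) (f : F₀ →+* F),
      ((ε s).1 : Mn₀).map f = (s.1.map f).submatrix e.symm e.symm := fun s f => rfl
  have key : ∀ s : Matrix.symplecticGroup (Fin m) F₀, s ^ p = 1 → s.1.map ι * G₂ = G₂ * s.1.map j' := by
    intro s hs
    obtain ⟨c, -, hc⟩ := Fr.comm_rel D (hyL _ ⟨s, rfl⟩)
    rw [← hG, hmap, hmap, hGe, submatrix_mul_equiv, submatrix_mul_equiv] at hc
    have hc' : s.1.map ι * G₂ = c • (G₂ * s.1.map j') := (Matrix.reindex e e).injective hc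
    have hu : ∀ f : F₀ →+* F, (GeneralLinearGroup.map f (Geometry.GraphPSL.glMap e (spGL s)) : GL (Fin n) F) ^ p = 1 :=
      fun f => by rw [← map_pow, ← map_pow, ← map_pow, hs, map_one, map_one, map_one]
    have hc1 : c = 1 := mult_eq_one (r := p) (g := GeneralLinearGroup.mkOfDetNeZero G (coord_det_ne P g υ))
      (by have := D.three; omega) (hu ι) (hu j') (by
        show ((ε s).1 : Mn₀).map ι * G = c • (G * ((ε s).1 : Mn₀).map j')
        rw [hmap, hmap, hGe, submatrix_mul_equiv, submatrix_mul_equiv]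
        exact hc)
    rw [hc1, one_smul] at hc'
    exact hc'
  have hz : ∀ S : Matrix (Fin m) (Fin m) F₀, p • S = 0 := fun S => by
    rw [← Nat.cast_smul_eq_nsmul F₀, CharP.cast_eq_zero, zero_smul]
  have hup : ∀ (S : Matrix (Fin m) (Fin m) F₀) (hS : Sᵀ = S),
      (⟨_, upperM_mem hS⟩ : Matrix.symplecticGroup (Fin m) F₀) ^ p = 1 := fun S hS => Subtype.ext (by
    rw [SubmonoidClass.coe_pow, OneMemClass.coe_one, upperM_pow, hz, upperM, fromBlocks_one])
  have hlo : ∀ (S : Matrix (Fin m) (Fin m) F₀) (hS : Sᵀ = S),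
      (⟨_, lowerM_mem hS⟩ : Matrix.symplecticGroup (Fin m) F₀) ^ p = 1 := fun S hS => Subtype.ext (by
    rw [SubmonoidClass.coe_pow, OneMemClass.coe_one, lowerM_pow, hz, lowerM, fromBlocks_one])
  obtain ⟨hjj, c, hc0, hc⟩ := sp_scalar_sub (by omega : 0 < m) (g := G₂) (by
      rw [hG₂, det_submatrix_equiv_self]; exact coord_det_ne P g υ) ι j' fun S hS => by
    have h1 := key ⟨_, upperM_mem hS⟩ (hup S hS)
    have h3 := key ⟨_, lowerM_mem hS⟩ (hlo S hS)
    have hu : ∀ f : F₀ →+* F, (upperM S).map f = upperM (S.map f) ∧ (lowerM S).map f = lowerM (S.map f) :=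
      fun f => ⟨by simp [upperM, fromBlocks_map], by simp [lowerM, fromBlocks_map]⟩
    exact ⟨by rw [← (hu ι).1, ← (hu j').1]; exact h1, by rw [← (hu ι).2, ← (hu j').2]; exact h3⟩
  refine eq_one_of_sq hodd hyN (Fr.finish D hx2 (fun a => DFunLike.congr_fun hjj a) (hNH hyN).2
    fun z b hb hz' hzP => ?_)
  rw [← map_mul]
  refine δ_one_of_scalar (c := (b * c) * (b * c)) (mul_ne_zero (mul_ne_zero hb hc0) (mul_ne_zero hb hc0)) ?_
  have hzs : z.1.1 = (b * c) • (1 : Mn) := by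
    refine P.isUnit.mul_right_cancel ?_
    rw [hzP, ← hG, hGe, hc, submatrix_smul, Pi.smul_apply, Pi.smul_apply, submatrix_one_equiv, mul_smul_comm, mul_one,
      smul_smul, smul_mul_assoc, one_mul]
  rw [Subgroup.coe_mul, Units.val_mul, hzs, smul_mul_assoc, one_mul, smul_smul]

/-- An involutory graph automorphism of `PSU_n`, odd characteristic. -/
theorem core_graph_psu [Finite F₀] (D : Pair σ τ ι p q n) (h2 : (2 : F₀) ≠ 0) {x : MulAut PU}
    (hx : Cfsg.IsGraphAutClassPSU x) (hx2 : orderOf x = 2) (A : Subgroup (MulAut PU))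
    (hinn : ∀ k : PU, MulAut.conj k ∈ A) :
    Cfsg.pPrimeCore 2 ↥(A ⊓ Subgroup.centralizer {x}) = ⊥ ∧
      2 ∣ Nat.card ↥(Cfsg.Inn PU ⊓ Subgroup.centralizer {x}) := by
  classical
  haveI : NeZero n := ⟨by have := D.three; omega⟩
  obtain ⟨K, Γ, rfl, ⟨P, t, μ, ht, hμ, hKP, hG⟩, hΓ⟩ := exists_desc D hx hx2
  have Fr : Frame τ ι K Γ P t μ := ⟨ht, hμ, hKP, hG⟩
  have hsq : gautU τ K * gautU τ K = 1 := by rw [← sq, ← hx2, pow_orderOf_eq_one]
  have hdet : ((Γ : Mn₀)).det ≠ 0 := (GeneralLinearGroup.det Γ).ne_zero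
  rcases hΓ with hs | hs
  · rcases Nat.even_or_odd n with he | hon
    · set δ₀ := GeneralLinearGroup.det Γ
      set u : Fin n → F₀ˣ := Function.update 1 ⟨0, by have := D.three; omega⟩ δ₀ with hu
      obtain ⟨R, hR⟩ := Geometry.GraphPSL.congr_of_disc h2 hs
        (J' := ((KnownB.PSLAut.diagGL u : GL (Fin n) F₀) : Mn₀)) (by rw [diagGL_val, diagonal_transpose]) hdet
        (by rw [diagGL_val, det_diagonal]; exact Finset.prod_ne_zero_iff.2 fun i _ => (u i).ne_zero) ⟨(Γ : Mn₀).det, by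
          congr 1
          rw [diagGL_val, det_diagonal, Finset.prod_eq_single ⟨0, by have := D.three; omega⟩
            (fun i _ hi => by rw [hu, Function.update_of_ne hi]; rfl) (by simp)]
          simp [hu, δ₀]⟩
      exact core_graph_psu_diag D (Fr.congr D (d := 1) one_ne_zero (R := R) (by rw [one_smul]; exact hR)) h2
        (fun h => absurd he (by rw [h]; decide)) (o := ⟨0, by have := D.three; omega⟩)
        (fun i hi => by rw [hu, Function.update_of_ne hi]; rfl) hsq A hinn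
    · set δ₀ := GeneralLinearGroup.det Γ
      obtain ⟨R, hR⟩ := Geometry.GraphPSL.congr_of_disc h2 hs (J' := (δ₀ : F₀) • (1 : Mn₀))
        (by rw [transpose_smul, transpose_one]) hdet
        (by rw [det_smul, det_one, mul_one]; exact pow_ne_zero _ δ₀.ne_zero) (by
          obtain ⟨k, hk⟩ := hon
          refine ⟨(δ₀ : F₀) ^ (k + 1), ?_⟩
          rw [det_smul, det_one, mul_one, Fintype.card_fin, ← GeneralLinearGroup.val_det_apply]
          subst hk
          ring)
      exact core_graph_psu_diag D (u := 1) (Fr.congr D δ₀.ne_zero (R := R) (by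
          rw [hR]; simp [KnownB.PSLAut.diagGL])) h2 (fun _ => rfl)
        (o := ⟨0, by have := D.three; omega⟩) (fun _ _ => rfl) hsq A hinn
  · obtain ⟨m, hnm⟩ : Even n := by
      by_contra he
      exact Geometry.GraphPSL.not_skew_odd h2 (Nat.not_even_iff_odd.1 he) Γ hs
    let e : Fin m ⊕ Fin m ≃ Fin n := Fintype.equivFinOfCardEq (by simp; omega)
    have hdiag : ∀ i, (Γ : Mn₀) i i = 0 := fun i => by
      have := congrFun (congrFun hs i) i
      rw [transpose_apply, Matrix.neg_apply, eq_neg_iff_add_eq_zero, ← two_mul] at this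
      exact (mul_eq_zero.1 this).resolve_left h2
    obtain ⟨R, hR⟩ := Geometry.GraphPSL.congr_alt hs hdiag hdet e
    exact core_graph_psu_symp D (by have := D.three; omega) e
      (Fr.congr D (d := 1) one_ne_zero (R := R) (by rw [one_smul]; exact hR)) h2 hsq A hinn

end CfsgLib.FgsC.LocalBalance
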