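import Cfsg.Agent.Lib.FgsC.LocalBalance.PSUField
import Cfsg.Agent.Lib.FgsC.LocalBalance.PSUGraph
import Cfsg.Agent.Lib.Geometry.FieldCriterion

/-!
Local balance failure in `PSU_n`: when a prime order automorphism outside the inner-diagonal group has a
centraliser with nontrivial `p'`-core.
-/

set_option autoImplicit false

namespace CfsgLib.FgsC.LocalBalance

open Matrix CfsgLib.Classical CfsgLib.Classical.Unitary CfsgLib.KnownB.PSUAut

universe u

theorem local_balance_psu (F : Type u) [Field F] [Fintype F] (r : ℕ) [Fact r.Prime] [hchar : CharP F r] (q : ℕ)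
    (hF : Fintype.card F = q ^ 2) (n : ℕ) (hn : 3 ≤ n) (hK : IsSimpleGroup (Cfsg.PSU n F q))
    (A : Subgroup (MulAut (Cfsg.PSU n F q))) (hinn : ∀ k : Cfsg.PSU n F q, MulAut.conj k ∈ A)
    (p : ℕ) [Fact p.Prime] (hpr : p ≠ r) (β : MulAut (Cfsg.PSU n F q)) (hord : orderOf β = p)
    (hnot : ¬ Cfsg.IsInnerDiagonalAutPSU β) :
    Cfsg.pPrimeCore p ↥(A ⊓ Subgroup.centralizer {β}) ≠ ⊥ ↔
      ((∃ γ φ : MulAut (Cfsg.PSU n F q), Cfsg.IsInnerDiagonalAutPSU γ ∧
          (∃ σ : F ≃+* F, Cfsg.IsFieldAutPSUOf σ φ) ∧ β = φ.trans γ) ∧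
        Nat.Coprime p (Nat.card ↥(MonoidHom.eqLocus β.toMonoidHom (MonoidHom.id (Cfsg.PSU n F q))))) := by
  classical
  have hp : p.Prime := Fact.out
  obtain ⟨f, σ, hq, hf, S⟩ := exists_setting_of_card (r := r) hF hn
  have h32 : n = 3 → 3 ≤ q := three_le_of_ne S (psu_three_two_not_simple S.card hK)
  obtain ⟨g, τ, hβ⟩ := S.decomp hn h32 β
  have h1 : ∃ γ φ : MulAut (Cfsg.PSU n F q), Cfsg.IsInnerDiagonalAutPSU γ ∧
      (∃ σ : F ≃+* F, Cfsg.IsFieldAutPSUOf σ φ) ∧ β = φ.trans γ :=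
    ⟨δ g, fld τ, (innerDiag_iff _).2 ⟨g, rfl⟩, ⟨τ, (fieldAut_iff _ _).2 rfl⟩, hβ⟩
  have hτ1 : τ ≠ 1 := fun h => hnot ((innerDiag_iff β).2 ⟨g, by rw [hβ, h, map_one, mul_one]⟩)
  haveI := S.range_δ_normal hn h32
  have hτp : orderOf τ = p := by
    have h2 : (QuotientGroup.mk' (δ : Cfsg.GU n F q →* MulAut (Cfsg.PSU n F q)).range) (β ^ p) = 1 := by
      rw [← hord, pow_orderOf_eq_one, map_one]
    rw [map_pow, hβ, map_mul,
      show (QuotientGroup.mk' (δ : Cfsg.GU n F q →* MulAut (Cfsg.PSU n F q)).range) (δ g) = 1 from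
        (QuotientGroup.eq_one_iff _).2 ⟨g, rfl⟩, one_mul, ← map_pow, ← map_pow] at h2
    exact orderOf_eq_prime (S.fld_mem_range hn ((QuotientGroup.eq_one_iff _).1 h2)) hτ1
  have hcrit : Cfsg.pPrimeCore p ↥(A ⊓ Subgroup.centralizer {β}) ≠ ⊥ ↔
      Nat.Coprime p (Nat.card ↥(MonoidHom.eqLocus β.toMonoidHom (MonoidHom.id (Cfsg.PSU n F q)))) := by
    rcases hp.eq_two_or_odd' with rfl | hodd
    · have h2 : (2 : F) ≠ 0 := fun h =>
        hpr (CharP.eq F (CfsgLib.Geometry.GraphPSL.charTwo_of h) hchar)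
      haveI := Fintype.ofFinite (GaloisField r f)
      obtain ⟨σ', τ', ι, D⟩ := CfsgLib.Geometry.GraphPSU.exists_pair (F := F) (F₀ := GaloisField r f) (p := r) hq hf
        hF (by rw [← Nat.card_eq_fintype_card, GaloisField.card r f (by omega), hq]) hn
      have h2₀ : (2 : GaloisField r f) ≠ 0 := fun h => h2 (by rw [← map_ofNat ι 2, h, map_zero])
      have hx : Cfsg.IsGraphAutClassPSU β :=
        ⟨hn, δ g, fld τ, τ, by rw [hτp]; exact even_two, (innerDiag_iff _).2 ⟨g, rfl⟩, (fieldAut_iff _ _).2 rfl, hβ⟩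
      obtain ⟨hbot, heven⟩ := core_graph_psu D h2₀ hx hord A hinn
      refine ⟨fun h => absurd hbot h, fun h => ?_⟩
      rw [card_fixed (psu_conj_injective S hn) β] at h
      exact absurd heven (Nat.prime_two.coprime_iff_not_dvd.1 h)
    · obtain ⟨hpf, hsub⟩ := exists_sub (p := r) hq hF hp hodd hτp
      have hd : f / p ≠ 0 := Nat.div_ne_zero_iff.2 ⟨hp.ne_zero, Nat.le_of_dvd hf hpf⟩
      haveI := Fintype.ofFinite (GaloisField r (2 * (f / p)))
      obtain ⟨σ₀, ι, B⟩ := hsub (GaloisField r (2 * (f / p)))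
        (by rw [← Nat.card_eq_fintype_card, GaloisField.card r _ (by omega)])
      obtain ⟨a, -, ha⟩ := S.field_coset hn B (δ g) ⟨g, rfl⟩ (by rw [← hβ, hord])
      refine CfsgLib.Geometry.criterion_transport a⁻¹ β A p hinn fun A' hA' => ?_
      rw [show a⁻¹ * β * a⁻¹⁻¹ = fld τ by rw [hβ, ha]; group]
      exact core_field_psu S hn h32 hodd hpr B A' hA'
  rw [hcrit]
  exact ⟨fun h => ⟨h1, h⟩, fun h => h.2⟩

end CfsgLib.FgsC.LocalBalance
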